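import Mathlib
import Groth.Prelude.Def_CohB1
import Groth.Agent.Lib.Helper17.ProjSpace

/-!
# Global functions on projective space

Pure algebra: compatible elements of the charts `R[T]_(T_i)`, `R[T]_(T_j)` (`i ≠ j`) are constants.
-/

set_option autoImplicit false

open MvPolynomial HomogeneousLocalization

namespace Groth.Agent.Lib.Helper96.ProjSpaceGlobal

universe u

variable {n : ℕ} {R : Type u} [CommRing R]

/-- A homogeneous polynomial `F` of degree `k` with `F * T^e₁ = G * T^e₂` and `e₁ i + k ≤ e₂ i` is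
`c * T_i ^ k`. -/
theorem eq_C_mul_X_pow_of_mul_monomial_eq {i : Fin (n + 1)} {k : ℕ}
    {F G : MvPolynomial (Fin (n + 1)) R} (hF : F.IsHomogeneous k) (e₁ e₂ : Fin (n + 1) →₀ ℕ)
    (he : e₁ i + k ≤ e₂ i) (h : F * monomial e₁ 1 = G * monomial e₂ 1) :
    F = C (coeff (Finsupp.single i k) F) * X i ^ k := by
  classical
  ext m
  rw [X_pow_eq_monomial, C_mul_monomial, mul_one, coeff_monomial]
  split_ifs with hm
  · rw [hm]
  · by_contra hne
    have h1 : coeff (m + e₁) (F * monomial e₁ 1) = coeff m F := by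
      rw [coeff_mul_monomial, mul_one]
    rw [h, coeff_mul_monomial'] at h1
    have hle : e₂ ≤ m + e₁ := by
      by_contra hle
      rw [if_neg hle] at h1
      exact hne h1.symm
    have hi : k ≤ m i := by
      have := hle i
      simp only [Finsupp.coe_add, Pi.add_apply] at this
      omega
    have hdeg : m.degree = k := by
      by_contra hd
      exact hne (hF.coeff_eq_zero hd)
    apply hm
    rw [Finsupp.degree_eq_sum, ← Finset.add_sum_erase _ _ (Finset.mem_univ i)] at hdeg
    have hsum : ∑ t ∈ Finset.univ.erase i, m t = 0 := by omega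
    have hmi : m i = k := by omega
    rw [Finset.sum_eq_zero_iff] at hsum
    ext t
    by_cases ht : t = i
    · subst ht
      rw [Finsupp.single_eq_same, hmi]
    · rw [Finsupp.single_eq_of_ne ht]
      exact (hsum t (Finset.mem_erase.mpr ⟨ht, Finset.mem_univ t⟩)).symm

theorem X_mem (i : Fin (n + 1)) :
    (X i : MvPolynomial (Fin (n + 1)) R) ∈ CohB1.polyGrading n R 1 :=
  MvPolynomial.isHomogeneous_X R i

/-- The structure map `R → R[T]_(T_i)`. -/
noncomputable def toAway (i : Fin (n + 1)) : R →+* Away (CohB1.polyGrading n R) (X i) :=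
  (fromZeroRingHom (CohB1.polyGrading n R) (Submonoid.powers (X i))).comp
    (algebraMap R (CohB1.polyGrading n R 0))

theorem val_toAway (i : Fin (n + 1)) (r : R) :
    (toAway i r).val = Localization.mk (C r) (1 : Submonoid.powers (X i : MvPolynomial (Fin (n + 1)) R)) :=
  rfl

theorem mk_eq_toAway (i : Fin (n + 1)) (k : ℕ) (F : MvPolynomial (Fin (n + 1)) R)
    (hF : F ∈ CohB1.polyGrading n R (k • 1)) (r : R) (hFr : F = C r * X i ^ k) :
    Away.mk (CohB1.polyGrading n R) (X_mem i) k F hF = toAway i r := by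
  apply val_injective
  rw [Away.val_mk, val_toAway, Localization.mk_eq_mk_iff, Localization.r_iff_exists]
  refine ⟨1, ?_⟩
  simp only [OneMemClass.coe_one, one_mul]
  rw [hFr]
  ring

theorem exists_eq_toAway_of_awayMap_eq {i j : Fin (n + 1)} (hij : i ≠ j)
    (b : Away (CohB1.polyGrading n R) (X i)) (c : Away (CohB1.polyGrading n R) (X j))
    (h : awayMap (CohB1.polyGrading n R) (X_mem j) (rfl : X i * X j = X i * X j) b =
      awayMap (CohB1.polyGrading n R) (X_mem i) (mul_comm (X i) (X j)) c) :
    ∃ r : R, b = toAway i r ∧ c = toAway j r := by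
  obtain ⟨k, F, hF, rfl⟩ := Away.mk_surjective _ (X_mem i) b
  obtain ⟨l, G, hG, rfl⟩ := Away.mk_surjective _ (X_mem j) c
  have hv := congrArg HomogeneousLocalization.val h
  simp only [Away.mk] at hv
  rw [val_awayMap_mk, val_awayMap_mk, Localization.mk_eq_mk_iff, Localization.r_iff_exists] at hv
  obtain ⟨⟨_, N, rfl⟩, hN⟩ := hv
  simp only at hN
  have key : F * (X i ^ (N + l) * X j ^ (N + l + k)) =
      G * (X i ^ (N + k + l) * X j ^ (N + k)) := by
    calc F * (X i ^ (N + l) * X j ^ (N + l + k))
        = (X i * X j) ^ N * ((X i * X j) ^ l * (F * X j ^ k)) := by ring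
      _ = (X i * X j) ^ N * ((X i * X j) ^ k * (G * X i ^ l)) := hN
      _ = G * (X i ^ (N + k + l) * X j ^ (N + k)) := by ring
  have hmon : ∀ p q : ℕ, (X i ^ p * X j ^ q : MvPolynomial (Fin (n + 1)) R) =
      monomial (Finsupp.single i p + Finsupp.single j q) 1 := by
    intro p q
    rw [X_pow_eq_monomial, X_pow_eq_monomial, monomial_mul, one_mul]
  have key' := key
  rw [hmon, hmon] at key'
  have hF' : F.IsHomogeneous k := by simpa using hF
  have hG' : G.IsHomogeneous l := by simpa using hG
  have hFeq := eq_C_mul_X_pow_of_mul_monomial_eq (i := i) hF' _ _ (by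
    simp only [Finsupp.coe_add, Pi.add_apply, Finsupp.single_eq_same,
      Finsupp.single_eq_of_ne hij]
    omega) key'
  have hGeq := eq_C_mul_X_pow_of_mul_monomial_eq (i := j) hG' _ _ (by
    simp only [Finsupp.coe_add, Pi.add_apply, Finsupp.single_eq_same,
      Finsupp.single_eq_of_ne (Ne.symm hij)]
    omega) key'.symm
  have hrr' : coeff (Finsupp.single i k) F = coeff (Finsupp.single j l) G := by
    have h1 := congrArg (eval (fun _ => (1 : R))) key
    rw [hFeq, hGeq] at h1
    simpa using h1
  refine ⟨coeff (Finsupp.single i k) F, mk_eq_toAway i k F hF _ hFeq, ?_⟩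
  rw [hrr']
  exact mk_eq_toAway j l G hG _ hGeq

section Scheme

open AlgebraicGeometry CategoryTheory

variable (n : ℕ) (R : Type u) [CommRing R]

theorem irrelevant_le_span :
    (HomogeneousIdeal.irrelevant (CohB1.polyGrading n R)).toIdeal ≤
      Ideal.span (Set.range (X : Fin (n + 1) → MvPolynomial (Fin (n + 1)) R)) := by
  rw [HomogeneousIdeal.toIdeal_irrelevant_le]
  intro d hd p hp
  have hp' : p.IsHomogeneous d := hp
  show p ∈ Ideal.span (Set.range (X : Fin (n + 1) → MvPolynomial (Fin (n + 1)) R))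
  rw [← Set.image_univ, MvPolynomial.mem_ideal_span_X_image]
  intro m hm
  by_contra hcon
  push Not at hcon
  have hm0 : m = 0 := by
    ext t
    exact hcon t (Set.mem_univ t)
  subst hm0
  have h0 : coeff 0 p = 0 := hp'.coeff_eq_zero (by simp; omega)
  exact (mem_support_iff.mp hm) h0

/-- The standard affine open cover of projective space. -/
noncomputable def cov : (Proj (CohB1.polyGrading n R)).AffineOpenCover :=
  Proj.affineOpenCoverOfIrrelevantLESpan (CohB1.polyGrading n R)
    (fun i : Fin (n + 1) => (X i : MvPolynomial (Fin (n + 1)) R)) (m := fun _ => 1)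
    (fun i => X_mem i) (fun _ => one_pos) (irrelevant_le_span n R)

/-- The structure morphism, spelled out. -/
noncomputable abbrev toSpec' : Proj (CohB1.polyGrading n R) ⟶ Spec (CommRingCat.of R) :=
  Proj.toSpecZero (CohB1.polyGrading n R) ≫
    Spec.map (CommRingCat.ofHom (algebraMap R (CohB1.polyGrading n R 0)))

variable {n R}

theorem awayι_toSpec' (i : Fin (n + 1)) :
    Proj.awayι (CohB1.polyGrading n R) (X i) (X_mem i) one_pos ≫ toSpec' n R =
      Spec.map (CommRingCat.ofHom (toAway i)) := by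
  rw [toSpec', Proj.awayι_toSpecZero_assoc, ← Spec.map_comp, ← CommRingCat.ofHom_comp]
  rfl

theorem ΓSpecIso_appTop_comp {A B : CommRingCat.{u}} {Y : Scheme.{u}} (φ : A ⟶ B)
    (g : Spec A ⟶ Y) (s : Γ(Y, ⊤)) :
    (Scheme.ΓSpecIso B).hom ((Spec.map φ ≫ g).appTop s) =
      φ ((Scheme.ΓSpecIso A).hom (g.appTop s)) := by
  rw [Scheme.Hom.comp_appTop, CommRingCat.comp_apply, ← CommRingCat.comp_apply,
    Scheme.ΓSpecIso_naturality]
  rfl

theorem toAway_zero_injective : Function.Injective (toAway (n := n) (R := R) 0) := by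
  intro a b hab
  have h := Groth.Agent.Lib.Helper17.awayRetr_comp n R
  have ha := congrArg (fun φ => φ a) h
  have hb := congrArg (fun φ => φ b) h
  simp only [RingHom.comp_apply, RingHom.id_apply] at ha hb
  rw [← ha, ← hb]
  exact congrArg (Groth.Agent.Lib.Helper17.awayRetr n R) hab

theorem appTop_toSpec'_injective : Function.Injective ((toSpec' n R).appTop) := by
  have hsec := Groth.Agent.Lib.Helper17.projSpaceSection'_toSpec n R
  have h1 : (toSpec' n R).appTop ≫ (Groth.Agent.Lib.Helper17.projSpaceSection' n R).appTop =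
      𝟙 _ := by
    rw [← Scheme.Hom.comp_appTop, hsec, Scheme.Hom.id_appTop]
  intro a b hab
  have h2 := congrArg (Groth.Agent.Lib.Helper17.projSpaceSection' n R).appTop hab
  rw [← CommRingCat.comp_apply, ← CommRingCat.comp_apply, h1] at h2
  simpa using h2

theorem appTop_toSpec'_surjective (m : ℕ) :
    Function.Surjective ((toSpec' (m + 1) R).appTop) := by
  intro s
  set b : ∀ i : Fin (m + 1 + 1), Away (CohB1.polyGrading (m + 1) R) (X i) := fun i =>
    (Scheme.ΓSpecIso _).hom
      ((Proj.awayι (CohB1.polyGrading (m + 1) R) (X i) (X_mem i) one_pos).appTop s) with hb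
  have hcompat : ∀ i j : Fin (m + 1 + 1),
      awayMap (CohB1.polyGrading (m + 1) R) (X_mem j) (rfl : X i * X j = X i * X j) (b i) =
      awayMap (CohB1.polyGrading (m + 1) R) (X_mem i) (mul_comm (X i) (X j)) (b j) := by
    intro i j
    have h1 := ΓSpecIso_appTop_comp (CommRingCat.ofHom (awayMap (CohB1.polyGrading (m + 1) R)
      (X_mem j) (rfl : X i * X j = X i * X j)))
      (Proj.awayι (CohB1.polyGrading (m + 1) R) (X i) (X_mem i) one_pos) s
    have h2 := ΓSpecIso_appTop_comp (CommRingCat.ofHom (awayMap (CohB1.polyGrading (m + 1) R)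
      (X_mem i) (mul_comm (X i) (X j))))
      (Proj.awayι (CohB1.polyGrading (m + 1) R) (X j) (X_mem j) one_pos) s
    rw [Proj.SpecMap_awayMap_awayι] at h1 h2
    exact h1.symm.trans h2
  obtain ⟨r, hr0, hr1⟩ := exists_eq_toAway_of_awayMap_eq (Fin.zero_ne_one) (b 0) (b 1)
    (hcompat 0 1)
  have hball : ∀ i, b i = toAway i r := by
    intro i
    by_cases hi : i = 0
    · subst hi; exact hr0
    · obtain ⟨r', h0, hi'⟩ := exists_eq_toAway_of_awayMap_eq (Ne.symm hi) (b 0) (b i)
        (hcompat 0 i)
      have : r' = r := toAway_zero_injective (h0.symm.trans hr0)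
      rw [hi', this]
  refine ⟨(Scheme.ΓSpecIso (CommRingCat.of R)).inv r, ?_⟩
  symm
  apply (cov (m + 1) R).openCover.ext_elem
  intro (i : Fin (m + 1 + 1))
  show (Proj.awayι (CohB1.polyGrading (m + 1) R) (X i) (X_mem i) one_pos).appTop s =
    (Proj.awayι (CohB1.polyGrading (m + 1) R) (X i) (X_mem i) one_pos).appTop
      ((toSpec' (m + 1) R).appTop ((Scheme.ΓSpecIso (CommRingCat.of R)).inv r))
  have h4 : (Proj.awayι (CohB1.polyGrading (m + 1) R) (X i) (X_mem i) one_pos).appTop
      ((toSpec' (m + 1) R).appTop ((Scheme.ΓSpecIso (CommRingCat.of R)).inv r)) =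
      (Spec.map (CommRingCat.ofHom (toAway i))).appTop
        ((Scheme.ΓSpecIso (CommRingCat.of R)).inv r) := by
    rw [← CommRingCat.comp_apply, ← Scheme.Hom.comp_appTop, awayι_toSpec']
  rw [h4]
  apply (ConcreteCategory.bijective_of_isIso (Scheme.ΓSpecIso _).hom).1
  have h3 := ΓSpecIso_appTop_comp (CommRingCat.ofHom (toAway i)) (𝟙 (Spec (CommRingCat.of R)))
    ((Scheme.ΓSpecIso (CommRingCat.of R)).inv r)
  rw [Category.comp_id] at h3
  rw [h3]
  show b i = _
  rw [hball i]
  simp

end Scheme

end Groth.Agent.Lib.Helper96.ProjSpaceGlobal
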