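import Mathlib
import Groth.Prelude.Def_CohTop

/-!
# Inverse limits of towers of abelian sheaves, sectionwise (helper96)
-/

set_option autoImplicit false

namespace Groth.Agent.Lib.Helper96
namespace TowerLim

open CategoryTheory CategoryTheory.Limits Opposite TopologicalSpace

universe u

section Ab

variable (F : ℕᵒᵖ ⥤ AddCommGrpCat.{u})

/-- the transition map `F (n+1) ⟶ F n` -/
abbrev tr (n : ℕ) : F.obj (op (n + 1)) ⟶ F.obj (op n) := F.map (homOfLE (Nat.le_succ n)).op

theorem compat_all (x : ∀ n : ℕ, F.obj (op n))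
    (hx : ∀ n, tr F n (x (n + 1)) = x n) :
    ∀ (m n : ℕ) (h : m ≤ n), F.map (homOfLE h).op (x n) = x m := by
  intro m n h
  induction n, h using Nat.le_induction with
  | base =>
    have : (homOfLE (le_refl m)).op = 𝟙 (op m) := rfl
    rw [this, F.map_id]
    rfl
  | succ n h ih =>
    have : (homOfLE (Nat.le_succ_of_le h)).op =
        (homOfLE (Nat.le_succ n)).op ≫ (homOfLE h).op := rfl
    rw [this, F.map_comp]
    change F.map (homOfLE h).op (tr F n (x (n + 1))) = x m
    rw [hx, ih]

theorem exists_of_compatible {c : Cone F} (hc : IsLimit c) (x : ∀ n : ℕ, F.obj (op n))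
    (hx : ∀ n, tr F n (x (n + 1)) = x n) :
    ∃ y : c.pt, ∀ n, c.π.app (op n) y = x n := by
  have hc' := isLimitOfPreserves (forget AddCommGrpCat.{u}) hc
  let s : (F ⋙ forget AddCommGrpCat.{u}).sections :=
    ⟨fun j : ℕᵒᵖ => x j.unop, by
      intro j j' f
      have h : j'.unop ≤ j.unop := leOfHom f.unop
      have hf : f = (homOfLE h).op := Subsingleton.elim _ _
      rw [hf]
      exact compat_all F x hx _ _ h⟩
  refine ⟨(Types.isLimitEquivSections hc').symm s, fun n => ?_⟩
  exact Types.isLimitEquivSections_symm_apply hc' s (op n)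

theorem ext_of_isLimit {c : Cone F} (hc : IsLimit c) (y y' : c.pt)
    (h : ∀ n : ℕ, c.π.app (op n) y = c.π.app (op n) y') : y = y' :=
  Concrete.isLimit_ext F hc y y' (fun j : ℕᵒᵖ => h j.unop)

/-- lifting compatible sequences along a morphism of towers -/
theorem exists_lift_tower {A B : ℕᵒᵖ ⥤ AddCommGrpCat.{u}} (φ : A ⟶ B)
    (h0 : Function.Surjective (φ.app (op 0)))
    (hstep : ∀ (n : ℕ) (a : A.obj (op n)) (b' : B.obj (op (n + 1))),
      φ.app (op n) a = tr B n b' →
        ∃ a' : A.obj (op (n + 1)), tr A n a' = a ∧ φ.app (op (n + 1)) a' = b')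
    (b : ∀ n : ℕ, B.obj (op n)) (hb : ∀ n, tr B n (b (n + 1)) = b n) :
    ∃ a : ∀ n : ℕ, A.obj (op n), (∀ n, tr A n (a (n + 1)) = a n) ∧
      ∀ n, φ.app (op n) (a n) = b n := by
  have hstep' : ∀ (n : ℕ) (a : {a : A.obj (op n) // φ.app (op n) a = b n}),
      ∃ a' : {a' : A.obj (op (n + 1)) // φ.app (op (n + 1)) a' = b (n + 1)},
        tr A n a'.1 = a.1 := by
    intro n a
    obtain ⟨a', h1, h2⟩ := hstep n a.1 (b (n + 1)) (by rw [a.2, hb])
    exact ⟨⟨a', h2⟩, h1⟩
  obtain ⟨a0, ha0⟩ := h0 (b 0)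
  let T : (n : ℕ) → {a : A.obj (op n) // φ.app (op n) a = b n} := fun n =>
    Nat.rec (motive := fun n => {a : A.obj (op n) // φ.app (op n) a = b n}) ⟨a0, ha0⟩
      (fun n a => Classical.choose (hstep' n a)) n
  refine ⟨fun n => (T n).1, fun n => ?_, fun n => (T n).2⟩
  exact Classical.choose_spec (hstep' n (T n))

/-- surjectivity of the map induced on limits by a morphism of towers -/
theorem surjective_of_tower {A B : ℕᵒᵖ ⥤ AddCommGrpCat.{u}} (φ : A ⟶ B)
    (h0 : Function.Surjective (φ.app (op 0)))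
    (hstep : ∀ (n : ℕ) (a : A.obj (op n)) (b' : B.obj (op (n + 1))),
      φ.app (op n) a = tr B n b' →
        ∃ a' : A.obj (op (n + 1)), tr A n a' = a ∧ φ.app (op (n + 1)) a' = b')
    {cA : Cone A} (hA : IsLimit cA) {cB : Cone B} (hB : IsLimit cB) (ψ : cA.pt ⟶ cB.pt)
    (hψ : ∀ (n : ℕ) (y : cA.pt), cB.π.app (op n) (ψ y) = φ.app (op n) (cA.π.app (op n) y)) :
    Function.Surjective ψ := by
  intro z
  have hb : ∀ n, tr B n (cB.π.app (op (n + 1)) z) = cB.π.app (op n) z := by
    intro n
    have := cB.w (homOfLE (Nat.le_succ n)).op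
    exact congrArg (fun g => g z) this
  obtain ⟨a, ha1, ha2⟩ := exists_lift_tower φ h0 hstep (fun n => cB.π.app (op n) z) hb
  obtain ⟨y, hy⟩ := exists_of_compatible A hA a ha1
  refine ⟨y, ext_of_isLimit B hB _ _ fun n => ?_⟩
  rw [hψ, hy, ha2]

end Ab

section Sheaf

variable {X : TopCat.{u}}

/-- sections over `U` -/
noncomputable abbrev Γ (U : Opens X) : CohTop.Ab X ⥤ AddCommGrpCat.{u} :=
  sheafToPresheaf _ _ ⋙ (evaluation _ _).obj (op U)

/-- the restriction map `F(V) → F(U)` -/
noncomputable abbrev res (F : CohTop.Ab X) {U V : Opens X} (h : U ≤ V) :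
    (Γ V).obj F ⟶ (Γ U).obj F := F.obj.map (homOfLE h).op

theorem res_naturality {F G : CohTop.Ab X} (φ : F ⟶ G) {U V : Opens X} (h : U ≤ V)
    (x : (Γ V).obj F) : res G h ((Γ V).map φ x) = (Γ U).map φ (res F h x) := by
  have := φ.hom.naturality (homOfLE h).op
  exact (congrArg (fun g => g x) this).symm

/-- restriction as a natural transformation between the sections functors -/
noncomputable def resNat {U V : Opens X} (h : U ≤ V) :
    (Γ V : CohTop.Ab X ⥤ AddCommGrpCat.{u}) ⟶ Γ U where
  app F := res F h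
  naturality _ _ φ := (φ.hom.naturality (homOfLE h).op).symm

theorem resNat_app {U V : Opens X} (h : U ≤ V) (F : CohTop.Ab X) :
    (resNat h).app F = res F h := rfl

/-- the cone of sections of the limit cone -/
noncomputable abbrev secCone (M : ℕᵒᵖ ⥤ CohTop.Ab X) (U : Opens X) : Cone (M ⋙ Γ U) :=
  (Γ U).mapCone (limit.cone M)

noncomputable def secIsLimit (M : ℕᵒᵖ ⥤ CohTop.Ab X) (U : Opens X) : IsLimit (secCone M U) :=
  isLimitOfPreserves (Γ U) (limit.isLimit M)

/-- an epimorphism of sheaves with flasque kernel is surjective on sections -/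
theorem surjective_of_epi_of_isFlasque_kernel {F G : CohTop.Ab X} (f : F ⟶ G) [Epi f]
    (hK : TopCat.Sheaf.IsFlasque (kernel f : CohTop.Ab X)) (U : Opens X) :
    Function.Surjective ((Γ U).map f) := by
  let S : ShortComplex (CohTop.Ab X) := ShortComplex.mk (kernel.ι f) f (kernel.condition f)
  have hS : S.ShortExact :=
    { exact := ShortComplex.exact_kernel f
      mono_f := by dsimp [S]; infer_instance
      epi_g := by dsimp [S]; infer_instance }
  have : TopCat.Sheaf.IsFlasque S.X₁ := hK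
  have hepi := TopCat.Sheaf.IsFlasque.epi_of_shortExact (U := U) hS
  exact (AddCommGrpCat.epi_iff_surjective _).mp hepi

/-- sections of the kernel -/
theorem exists_kernel_section {F G : CohTop.Ab X} (f : F ⟶ G) (U : Opens X) (s : (Γ U).obj F)
    (hs : (Γ U).map f s = 0) : ∃ κ : (Γ U).obj (kernel f), (Γ U).map (kernel.ι f) κ = s := by
  let S : ShortComplex (CohTop.Ab X) := ShortComplex.mk (kernel.ι f) f (kernel.condition f)
  have hS : S.Exact := ShortComplex.exact_kernel f
  have hmono : Mono S.f := by dsimp [S]; infer_instance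
  have hS' : (S.map (Γ U)).Exact :=
    hS.map_of_mono_of_preservesKernel (Γ U) hmono inferInstance
  rw [ShortComplex.ab_exact_iff] at hS'
  exact hS' s hs

/-- a morphism of abelian sheaves which is surjective on all sections is an epimorphism -/
theorem epi_of_surjective_sections {F G : CohTop.Ab X} (φ : F ⟶ G)
    (h : ∀ U : Opens X, Function.Surjective ((Γ U).map φ)) : Epi φ := by
  refine (TopCat.Sheaf.isLocallySurjective_iff_epi (X := X) (C := AddCommGrpCat.{u}) φ).mp ?_
  rw [TopCat.Presheaf.isLocallySurjective_iff]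
  intro U t x hx
  obtain ⟨s, hs⟩ := h U t
  refine ⟨U, le_rfl, ⟨s, ?_⟩, hx⟩
  rw [TopCat.Presheaf.restrictOpen, TopCat.Presheaf.restrict]
  have : (homOfLE (le_refl U)).op = 𝟙 (op U) := rfl
  rw [this, G.obj.map_id]
  exact hs

end Sheaf

end TowerLim
end Groth.Agent.Lib.Helper96
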