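import Groth.Agent.Lib.Helper96.SigmaLinBasis

/-!
# Surjectivity of `1 - T` and fixed bases on the bijective part (helper96)
-/

set_option autoImplicit false

namespace Groth.Agent.Lib.Helper96
namespace SigmaLin

universe u v

section Decomp

variable {k : Type u} [Field k] {σ : k →+* k} {V : Type v} [AddCommGroup V] [Module k V]

/-- The restriction of `T` to its eventual image. -/
def restrictWinf [FiniteDimensional k V] (T : V →ₛₗ[σ] V) : Winf T →ₛₗ[σ] Winf T :=
  LinearMap.codRestrict (Winf T) (T.domRestrict (Winf T)) (fun c => mapsTo_Winf T c.2)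

theorem restrictWinf_apply [FiniteDimensional k V] (T : V →ₛₗ[σ] V) (x : Winf T) :
    ((restrictWinf T x : Winf T) : V) = T (x : V) := rfl

theorem span_range_restrictWinf [FiniteDimensional k V] (T : V →ₛₗ[σ] V) :
    Submodule.span k (Set.range ⇑(restrictWinf T)) = ⊤ := by
  apply Submodule.map_injective_of_injective (Winf T).injective_subtype
  rw [Submodule.map_subtype_top, Submodule.map_span]
  conv_rhs => rw [← imgSpan_Winf T]
  rw [imgSpan]
  congr 1
  ext x
  constructor
  · rintro ⟨_, ⟨y, rfl⟩, rfl⟩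
    exact ⟨y, y.2, rfl⟩
  · rintro ⟨y, hy, rfl⟩
    exact ⟨restrictWinf T ⟨y, hy⟩, ⟨⟨y, hy⟩, rfl⟩, rfl⟩

theorem exists_basis_fixed_Winf [FiniteDimensional k V] (T : V →ₛₗ[σ] V)
    (h2 : Hyp2 σ) (h3 : Hyp3 σ) :
    ∃ b : Module.Basis (Fin (Module.finrank k (Winf T))) k (Winf T),
      ∀ i, T (b i : V) = (b i : V) := by
  obtain ⟨b, hb⟩ := exists_basis_fixed (restrictWinf T) (span_range_restrictWinf T) h2 h3
  refine ⟨b, fun i => ?_⟩
  have := congrArg Subtype.val (hb i)
  rwa [restrictWinf_apply] at this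

theorem sub_map_surjective_of_surjective [FiniteDimensional k V] (hσ : Function.Surjective σ)
    (T : V →ₛₗ[σ] V) (h2 : Hyp2 σ) (h3 : Hyp3 σ) :
    Function.Surjective (fun v : V => v - T v) := by
  intro v
  have hv : v ∈ kerInf T ⊔ Winf T := by
    rw [(codisjoint_kerInf_Winf hσ T).eq_top]; trivial
  obtain ⟨a, ha, b, hb, rfl⟩ := Submodule.mem_sup.mp hv
  -- the part in `Winf`
  obtain ⟨b', hb'⟩ := sub_map_surjective (restrictWinf T) (span_range_restrictWinf T) h2 h3 ⟨b, hb⟩
  have hb'' : (b' : V) - T (b' : V) = b := by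
    have := congrArg Subtype.val hb'
    simpa [restrictWinf_apply] using this
  -- the nilpotent part
  obtain ⟨N, hN⟩ := (mem_kerInf_iff T a).mp ha
  have ha' : (∑ i ∈ Finset.range N, (⇑T)^[i] a) - T (∑ i ∈ Finset.range N, (⇑T)^[i] a) = a := by
    rw [map_sum, ← Finset.sum_sub_distrib]
    have : ∀ i ∈ Finset.range N, (⇑T)^[i] a - T ((⇑T)^[i] a) = (⇑T)^[i] a - (⇑T)^[i + 1] a := by
      intro i _
      rw [Function.iterate_succ_apply']
    rw [Finset.sum_congr rfl this, Finset.sum_range_sub', hN]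
    simp
  refine ⟨(∑ i ∈ Finset.range N, (⇑T)^[i] a) + (b' : V), ?_⟩
  simp only
  rw [map_add]
  set A := ∑ i ∈ Finset.range N, (⇑T)^[i] a
  have : A + (b' : V) - (T A + T (b' : V)) = (A - T A) + ((b' : V) - T (b' : V)) := by abel
  rw [this, ha', hb'']

end Decomp

end SigmaLin
end Groth.Agent.Lib.Helper96
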