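import Groth.Agent.Lib.Helper96.SigmaLinFix

/-!
# The Frobenius and its inverse on an algebraically closed field satisfy the
solvability hypotheses (helper96)
-/

set_option autoImplicit false

namespace Groth.Agent.Lib.Helper96
namespace SigmaLin

universe u

open Polynomial

section Poly

variable {k : Type u} [Field k] [IsAlgClosed k]

/-- A polynomial over an algebraically closed field with two nonzero coefficients has a
nonzero root. -/
theorem exists_root_ne_zero_of_two_coeff (P : k[X]) {i j : ℕ} (hij : i ≠ j)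
    (hi : P.coeff i ≠ 0) (hj : P.coeff j ≠ 0) : ∃ z : k, z ≠ 0 ∧ P.eval z = 0 := by
  by_contra hcon
  push Not at hcon
  have hroots : ∀ r ∈ P.roots, r = 0 := by
    intro r hr
    by_contra hr0
    exact hcon r hr0 ((mem_roots'.mp hr).2)
  have hsplit : P.Splits := IsAlgClosed.splits P
  have h1 : P.roots = Multiset.replicate (Multiset.card P.roots) 0 :=
    Multiset.eq_replicate.mpr ⟨rfl, hroots⟩
  have h2 : P = C P.leadingCoeff * X ^ (Multiset.card P.roots) := by
    conv_lhs => rw [hsplit.eq_prod_roots, h1]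
    simp
  have hi' := hi
  have hj' := hj
  rw [h2, coeff_C_mul, coeff_X_pow] at hi' hj'
  have e1 : i = Multiset.card P.roots := by
    by_contra h
    rw [if_neg h, mul_zero] at hi'
    exact hi' rfl
  have e2 : j = Multiset.card P.roots := by
    by_contra h
    rw [if_neg h, mul_zero] at hj'
    exact hj' rfl
  exact hij (e1.trans e2.symm)

end Poly

section Frob

variable (p : ℕ) [Fact p.Prime] (k : Type u) [Field k] [CharP k p] [IsAlgClosed k]

theorem hyp3_frobenius : Hyp3 (frobenius k p) := by
  intro c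
  have hp : p.Prime := Fact.out
  have hdeg : (X ^ p - X + C c : k[X]).degree ≠ 0 := by
    have h1 : (X ^ p - X + C c : k[X]) = X ^ p - (X - C c) := by ring
    have h2 : (X - C c : k[X]).degree < (X ^ p : k[X]).degree := by
      rw [degree_X_sub_C, degree_X_pow]
      exact_mod_cast hp.one_lt
    rw [h1, degree_sub_eq_left_of_degree_lt h2, degree_X_pow]
    exact_mod_cast hp.ne_zero
  obtain ⟨y, hy⟩ := IsAlgClosed.exists_root _ hdeg
  refine ⟨y, ?_⟩
  simpa [frobenius_def] using hy

theorem hyp3_frobeniusEquiv_symm : Hyp3 ((frobeniusEquiv k p).symm : k →+* k) := by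
  intro c
  obtain ⟨z, hz⟩ := hyp3_frobenius p k (-c)
  refine ⟨frobenius k p z, ?_⟩
  change (frobeniusEquiv k p).symm (frobenius k p z) - frobenius k p z + c = 0
  rw [frobeniusEquiv_symm_apply_frobenius]
  linear_combination -hz

end Frob


section Frob2

variable (p : ℕ) [Fact p.Prime] (k : Type u) [Field k] [CharP k p] [IsAlgClosed k]

theorem iterate_frobeniusEquiv_symm_pow (z : k) (l j : ℕ) :
    (⇑((frobeniusEquiv k p).symm : k →+* k))^[j] (z ^ p ^ (l + j)) = z ^ p ^ l := by
  induction j with
  | zero => rfl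
  | succ j ih =>
    rw [Function.iterate_succ_apply, ← add_assoc, pow_succ p (l + j), pow_mul]
    have : ((frobeniusEquiv k p).symm : k →+* k) ((z ^ p ^ (l + j)) ^ p) = z ^ p ^ (l + j) :=
      frobeniusEquiv_symm_pow k p _
    rw [this, ih]

omit [IsAlgClosed k] [CharP k p] in
theorem iterate_injective_of_ringHom (σ : k →+* k) (i : ℕ) : Function.Injective ((⇑σ)^[i]) :=
  Function.Injective.iterate σ.injective i

theorem hyp2_frobeniusEquiv_symm : Hyp2 ((frobeniusEquiv k p).symm : k →+* k) := by
  classical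
  intro n b hb
  have hp : p.Prime := Fact.out
  set σ : k →+* k := ((frobeniusEquiv k p).symm : k →+* k) with hσ
  let c : Fin (n + 1) → k := fun i => (⇑σ)^[i.val] (b (Fin.rev i))
  obtain ⟨j0, hj0⟩ : ∃ j, b j ≠ 0 := by
    by_contra h
    push Not at h
    exact hb (funext h)
  have hc0 : c (Fin.rev j0) ≠ 0 := by
    simp only [c, Fin.rev_rev]
    intro h
    apply hj0
    apply iterate_injective_of_ringHom k σ (Fin.rev j0).val
    rw [h, iterate_map_zero]
  set i0 := Fin.rev j0
  let Q : k[X] := ∑ i : Fin (n + 1), C (c i) * X ^ (p ^ (n - i.val))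
  let P : k[X] := X ^ (p ^ (n + 1)) - Q
  have hpow_inj : ∀ a b' : ℕ, p ^ a = p ^ b' → a = b' := fun a b' h =>
    Nat.pow_right_injective hp.two_le h
  have hQtop : Q.coeff (p ^ (n + 1)) = 0 := by
    simp only [Q, finsetSum_coeff, coeff_C_mul, coeff_X_pow]
    refine Finset.sum_eq_zero fun i _ => ?_
    rw [if_neg, mul_zero]
    intro h
    have := hpow_inj _ _ h
    omega
  have hQi0 : Q.coeff (p ^ (n - i0.val)) = c i0 := by
    simp only [Q, finsetSum_coeff, coeff_C_mul, coeff_X_pow]
    rw [Finset.sum_eq_single i0]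
    · simp
    · intro i _ hi
      rw [if_neg, mul_zero]
      intro h
      have h' := hpow_inj _ _ h
      apply hi
      apply Fin.ext
      have h1 := i.2
      have h2 := i0.2
      omega
    · intro h; exact absurd (Finset.mem_univ _) h
  have hPtop : P.coeff (p ^ (n + 1)) ≠ 0 := by
    simp only [P, coeff_sub, coeff_X_pow, hQtop]
    simp
  have hPi0 : P.coeff (p ^ (n - i0.val)) ≠ 0 := by
    simp only [P, coeff_sub, coeff_X_pow, hQi0]
    rw [if_neg]
    · simpa using hc0
    · intro h
      have := hpow_inj _ _ h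
      omega
  have hne : p ^ (n + 1) ≠ p ^ (n - i0.val) := by
    intro h
    have := hpow_inj _ _ h
    omega
  obtain ⟨z, hz0, hz⟩ := exists_root_ne_zero_of_two_coeff P hne hPtop hPi0
  have hz' : z ^ p ^ (n + 1) = ∑ i : Fin (n + 1), c i * z ^ (p ^ (n - i.val)) := by
    simp only [P, Q, eval_sub, eval_pow, eval_X, eval_finsetSum, eval_mul, eval_C] at hz
    exact sub_eq_zero.mp hz
  refine ⟨z ^ p ^ (n + 1), pow_ne_zero _ hz0, ?_⟩
  conv_lhs => rw [hz']
  refine Finset.sum_congr rfl fun i _ => ?_
  have h1 : n + 1 = (n - i.val) + (i.val + 1) := by have := i.2; omega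
  have h2 : (⇑σ)^[i.val + 1] (z ^ p ^ (n + 1)) = z ^ p ^ (n - i.val) := by
    have h3 : z ^ p ^ (n + 1) = z ^ p ^ ((n - i.val) + (i.val + 1)) := by rw [← h1]
    rw [h3]
    exact iterate_frobeniusEquiv_symm_pow p k z (n - i.val) (i.val + 1)
  rw [h2, mul_comm]

end Frob2

end SigmaLin
end Groth.Agent.Lib.Helper96
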