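import Mathlib

/-!
# Associated primes along a surjection, and the localisation at the elements acting injectively

`S → F` a surjective ring map, `F` Noetherian, `M` a finite `F`-module (also an `S`-module through
`S → F`).  With `Σ = nonZeroSMulDivisors S M`:
* `Ass_S(M)` is the set of contractions of `Ass_F(M)` (hence finite);
* a prime of `S` misses `Σ` iff it lies in a member of `Ass_S(M)`;
* the maximal ideals of `Σ⁻¹S` are the primes contracting to maximal members of `Ass_S(M)`,
  and there are finitely many.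
-/

set_option autoImplicit false

open Submodule

namespace Groth.Agent.Lib.Helper96.AssSurj

variable {S F M : Type*} [CommRing S] [CommRing F] [Algebra S F] [AddCommGroup M] [Module S M]
  [Module F M] [IsScalarTower S F M]

theorem colon_eq_comap (x : M) :
    (⊥ : Submodule S M).colon {x} = ((⊥ : Submodule F M).colon {x}).comap (algebraMap S F) := by
  ext s
  rw [Ideal.mem_comap, mem_colon_singleton, mem_colon_singleton, algebraMap_smul]
  rfl

theorem mem_associatedPrimes_iff (hπ : Function.Surjective (algebraMap S F)) (q : Ideal S) :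
    q ∈ associatedPrimes S M ↔
      ∃ P ∈ associatedPrimes F M, q = P.comap (algebraMap S F) := by
  constructor
  · rintro ⟨hq, x, hx⟩
    rw [colon_eq_comap (F := F), ← Ideal.comap_radical] at hx
    refine ⟨((⊥ : Submodule F M).colon {x}).radical, ⟨?_, x, rfl⟩, hx⟩
    have hker : RingHom.ker (algebraMap S F) ≤ q := by
      rw [hx]
      exact Ideal.comap_mono bot_le
    have := Ideal.map_isPrime_of_surjective hπ hker
    rwa [hx, Ideal.map_comap_of_surjective _ hπ] at this
  · rintro ⟨P, ⟨hP, x, hx⟩, rfl⟩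
    refine ⟨Ideal.IsPrime.comap _, x, ?_⟩
    rw [colon_eq_comap (F := F), ← Ideal.comap_radical, ← hx]

theorem finite_associatedPrimes (hπ : Function.Surjective (algebraMap S F)) [IsNoetherianRing F]
    [Module.Finite F M] : (associatedPrimes S M).Finite := by
  have h : associatedPrimes S M = (Ideal.comap (algebraMap S F)) '' associatedPrimes F M := by
    ext q
    rw [mem_associatedPrimes_iff hπ]
    constructor
    · rintro ⟨P, hP, rfl⟩; exact ⟨P, hP, rfl⟩
    · rintro ⟨P, hP, rfl⟩; exact ⟨P, hP, rfl⟩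
  rw [h]
  exact (associatedPrimes.finite F M).image _

/-- Members of associated primes are zero divisors: an associated prime misses `Σ`. -/
theorem disjoint_of_le_mem_associatedPrimes {q q' : Ideal S} (hq' : q' ∈ associatedPrimes S M)
    (h : q ≤ q') : Disjoint (q : Set S) (nonZeroSMulDivisors S M) := by
  rw [Set.disjoint_left]
  intro s hsq hsnz
  obtain ⟨hprime, x, hx⟩ := hq'
  have hs : s ∈ ((⊥ : Submodule S M).colon {x}).radical := hx ▸ h hsq
  obtain ⟨n, hn⟩ := hs
  rw [mem_colon_singleton, mem_bot] at hn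
  have hx0 : x = 0 := (mem_nonZeroSMulDivisors_iff.mp (pow_mem hsnz n)) x hn
  apply hprime.ne_top
  rw [hx, hx0, Ideal.radical_eq_top, Ideal.eq_top_iff_one, mem_colon_singleton, smul_zero]
  exact zero_mem _

theorem exists_le_of_disjoint (hπ : Function.Surjective (algebraMap S F)) [IsNoetherianRing F]
    [Module.Finite F M] (q : Ideal S) [q.IsPrime]
    (h : Disjoint (q : Set S) (nonZeroSMulDivisors S M)) :
    ∃ q' ∈ associatedPrimes S M, q ≤ q' := by
  classical
  have hfin := associatedPrimes.finite F M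
  have hsub : (q : Set S) ⊆ ⋃ P ∈ (hfin.toFinset : Set (Ideal F)),
      ((P.comap (algebraMap S F) : Ideal S) : Set S) := by
    intro s hs
    have hsnz : s ∉ nonZeroSMulDivisors S M := Set.disjoint_left.mp h hs
    rw [mem_nonZeroSMulDivisors_iff] at hsnz
    push Not at hsnz
    obtain ⟨x, hx, hx0⟩ := hsnz
    have hmem : algebraMap S F s ∈ {r : F | ∃ x : M, x ≠ 0 ∧ r • x = 0} :=
      ⟨x, hx0, by rw [algebraMap_smul]; exact hx⟩
    rw [← biUnion_associatedPrimes_eq_zero_divisors F M] at hmem
    obtain ⟨P, hP, hsP⟩ := Set.mem_iUnion₂.mp hmem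
    exact Set.mem_iUnion₂.mpr ⟨P, by simpa using hP, hsP⟩
  rw [Ideal.subset_union_prime (⊤ : Ideal F) ⊤] at hsub
  · obtain ⟨P, hP, hle⟩ := hsub
    exact ⟨_, (mem_associatedPrimes_iff hπ _).mpr ⟨P, by simpa using hP, rfl⟩, hle⟩
  · intro P hP _ _
    have : P ∈ associatedPrimes F M := by simpa using hP
    have := this.1
    exact Ideal.IsPrime.comap _

theorem disjoint_iff (hπ : Function.Surjective (algebraMap S F)) [IsNoetherianRing F]
    [Module.Finite F M] (q : Ideal S) [q.IsPrime] :
    Disjoint (q : Set S) (nonZeroSMulDivisors S M) ↔ ∃ q' ∈ associatedPrimes S M, q ≤ q' :=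
  ⟨exists_le_of_disjoint hπ q, fun ⟨_, hq', h⟩ => disjoint_of_le_mem_associatedPrimes hq' h⟩

section Loc

variable (L : Type*) [CommRing L] [Algebra S L] [IsLocalization (nonZeroSMulDivisors S M) L]

omit [IsLocalization (nonZeroSMulDivisors S M) L] in
theorem le_of_comap_le (T : Submonoid S) [IsLocalization T L] {Q Q' : Ideal L}
    (h : Q.comap (algebraMap S L) ≤ Q'.comap (algebraMap S L)) : Q ≤ Q' := by
  have := Ideal.map_mono (f := algebraMap S L) h
  rwa [IsLocalization.map_under T L, IsLocalization.map_under T L] at this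

omit [IsLocalization (nonZeroSMulDivisors S M) L] in
theorem eq_of_comap_eq (T : Submonoid S) [IsLocalization T L] {Q Q' : Ideal L}
    (h : Q.comap (algebraMap S L) = Q'.comap (algebraMap S L)) : Q = Q' :=
  le_antisymm (le_of_comap_le L T h.le) (le_of_comap_le L T h.ge)

/-- An associated prime of `M` is the contraction of a prime of the localisation. -/
theorem exists_prime_comap_eq {q' : Ideal S} (hq' : q' ∈ associatedPrimes S M) :
    ∃ Q' : Ideal L, Q'.IsPrime ∧ Q'.comap (algebraMap S L) = q' := by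
  have hd : Disjoint ((nonZeroSMulDivisors S M : Submonoid S) : Set S) (q' : Set S) :=
    (disjoint_of_le_mem_associatedPrimes hq' le_rfl).symm
  exact ⟨q'.map (algebraMap S L),
    IsLocalization.isPrime_of_isPrime_disjoint _ L q' hq'.1 hd,
    IsLocalization.under_map_of_isPrime_disjoint _ L hq'.1 hd⟩

theorem isMaximal_iff (hπ : Function.Surjective (algebraMap S F)) [IsNoetherianRing F]
    [Module.Finite F M] (Q : Ideal L) :
    Q.IsMaximal ↔ (Q.IsPrime ∧
      Maximal (fun r => r ∈ associatedPrimes S M) (Q.comap (algebraMap S L))) := by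
  constructor
  · intro hQ
    have hQp : Q.IsPrime := hQ.isPrime
    refine ⟨hQp, ?_⟩
    have hqd := (IsLocalization.isPrime_iff_isPrime_disjoint (nonZeroSMulDivisors S M) L Q).mp hQp
    have hqprime : (Q.comap (algebraMap S L)).IsPrime := hqd.1
    obtain ⟨q', hq', hle⟩ := exists_le_of_disjoint hπ (Q.comap (algebraMap S L)) hqd.2.symm
    obtain ⟨Q', hQ'p, hQ'⟩ := exists_prime_comap_eq L hq'
    have hQQ' : Q ≤ Q' := le_of_comap_le L (nonZeroSMulDivisors S M) (hQ'.symm ▸ hle)
    have hQeq : Q = Q' := hQ.eq_of_le hQ'p.ne_top hQQ'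
    have hmem : Q.comap (algebraMap S L) ∈ associatedPrimes S M := by
      rw [hQeq, hQ']; exact hq'
    refine ⟨hmem, ?_⟩
    intro q'' hq'' hle''
    obtain ⟨Q'', hQ''p, hQ''⟩ := exists_prime_comap_eq L hq''
    have h1 : Q ≤ Q'' := le_of_comap_le L (nonZeroSMulDivisors S M) (hQ''.symm ▸ hle'')
    have h2 : Q = Q'' := hQ.eq_of_le hQ''p.ne_top h1
    rw [← hQ'', ← h2]
  · rintro ⟨hQp, hmax⟩
    obtain ⟨Q₁, hQ₁max, hQQ₁⟩ := Ideal.exists_le_maximal Q hQp.ne_top
    have hQ₁p : Q₁.IsPrime := hQ₁max.isPrime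
    have hqd := (IsLocalization.isPrime_iff_isPrime_disjoint (nonZeroSMulDivisors S M) L Q₁).mp hQ₁p
    have hqprime : (Q₁.comap (algebraMap S L)).IsPrime := hqd.1
    obtain ⟨q', hq', hle⟩ := exists_le_of_disjoint hπ (Q₁.comap (algebraMap S L)) hqd.2.symm
    have h1 : Q.comap (algebraMap S L) ≤ q' := (Ideal.comap_mono hQQ₁).trans hle
    have h2 : q' ≤ Q.comap (algebraMap S L) := hmax.2 hq' h1
    have h3 : Q₁.comap (algebraMap S L) ≤ Q.comap (algebraMap S L) := hle.trans h2
    have h4 : Q₁ ≤ Q := le_of_comap_le L (nonZeroSMulDivisors S M) h3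
    rw [le_antisymm hQQ₁ h4]
    exact hQ₁max

theorem finite_maximal (hπ : Function.Surjective (algebraMap S F)) [IsNoetherianRing F]
    [Module.Finite F M] : {Q : Ideal L | Q.IsMaximal}.Finite := by
  have hfin := finite_associatedPrimes (M := M) hπ
  refine Set.Finite.of_finite_image (f := Ideal.comap (algebraMap S L)) (hfin.subset ?_) ?_
  · rintro _ ⟨Q, hQ, rfl⟩
    exact ((isMaximal_iff (M := M) L hπ Q).mp hQ).2.1
  · intro Q _ Q' _ h
    exact eq_of_comap_eq L (nonZeroSMulDivisors S M) h

end Loc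

end Groth.Agent.Lib.Helper96.AssSurj
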