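import Mathlib

/-!
# Invertible modules over an integrally closed domain with a contracting homotopy (helper96)

`A` an integrally closed domain, `φ : A →+* A[X]` a ring map with `(φ a).eval 1 = a` and such that
the constant coefficient of every `φ a` is zero or a unit (e.g. `A = k[x]/I` with `I` homogeneous,
`φ (x_d) = x_d X^d`).  Then every invertible `A`-module is free (`free_of_homotopy`).
No Noetherian hypothesis.
-/

set_option autoImplicit false
universe u
open Polynomial

namespace Groth.Agent.Lib.Helper96.ConePic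

section polylemmas

variable {A : Type u} [CommRing A] [IsDomain A] {K : Type u} [Field K] [Algebra A K]
  [IsFractionRing A K]

/-- division by a polynomial with unit constant coefficient descends from `K[X]` to `A[X]`. -/
lemma dvd_of_map_dvd_map (f h : A[X]) (hu : IsUnit (f.coeff 0))
    (hd : f.map (algebraMap A K) ∣ h.map (algebraMap A K)) : f ∣ h := by
  classical
  obtain ⟨q, hq⟩ := hd
  obtain ⟨v, hv⟩ := hu.exists_left_inv
  have key : ∀ n, q.coeff n ∈ (algebraMap A K).range := by
    intro n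
    induction n using Nat.strong_induction_on with
    | _ n ih =>
      have h1 : (h.map (algebraMap A K)).coeff n = (f.map (algebraMap A K) * q).coeff n := by
        rw [hq]
      rw [coeff_map, coeff_mul,
        ← Finset.add_sum_erase _ _ (show (0, n) ∈ Finset.HasAntidiagonal.antidiagonal n by simp)] at h1
      have h2 : ∑ x ∈ (Finset.HasAntidiagonal.antidiagonal n).erase (0, n),
          (f.map (algebraMap A K)).coeff x.1 * q.coeff x.2 ∈ (algebraMap A K).range := by
        refine Subring.sum_mem _ fun x hx => ?_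
        have hx' := Finset.mem_erase.mp hx
        have hsum : x.1 + x.2 = n := Finset.HasAntidiagonal.mem_antidiagonal.mp hx'.2
        have hne : x.1 ≠ 0 := by
          intro h0
          apply hx'.1
          apply Prod.ext
          · exact h0
          · show x.2 = n
            omega
        refine Subring.mul_mem _ ?_ (ih x.2 (by omega))
        rw [coeff_map]
        exact ⟨_, rfl⟩
      have h3 : q.coeff n = algebraMap A K v * (algebraMap A K (h.coeff n) -
          ∑ x ∈ (Finset.HasAntidiagonal.antidiagonal n).erase (0, n),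
            (f.map (algebraMap A K)).coeff x.1 * q.coeff x.2) := by
        rw [h1, add_sub_cancel_right, coeff_map, ← mul_assoc, ← map_mul, hv, map_one, one_mul]
      rw [h3]
      exact Subring.mul_mem _ ⟨_, rfl⟩ (Subring.sub_mem _ ⟨_, rfl⟩ h2)
  obtain ⟨q', hq'⟩ := (Polynomial.mem_lifts _).mp
    ((Polynomial.lifts_iff_coeff_lifts q).mpr fun n => RingHom.mem_range.mp (key n))
  refine ⟨q', ?_⟩
  apply Polynomial.map_injective _ (IsFractionRing.injective A K)
  rw [hq, Polynomial.map_mul, hq']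

/-- Gauss lemma for integrally closed domains, normalised at the constant coefficient. -/
lemma exists_lift_of_dvd [IsIntegrallyClosed A] (g : A[X]) (hu : IsUnit (g.coeff 0)) (fK : K[X])
    (hd : fK ∣ g.map (algebraMap A K)) (h1 : fK.coeff 0 = 1) :
    ∃ f : A[X], f.map (algebraMap A K) = fK := by
  obtain ⟨q, hq⟩ := hd
  have hinj := IsFractionRing.injective A K
  have hg0 : g ≠ 0 := by
    rintro rfl
    rw [coeff_zero] at hu
    exact not_isUnit_zero hu
  have hgK0 : g.map (algebraMap A K) ≠ 0 := (Polynomial.map_ne_zero_iff hinj).mpr hg0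
  have hfK0 : fK ≠ 0 := left_ne_zero_of_mul (hq ▸ hgK0)
  have hq0 : q ≠ 0 := right_ne_zero_of_mul (hq ▸ hgK0)
  have hN : g.natDegree = fK.natDegree + q.natDegree := by
    have h2 := Polynomial.natDegree_mul hfK0 hq0
    rw [← hq, Polynomial.natDegree_map_eq_of_injective hinj] at h2
    exact h2
  obtain ⟨v, hv⟩ := hu.exists_left_inv
  have hrl : ∀ (N : ℕ) {R : Type u} [Semiring R] (p : R[X]), p.natDegree ≤ N →
      (reflect N p).natDegree ≤ N := fun N _ _ p hp =>
    Polynomial.natDegree_reflect_le.trans (max_le le_rfl hp)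
  have hGmonic : (C v * reflect g.natDegree g).Monic := by
    apply Polynomial.monic_of_natDegree_le_of_coeff_eq_one g.natDegree
    · exact (Polynomial.natDegree_C_mul_le _ _).trans (hrl _ g le_rfl)
    · rw [coeff_C_mul, coeff_reflect, revAt_le le_rfl, Nat.sub_self, hv]
  have hdvd : reflect fK.natDegree fK ∣ (C v * reflect g.natDegree g).map (algebraMap A K) := by
    refine ⟨C (algebraMap A K v) * reflect q.natDegree q, ?_⟩
    rw [Polynomial.map_mul, Polynomial.map_C, ← reflect_map, hq, hN,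
      reflect_mul fK q le_rfl le_rfl]
    ring
  obtain ⟨h, hh⟩ := IsIntegrallyClosed.eq_map_mul_C_of_dvd K hGmonic hdvd
  have hcoefF : (reflect fK.natDegree fK).coeff fK.natDegree = 1 := by
    rw [coeff_reflect, revAt_le le_rfl, Nat.sub_self, h1]
  have hlead : (reflect fK.natDegree fK).leadingCoeff = 1 := by
    have hdeg : (reflect fK.natDegree fK).natDegree = fK.natDegree := by
      apply Polynomial.natDegree_eq_of_le_of_coeff_ne_zero (hrl _ fK le_rfl)
      rw [hcoefF]
      exact one_ne_zero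
    rw [Polynomial.leadingCoeff, hdeg, hcoefF]
  rw [hlead, C_1, mul_one] at hh
  refine ⟨reflect fK.natDegree h, ?_⟩
  rw [← reflect_map, hh, reflect_reflect]

end polylemmas

section core

variable {A : Type u} [CommRing A] [IsDomain A] [IsIntegrallyClosed A]

/-- the core: an "invertible" ideal containing an element whose homotopy has unit constant term
is principal. -/
theorem principal_of_homotopy (φ : A →+* A[X]) (hφ1 : ∀ a, (φ a).eval 1 = a)
    (J 𝔟 : Ideal A) (s : A) (hsJ : s ∈ J) (hs𝔟 : s ∈ 𝔟) (hmul : J * 𝔟 = Ideal.span {s})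
    (hs : IsUnit ((φ s).coeff 0)) : ∃ a, J = Ideal.span {a} := by
  let K := FractionRing A
  let mapK : A[X] →+* K[X] := Polynomial.mapRingHom (algebraMap A K)
  have hιinj := IsFractionRing.injective A K
  have hinj : Function.Injective mapK := Polynomial.map_injective _ hιinj
  have hmapK : ∀ p : A[X], mapK p = p.map (algebraMap A K) := fun p => rfl
  -- construction of the normalised generator for an ideal containing `s`
  have construct : ∀ L : Ideal A, s ∈ L → ∃ f : A[X], f.coeff 0 = 1 ∧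
      (L.map φ).map mapK = Ideal.span {mapK f} := by
    intro L hsL
    obtain ⟨f₁, hf₁⟩ := (IsPrincipalIdealRing.principal ((L.map φ).map mapK)).principal
    have hf₁' : (L.map φ).map mapK = Ideal.span {f₁} := hf₁
    have hgmem : mapK (φ s) ∈ Ideal.span {f₁} := by
      rw [← hf₁']
      exact Ideal.mem_map_of_mem _ (Ideal.mem_map_of_mem _ hsL)
    obtain ⟨q, hq⟩ := Ideal.mem_span_singleton.mp hgmem
    have hc0 : (mapK (φ s)).coeff 0 ≠ 0 := by
      rw [hmapK, coeff_map]
      exact fun h0 => hs.ne_zero ((map_eq_zero_iff _ hιinj).mp h0)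
    have hf₁0 : f₁.coeff 0 ≠ 0 := by
      intro h0
      apply hc0
      rw [hq, mul_coeff_zero, h0, zero_mul]
    have hfK0 : (C (f₁.coeff 0)⁻¹ * f₁).coeff 0 = 1 := by
      rw [coeff_C_mul, inv_mul_cancel₀ hf₁0]
    have hspan : Ideal.span {C (f₁.coeff 0)⁻¹ * f₁} = Ideal.span {f₁} := by
      apply le_antisymm
      · rw [Ideal.span_singleton_le_span_singleton]
        exact Dvd.intro_left _ rfl
      · rw [Ideal.span_singleton_le_span_singleton]
        refine ⟨C (f₁.coeff 0), ?_⟩
        rw [mul_comm, ← mul_assoc, ← C_mul, mul_inv_cancel₀ hf₁0, C_1, one_mul]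
    have hdvd : (C (f₁.coeff 0)⁻¹ * f₁) ∣ (φ s).map (algebraMap A K) := by
      refine ⟨C (f₁.coeff 0) * q, ?_⟩
      rw [← hmapK, hq, mul_mul_mul_comm, ← C_mul, inv_mul_cancel₀ hf₁0, C_1, one_mul]
    obtain ⟨f, hf⟩ := exists_lift_of_dvd (φ s) hs _ hdvd hfK0
    refine ⟨f, ?_, ?_⟩
    · apply hιinj
      rw [← coeff_map, hf, hfK0, map_one]
    · rw [hf₁', ← hspan, hmapK, hf]
  obtain ⟨f, hf0, hfspan⟩ := construct J hsJ
  obtain ⟨f'', hf''0, hf''span⟩ := construct 𝔟 hs𝔟
  -- product relation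
  have hprod : Ideal.span {mapK (f * f'')} = Ideal.span {mapK (φ s)} := by
    have h1 : ((J * 𝔟).map φ).map mapK = Ideal.span {mapK (φ s)} := by
      rw [hmul, Ideal.map_span, Set.image_singleton, Ideal.map_span, Set.image_singleton]
    rw [← h1, Ideal.map_mul, Ideal.map_mul, hfspan, hf''span,
      Ideal.span_singleton_mul_span_singleton, map_mul]
  obtain ⟨u, hu⟩ := Ideal.span_singleton_eq_span_singleton.mp hprod
  obtain ⟨c', _, hc'⟩ := Polynomial.isUnit_iff.mp u.isUnit
  have hcoef : c' = algebraMap A K ((φ s).coeff 0) := by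
    have h2 : (mapK (f * f'') * (u : K[X])).coeff 0 = (mapK (φ s)).coeff 0 := by rw [hu]
    rw [← hc', mul_coeff_zero, coeff_C_zero, hmapK, hmapK, coeff_map, coeff_map, mul_coeff_zero,
      hf0, hf''0, one_mul, map_one, one_mul] at h2
    exact h2
  have hgeq : f * f'' * C ((φ s).coeff 0) = φ s := by
    apply hinj
    rw [map_mul, ← hu, ← hc', hcoef, hmapK (C _), Polynomial.map_C]
  -- (b): the extended ideals lie in the principal ideals
  have hb : ∀ (L : Ideal A) (fL : A[X]), fL.coeff 0 = 1 →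
      (L.map φ).map mapK = Ideal.span {mapK fL} → L.map φ ≤ Ideal.span {fL} := by
    intro L fL h0 hsp
    rw [Ideal.map_le_iff_le_comap]
    intro x hx
    rw [Ideal.mem_comap, Ideal.mem_span_singleton]
    apply dvd_of_map_dvd_map (K := K) fL (φ x) (by rw [h0]; exact isUnit_one)
    have h3 : mapK (φ x) ∈ Ideal.span {mapK fL} := by
      rw [← hsp]
      exact Ideal.mem_map_of_mem _ (Ideal.mem_map_of_mem _ hx)
    exact Ideal.mem_span_singleton.mp h3
  -- (a): `f` lies in the extended ideal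
  have hgmem : φ s ∈ J.map φ * Ideal.span {f''} := by
    have h4 : φ s ∈ (J * 𝔟).map φ := by
      rw [hmul]
      exact Ideal.mem_map_of_mem _ (Ideal.mem_span_singleton_self s)
    rw [Ideal.map_mul] at h4
    exact Ideal.mul_mono_right (hb 𝔟 f'' hf''0 hf''span) h4
  obtain ⟨nn, hnn, hnneq⟩ := Ideal.mem_mul_span_singleton.mp hgmem
  have hf''ne : f'' ≠ 0 := by
    intro h
    rw [h, coeff_zero] at hf''0
    exact zero_ne_one hf''0
  have hnn' : nn = f * C ((φ s).coeff 0) := by
    apply mul_right_cancel₀ hf''ne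
    rw [hnneq, mul_right_comm]
    exact hgeq.symm
  obtain ⟨w, hw⟩ := hs.exists_right_inv
  have hfmem : f ∈ J.map φ := by
    have h5 : f = nn * C w := by
      rw [hnn', mul_assoc, ← C_mul, hw, C_1, mul_one]
    rw [h5]
    exact Ideal.mul_mem_right _ _ hnn
  refine ⟨f.eval 1, le_antisymm ?_ ?_⟩
  · intro x hx
    obtain ⟨q, hq⟩ := Ideal.mem_span_singleton.mp (hb J f hf0 hfspan (Ideal.mem_map_of_mem _ hx))
    rw [Ideal.mem_span_singleton]
    exact ⟨q.eval 1, by rw [← eval_mul, ← hq, hφ1]⟩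
  · rw [Ideal.span_singleton_le_iff_mem]
    have hcomp : (Polynomial.evalRingHom (1 : A)).comp φ = RingHom.id A :=
      RingHom.ext fun a => hφ1 a
    have h6 := Ideal.mem_map_of_mem (Polynomial.evalRingHom (1 : A)) hfmem
    rw [Ideal.map_map, hcomp, Ideal.map_id] at h6
    exact h6

end core

section modules

open CommRing Pic

lemma exists_unit_submodule (A : Type u) [CommRing A] [IsDomain A]
    (M : Type u) [AddCommGroup M] [Module A M] [Module.Invertible A M] :
    ∃ I : (Submodule A (FractionRing A))ˣ,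
      Nonempty (M ≃ₗ[A] ((I : Submodule A (FractionRing A)) : Type u)) := by
  have h : Pic.mk A M ∈ relPic A (FractionRing A) := Subsingleton.elim ..
  rw [← Submodule.range_unitsToPic] at h
  obtain ⟨I, eq⟩ := h
  exact ⟨I, mk_eq_mk_iff.mp eq.symm⟩

theorem free_of_homotopy (A : Type u) [CommRing A] [IsDomain A] [IsIntegrallyClosed A]
    (φ : A →+* A[X]) (hφ1 : ∀ a, (φ a).eval 1 = a)
    (hφ0 : ∀ a, (φ a).coeff 0 = 0 ∨ IsUnit ((φ a).coeff 0))
    (M : Type u) [AddCommGroup M] [Module A M] [Module.Invertible A M] : Module.Free A M := by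
  obtain ⟨I, ⟨e⟩⟩ := exists_unit_submodule A M
  have hinj := IsFractionRing.injective A (FractionRing A)
  have hII : (I : Submodule A (FractionRing A)) *
      ((I⁻¹ : (Submodule A (FractionRing A))ˣ) : Submodule A (FractionRing A)) = 1 :=
    Units.mul_inv I
  generalize hI₁ : (I : Submodule A (FractionRing A)) = I₁ at hII e
  generalize hI₂ : ((I⁻¹ : (Submodule A (FractionRing A))ˣ) : Submodule A (FractionRing A)) = I₂
    at hII
  have hone : ∀ z ∈ I₁ * I₂, ∃ a : A, algebraMap A (FractionRing A) a = z := by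
    intro z hz
    rw [hII] at hz
    exact Submodule.mem_one.mp hz
  have step1 : ∀ z (hz : z ∈ I₁ * I₂), ∀ a : A, algebraMap A (FractionRing A) a = z →
      (φ a).coeff 0 ≠ 0 → ∃ x ∈ I₁, ∃ y ∈ I₂, ∃ s : A,
        algebraMap A (FractionRing A) s = x * y ∧ (φ s).coeff 0 ≠ 0 := by
    intro z hz
    refine Submodule.mul_induction_on' (C := fun z _ => ∀ a : A,
      algebraMap A (FractionRing A) a = z → (φ a).coeff 0 ≠ 0 → ∃ x ∈ I₁, ∃ y ∈ I₂, ∃ s : A,
        algebraMap A (FractionRing A) s = x * y ∧ (φ s).coeff 0 ≠ 0) ?_ ?_ hz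
    · intro x hx y hy a ha hne
      exact ⟨x, hx, y, hy, a, ha, hne⟩
    · intro z₁ hz₁ z₂ hz₂ ih₁ ih₂ a ha hne
      obtain ⟨a₁, ha₁⟩ := hone z₁ hz₁
      obtain ⟨a₂, ha₂⟩ := hone z₂ hz₂
      have haa : a = a₁ + a₂ := hinj (by rw [ha, map_add, ha₁, ha₂])
      by_cases h1 : (φ a₁).coeff 0 = 0
      · by_cases h2 : (φ a₂).coeff 0 = 0
        · exfalso
          apply hne
          rw [haa, map_add, coeff_add, h1, h2, add_zero]
        · exact ih₂ a₂ ha₂ h2
      · exact ih₁ a₁ ha₁ h1
  have h1mem : (1 : FractionRing A) ∈ I₁ * I₂ := by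
    rw [hII]
    exact Submodule.mem_one.mpr ⟨1, map_one _⟩
  obtain ⟨x, hx, y, hy, s, hsxy, hs0⟩ := step1 1 h1mem 1 (map_one _) (by
    rw [map_one, coeff_one_zero]
    exact one_ne_zero)
  have hsunit : IsUnit ((φ s).coeff 0) := (hφ0 s).resolve_left hs0
  let J : Ideal A := Submodule.comap (Algebra.linearMap A (FractionRing A))
    (Submodule.map (LinearMap.mulLeft A y) I₁)
  let 𝔟 : Ideal A := Submodule.comap (Algebra.linearMap A (FractionRing A))
    (Submodule.map (LinearMap.mulLeft A x) I₂)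
  have hJ : ∀ a, a ∈ J ↔ ∃ i ∈ I₁, y * i = algebraMap A (FractionRing A) a := fun a => Iff.rfl
  have h𝔟 : ∀ a, a ∈ 𝔟 ↔ ∃ i ∈ I₂, x * i = algebraMap A (FractionRing A) a := fun a => Iff.rfl
  have hsJ : s ∈ J := (hJ s).mpr ⟨x, hx, by rw [hsxy, mul_comm]⟩
  have hs𝔟 : s ∈ 𝔟 := (h𝔟 s).mpr ⟨y, hy, hsxy.symm⟩
  have step2 : ∀ z (hz : z ∈ I₁ * I₂), ∀ c : A,
      algebraMap A (FractionRing A) c = (x * y) * z → c ∈ J * 𝔟 := by
    intro z hz
    refine Submodule.mul_induction_on' (C := fun z _ => ∀ c : A,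
      algebraMap A (FractionRing A) c = (x * y) * z → c ∈ J * 𝔟) ?_ ?_ hz
    · intro i hi i' hi' c hc
      obtain ⟨a, ha⟩ := hone (i * y) (Submodule.mul_mem_mul hi hy)
      obtain ⟨b, hb⟩ := hone (x * i') (Submodule.mul_mem_mul hx hi')
      have hcab : c = a * b := hinj (by
        rw [hc, map_mul, ha, hb]
        ring)
      rw [hcab]
      exact Ideal.mul_mem_mul ((hJ a).mpr ⟨i, hi, by rw [ha, mul_comm]⟩)
        ((h𝔟 b).mpr ⟨i', hi', hb.symm⟩)
    · intro z₁ hz₁ z₂ hz₂ ih₁ ih₂ c hc
      obtain ⟨a₁, ha₁⟩ := hone z₁ hz₁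
      obtain ⟨a₂, ha₂⟩ := hone z₂ hz₂
      have hcs : c = s * a₁ + s * a₂ := hinj (by
        rw [hc, map_add, map_mul, map_mul, hsxy, ha₁, ha₂]
        ring)
      rw [hcs]
      exact Ideal.add_mem _ (ih₁ _ (by rw [map_mul, hsxy, ha₁])) (ih₂ _ (by rw [map_mul, hsxy, ha₂]))
  have hmul : J * 𝔟 = Ideal.span {s} := by
    apply le_antisymm
    · rw [Ideal.mul_le]
      intro a ha b hb
      obtain ⟨i, hi, hia⟩ := (hJ a).mp ha
      obtain ⟨i', hi', hib⟩ := (h𝔟 b).mp hb
      obtain ⟨c, hc⟩ := hone (i * i') (Submodule.mul_mem_mul hi hi')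
      rw [Ideal.mem_span_singleton']
      refine ⟨c, hinj ?_⟩
      rw [map_mul, map_mul, hc, hsxy, ← hia, ← hib]
      ring
    · rw [Ideal.span_singleton_le_iff_mem]
      exact step2 1 h1mem s (by rw [hsxy, mul_one])
  obtain ⟨a, ha⟩ := principal_of_homotopy φ hφ1 J 𝔟 s hsJ hs𝔟 hmul hsunit
  have hs_ne : s ≠ 0 := by
    rintro rfl
    rw [map_zero, coeff_zero] at hs0
    exact hs0 rfl
  have hy_ne : y ≠ 0 := by
    rintro rfl
    rw [mul_zero] at hsxy
    exact hs_ne (hinj (by rw [hsxy, map_zero]))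
  have ha_ne : a ≠ 0 := by
    rintro rfl
    have : s ∈ Ideal.span ({0} : Set A) := ha ▸ hsJ
    rw [Ideal.span_singleton_eq_bot.mpr rfl, Ideal.mem_bot] at this
    exact hs_ne this
  -- the generator of `I₁`
  have haJ : a ∈ J := ha ▸ Ideal.mem_span_singleton_self a
  obtain ⟨w, hwI, hwa⟩ := (hJ a).mp haJ
  have hw_ne : w ≠ 0 := by
    rintro rfl
    rw [mul_zero] at hwa
    exact ha_ne (hinj (by rw [← hwa, map_zero]))
  have hspan : I₁ = Submodule.span A {w} := by
    apply le_antisymm
    · intro i hi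
      obtain ⟨a', ha'⟩ := hone (i * y) (Submodule.mul_mem_mul hi hy)
      have ha'J : a' ∈ J := (hJ a').mpr ⟨i, hi, by rw [ha', mul_comm]⟩
      rw [ha, Ideal.mem_span_singleton'] at ha'J
      obtain ⟨c, hc⟩ := ha'J
      rw [Submodule.mem_span_singleton]
      refine ⟨c, ?_⟩
      apply mul_left_cancel₀ hy_ne
      rw [Algebra.smul_def, mul_left_comm, hwa, ← map_mul, hc, ha', mul_comm]
    · rw [Submodule.span_le, Set.singleton_subset_iff]
      exact hwI
  have e1 : A ≃ₗ[A] (Submodule.span A {w}) :=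
    LinearEquiv.toSpanNonzeroSingleton A (FractionRing A) w hw_ne
  have e2 : A ≃ₗ[A] M := e1 ≪≫ₗ (LinearEquiv.ofEq _ _ hspan.symm) ≪≫ₗ e.symm
  exact Module.Free.of_equiv e2

end modules

end Groth.Agent.Lib.Helper96.ConePic
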