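import Mathlib

/-! η-étale maps over a DVR of mixed characteristic: the forward direction (helper96). -/

set_option autoImplicit false
set_option linter.style.haveILetI false

open TensorProduct KaehlerDifferential

namespace Groth.Agent.Lib.Helper96.EtaEtale

universe u

/-- In a DVR of characteristic zero with residue characteristic `p`, `p = u ϖ ^ e` with `e ≥ 1`. -/
theorem exists_p_eq (V : Type*) [CommRing V] [IsDomain V] [IsDiscreteValuationRing V] [CharZero V]
    (ϖ : V) (hϖ : Irreducible ϖ) (p : ℕ) [Fact p.Prime]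
    [CharP (IsLocalRing.ResidueField V) p] :
    ∃ (u : Vˣ) (e : ℕ), 1 ≤ e ∧ (p : V) = u * ϖ ^ e := by
  have hp0 : (p : V) ≠ 0 := Nat.cast_ne_zero.mpr (Fact.out : p.Prime).ne_zero
  obtain ⟨n, u, hu⟩ := IsDiscreteValuationRing.eq_unit_mul_pow_irreducible hp0 hϖ
  refine ⟨u, n, ?_, hu⟩
  by_contra hn
  have hn0 : n = 0 := by omega
  subst hn0
  rw [pow_zero, mul_one] at hu
  have hres : IsLocalRing.residue V (p : V) = 0 := by
    rw [map_natCast]
    exact CharP.cast_eq_zero _ p
  rw [IsLocalRing.residue_eq_zero_iff, IsLocalRing.mem_maximalIdeal, mem_nonunits_iff, hu] at hres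
  exact hres u.isUnit

/-- A finitely generated module whose localization away from `s` vanishes is killed by a power
of `s`. -/
theorem exists_pow_smul_eq_zero {R M : Type*} [CommRing R] [AddCommGroup M] [Module R M]
    [Module.Finite R M] (s : R) (h : ∀ m : M, ∃ k : ℕ, s ^ k • m = 0) :
    ∃ k : ℕ, ∀ m : M, s ^ k • m = 0 := by
  classical
  obtain ⟨G, hG⟩ := (Module.Finite.fg_top : (⊤ : Submodule R M).FG)
  choose k hk using h
  refine ⟨∑ g ∈ G, k g, fun m => ?_⟩
  have hle : Submodule.span R (G : Set M) ≤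
      LinearMap.ker (LinearMap.lsmul R M (s ^ ∑ g ∈ G, k g)) := by
    rw [Submodule.span_le]
    intro g hg
    have hkg : k g ≤ ∑ g ∈ G, k g := Finset.single_le_sum (fun _ _ => Nat.zero_le _) hg
    change LinearMap.lsmul R M (s ^ ∑ g ∈ G, k g) g = 0
    rw [LinearMap.lsmul_apply, ← Nat.sub_add_cancel hkg, pow_add, mul_smul, hk g, smul_zero]
  have hm : m ∈ Submodule.span R (G : Set M) := hG ▸ Submodule.mem_top
  exact hle hm

/-- The forward direction: an η-étale map has `p ^ n Ω` vanishing along the closed fibre. -/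
theorem forward (V : Type u) [CommRing V] [IsDomain V] [IsDiscreteValuationRing V] [CharZero V]
    (ϖ : V) (hϖ : Irreducible ϖ) (p : ℕ) [Fact p.Prime]
    [CharP (IsLocalRing.ResidueField V) p]
    (A : Type u) [CommRing A] [Algebra V A] [Algebra.FiniteType V A]
    (R : Type u) [CommRing R] [Algebra V R] [Algebra.FiniteType V R] [Algebra A R]
    [IsScalarTower V A R] (a : R)
    (hcop : Ideal.span {a} ⊔ Ideal.span {algebraMap V R ϖ} = ⊤)
    (het : ((algebraMap R (Localization.Away (a * algebraMap V R ϖ))).comp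
      (algebraMap A R)).Etale) :
    ∃ n : ℕ, Ideal.span {((p : R)) ^ n} • (⊤ : Submodule R (Ω[R⁄A])) ≤
      Ideal.span {algebraMap V R ϖ * (p : R) ^ n} • (⊤ : Submodule R (Ω[R⁄A])) := by
  set ϖR := algebraMap V R ϖ with hϖR
  set s := a * ϖR with hs
  haveI : Algebra.FiniteType A R := Algebra.FiniteType.of_restrictScalars_finiteType V A R
  have hcomp : (algebraMap R (Localization.Away s)).comp (algebraMap A R) =
      algebraMap A (Localization.Away s) :=
    (IsScalarTower.algebraMap_eq A R (Localization.Away s)).symm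
  rw [hcomp, RingHom.etale_algebraMap] at het
  haveI := het
  -- the localized differentials vanish
  let e : Localization.Away s ⊗[R] Ω[R⁄A] ≃ₗ[Localization.Away s] Ω[Localization.Away s⁄A] :=
    tensorKaehlerEquivOfFormallyEtale A R (Localization.Away s)
  haveI : Subsingleton (Localization.Away s ⊗[R] Ω[R⁄A]) := e.toEquiv.subsingleton
  haveI : IsLocalizedModule (Submonoid.powers s)
      (TensorProduct.mk R (Localization.Away s) Ω[R⁄A] 1) :=
    (isLocalizedModule_iff_isBaseChange (Submonoid.powers s) (Localization.Away s) _).mpr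
      (TensorProduct.isBaseChange R Ω[R⁄A] (Localization.Away s))
  have hpt : ∀ ω : Ω[R⁄A], ∃ k : ℕ, s ^ k • ω = 0 := by
    intro ω
    have h0 : TensorProduct.mk R (Localization.Away s) Ω[R⁄A] 1 ω = 0 := Subsingleton.elim _ _
    obtain ⟨⟨c, k, rfl⟩, hc⟩ := (IsLocalizedModule.eq_zero_iff (Submonoid.powers s) _).mp h0
    exact ⟨k, hc⟩
  obtain ⟨k, hk⟩ := exists_pow_smul_eq_zero s hpt
  -- arithmetic
  obtain ⟨u0, e0, he0, hp⟩ := exists_p_eq V ϖ hϖ p
  set uR := algebraMap V R (u0 : V) with huR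
  have hpR : (p : R) = uR * ϖR ^ e0 := by
    have : (p : R) = algebraMap V R (p : V) := (map_natCast (algebraMap V R) p).symm
    rw [this, hp, map_mul, map_pow]
  have hcopr : IsCoprime a ϖR :=
    (Ideal.isCoprime_span_singleton_iff a ϖR).mp (Ideal.isCoprime_iff_sup_eq.mpr hcop)
  obtain ⟨u, v, huv⟩ := (hcopr.pow_left (m := k))
  refine ⟨k, ?_⟩
  rw [Submodule.smul_le]
  intro r hr ω _
  obtain ⟨c, rfl⟩ := Ideal.mem_span_singleton'.mp hr
  have hPk : (p : R) ^ k = uR ^ k * ϖR ^ (e0 * k - k) * ϖR ^ k := by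
    rw [hpR, mul_pow, ← pow_mul, mul_assoc, ← pow_add]
    congr 2
    have : k ≤ e0 * k := Nat.le_mul_of_pos_left k he0
    omega
  have hsk : s ^ k = a ^ k * ϖR ^ k := by rw [hs, mul_pow]
  have key : (c * (p : R) ^ k) • ω =
      (ϖR * (p : R) ^ k) • ((c * v) • ω) := by
    have h1 : (c * (p : R) ^ k) • ω - (ϖR * (p : R) ^ k) • ((c * v) • ω) =
        (c * u * uR ^ k * ϖR ^ (e0 * k - k)) • (s ^ k • ω) := by
      rw [smul_smul, smul_smul, ← sub_smul]
      congr 1
      rw [hsk]
      linear_combination (-(c * (p : R) ^ k)) * huv + (c * u * a ^ k) * hPk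
    rw [hk ω, smul_zero, sub_eq_zero] at h1
    exact h1
  rw [key]
  exact Submodule.smul_mem_smul (Ideal.mem_span_singleton_self _) Submodule.mem_top

end Groth.Agent.Lib.Helper96.EtaEtale
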