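import Mathlib

/-! Unramified maps between smooth algebras of the same rank are étale (helper96). -/

set_option autoImplicit false
set_option linter.style.haveILetI false

open TensorProduct KaehlerDifferential

namespace Groth.Agent.Lib.Helper96.EtaleOfRank

/-- Let `B → R'` be a formally unramified map of `K`-algebras such that `B` is formally smooth over
`K` with `Ω[B/K]` finite of constant rank `d`, and `R'` is formally étale over a formally smooth
finite type `K`-algebra `C` with `Ω[C/K]` of constant rank `d`. Then `R'` is formally étale over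
`B`. -/
theorem formallyEtale_of_rank_eq (K B C R' : Type*) [CommRing K] [CommRing B] [CommRing C]
    [CommRing R'] [Algebra K B] [Algebra K C] [Algebra K R'] [Algebra B R'] [Algebra C R']
    [IsScalarTower K B R'] [IsScalarTower K C R']
    [Algebra.FormallySmooth K B] [Module.Finite B Ω[B⁄K]]
    [Algebra.FormallySmooth K C] [Module.Finite C Ω[C⁄K]]
    [Algebra.FormallyEtale C R'] [Algebra.FormallyUnramified B R'] (d : ℕ)
    (hB : ∀ p : PrimeSpectrum B, Module.rankAtStalk Ω[B⁄K] p = d)
    (hC : ∀ p : PrimeSpectrum C, Module.rankAtStalk Ω[C⁄K] p = d) :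
    Algebra.FormallyEtale B R' := by
  -- `R'` is formally smooth over `K`
  haveI : Algebra.FormallySmooth K R' := Algebra.FormallySmooth.comp K C R'
  -- the target
  let e : R' ⊗[C] Ω[C⁄K] ≃ₗ[R'] Ω[R'⁄K] := tensorKaehlerEquivOfFormallyEtale K C R'
  haveI : Module.Finite R' Ω[R'⁄K] := Module.Finite.equiv e
  haveI : Module.Flat R' Ω[R'⁄K] := Module.Flat.of_linearEquiv e.symm
  have hr1 : ∀ p : PrimeSpectrum R', Module.rankAtStalk (R' ⊗[B] Ω[B⁄K]) p = d := by
    intro p
    rw [Module.rankAtStalk_baseChange, hB]
  have hr2 : ∀ p : PrimeSpectrum R', Module.rankAtStalk Ω[R'⁄K] p = d := by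
    intro p
    rw [← Module.rankAtStalk_eq_of_equiv e, Module.rankAtStalk_baseChange, hC]
  -- surjectivity
  have hsurj : Function.Surjective (mapBaseChange K B R') := by
    intro x
    exact (KaehlerDifferential.exact_mapBaseChange_map K B R' x).mp (Subsingleton.elim _ _)
  have hbij := Module.bijective_of_surjective_of_rankAtStalk_eq hsurj
    (fun m _ => by rw [hr1, hr2])
  -- vanishing of `H¹`
  have hH1 : Subsingleton (Algebra.H1Cotangent B R') := by
    refine ⟨fun x y => ?_⟩
    have key : ∀ z : Algebra.H1Cotangent B R', z = 0 := by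
      intro z
      have h1 : mapBaseChange K B R' (Algebra.H1Cotangent.δ K B R' z) = 0 :=
        (Algebra.H1Cotangent.exact_δ_mapBaseChange K B R' _).mpr ⟨z, rfl⟩
      have h2 : Algebra.H1Cotangent.δ K B R' z = 0 := hbij.1 (by rw [h1, map_zero])
      obtain ⟨w, hw⟩ := (Algebra.H1Cotangent.exact_map_δ K B R' z).mp h2
      rw [← hw, Subsingleton.elim w 0, map_zero]
    rw [key x, key y]
  haveI : Algebra.FormallySmooth B R' :=
    ⟨Module.Projective.of_free, hH1⟩
  exact Algebra.FormallyEtale.of_formallyUnramified_and_formallySmooth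

end Groth.Agent.Lib.Helper96.EtaleOfRank
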