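import Mathlib

/-! From scheme-theoretic smoothness of relative dimension `d` of `Spec B → Spec K` to
algebraic smoothness and constant rank of the Kähler differentials (helper96). -/

set_option autoImplicit false
set_option linter.style.haveILetI false

open TensorProduct KaehlerDifferential AlgebraicGeometry CategoryTheory

namespace Groth.Agent.Lib.Helper96.SmoothRank

universe u

theorem smooth_and_rank (K B : Type u) [CommRing K] [CommRing B] [Algebra K B] (d : ℕ)
    (h : SmoothOfRelativeDimension d (Spec.map (CommRingCat.ofHom (algebraMap K B)))) :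
    Algebra.Smooth K B ∧ ∀ p : PrimeSpectrum B, Module.rankAtStalk Ω[B⁄K] p = d := by
  have hsm : Algebra.Smooth K B := by
    have h1 : Smooth (Spec.map (CommRingCat.ofHom (algebraMap K B))) :=
      SmoothOfRelativeDimension.smooth d _
    rw [HasRingHomProperty.Spec_iff (P := @Smooth)] at h1
    exact RingHom.smooth_algebraMap.mp h1
  refine ⟨hsm, fun p => ?_⟩
  have h2 := (HasRingHomProperty.Spec_iff (P := @SmoothOfRelativeDimension d)).mp h
  obtain ⟨s, hs, hP⟩ := h2
  obtain ⟨t, hts, htp⟩ : ∃ t ∈ s, t ∉ p.asIdeal := by
    by_contra hcon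
    push Not at hcon
    have hle : Ideal.span s ≤ p.asIdeal := Ideal.span_le.mpr hcon
    rw [hs] at hle
    exact p.2.ne_top (top_le_iff.mp hle)
  have hst := hP t hts
  have hcomp : (algebraMap B (Localization.Away t)).comp (algebraMap K B) =
      algebraMap K (Localization.Away t) :=
    (IsScalarTower.algebraMap_eq K B (Localization.Away t)).symm
  rw [CommRingCat.hom_ofHom, hcomp, RingHom.isStandardSmoothOfRelativeDimension_algebraMap] at hst
  haveI := hst
  haveI : Algebra.IsStandardSmooth K (Localization.Away t) :=
    Algebra.IsStandardSmoothOfRelativeDimension.isStandardSmooth d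
  have hdisj : Disjoint (Submonoid.powers t : Set B) (p.asIdeal : Set B) := by
    rw [Set.disjoint_left]
    rintro x ⟨n, rfl⟩ hx
    exact htp (p.2.mem_of_pow_mem n hx)
  let q : PrimeSpectrum (Localization.Away t) :=
    ⟨p.asIdeal.map (algebraMap B (Localization.Away t)),
      IsLocalization.isPrime_of_isPrime_disjoint (Submonoid.powers t) _ _ p.2 hdisj⟩
  have hq : q.comap (algebraMap B (Localization.Away t)) = p :=
    PrimeSpectrum.ext
      (IsLocalization.under_map_of_isPrime_disjoint (Submonoid.powers t) _ p.2 hdisj)
  haveI : Nontrivial (Localization.Away t) :=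
    ⟨⟨0, 1, fun h01 => q.2.ne_top ((Ideal.eq_top_iff_one _).mpr (h01 ▸ zero_mem _))⟩⟩
  let e : Localization.Away t ⊗[B] Ω[B⁄K] ≃ₗ[Localization.Away t] Ω[Localization.Away t⁄K] :=
    tensorKaehlerEquivOfFormallyEtale K B (Localization.Away t)
  have h3 : Module.rankAtStalk Ω[B⁄K] p =
      Module.rankAtStalk (Localization.Away t ⊗[B] Ω[B⁄K]) q := by
    rw [Module.rankAtStalk_baseChange, hq]
  rw [h3, Module.rankAtStalk_eq_of_equiv e, Module.rankAtStalk_eq_finrank_of_free]
  have hr := Algebra.IsStandardSmoothOfRelativeDimension.rank_kaehlerDifferential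
    (R := K) (S := Localization.Away t) d
  have : Module.finrank (Localization.Away t) Ω[Localization.Away t⁄K] = d := by
    rw [Module.finrank, hr]
    simp
  simpa using this

end Groth.Agent.Lib.Helper96.SmoothRank
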