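import Mathlib
import Groth.Agent.Lib.Helper96.EtaleOfRank
import Groth.Agent.Lib.Helper96.SmoothRank

/-! Core of the converse direction for η-étale maps (helper96). -/

set_option autoImplicit false
set_option linter.style.haveILetI false

open TensorProduct KaehlerDifferential AlgebraicGeometry CategoryTheory

namespace Groth.Agent.Lib.Helper96.EtaEtale

universe u

/-- `K ⊗[V] X` is formally étale over `X` (right algebra structure) when `K` is formally étale
over `V`. -/
theorem formallyEtale_right (V K X : Type*) [CommRing V] [CommRing K] [Algebra V K] [CommRing X]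
    [Algebra V X] [Algebra.FormallyEtale V K] :
    @Algebra.FormallyEtale X (K ⊗[V] X) _ _ Algebra.TensorProduct.rightAlgebra := by
  letI : Algebra X (K ⊗[V] X) := Algebra.TensorProduct.rightAlgebra
  let e : X ⊗[V] K ≃ₐ[X] K ⊗[V] X :=
    AlgEquiv.ofRingEquiv (f := (Algebra.TensorProduct.comm V X K).toRingEquiv) (fun x => by
      change (Algebra.TensorProduct.comm V X K) (x ⊗ₜ[V] (1 : K)) = (1 : K) ⊗ₜ[V] x
      simp)
  exact Algebra.FormallyEtale.of_equiv e

theorem formallyEtale_core (V K A R R' : Type u) [CommRing V] [CommRing K] [Algebra V K]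
    [Algebra.FormallyEtale V K]
    [CommRing A] [Algebra V A] [CommRing R] [Algebra V R] [Algebra A R] [IsScalarTower V A R]
    [CommRing R'] [Algebra V R'] [Algebra K R'] [Algebra A R'] [Algebra R R']
    [IsScalarTower V K R'] [IsScalarTower V A R'] [IsScalarTower V R R'] [IsScalarTower A R R']
    [Algebra.FormallyEtale R R'] [Algebra.FormallyUnramified A R'] (d : ℕ)
    (hA : SmoothOfRelativeDimension d
      (Spec.map (CommRingCat.ofHom (algebraMap K (K ⊗[V] A)))))
    (hR : SmoothOfRelativeDimension d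
      (Spec.map (CommRingCat.ofHom (algebraMap K (K ⊗[V] R))))) :
    Algebra.FormallyEtale A R' := by
  obtain ⟨hsmB, hrB⟩ := SmoothRank.smooth_and_rank K (K ⊗[V] A) d hA
  obtain ⟨hsmC, hrC⟩ := SmoothRank.smooth_and_rank K (K ⊗[V] R) d hR
  letI algAB : Algebra A (K ⊗[V] A) := Algebra.TensorProduct.rightAlgebra
  letI algRC : Algebra R (K ⊗[V] R) := Algebra.TensorProduct.rightAlgebra
  haveI feAB : Algebra.FormallyEtale A (K ⊗[V] A) := formallyEtale_right V K A
  haveI feRC : Algebra.FormallyEtale R (K ⊗[V] R) := formallyEtale_right V K R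
  let φB : K ⊗[V] A →ₐ[K] R' :=
    Algebra.TensorProduct.lift (Algebra.ofId K R') (IsScalarTower.toAlgHom V A R')
      (fun _ _ => Commute.all _ _)
  let φC : K ⊗[V] R →ₐ[K] R' :=
    Algebra.TensorProduct.lift (Algebra.ofId K R') (IsScalarTower.toAlgHom V R R')
      (fun _ _ => Commute.all _ _)
  letI algBR' : Algebra (K ⊗[V] A) R' := φB.toRingHom.toAlgebra
  letI algCR' : Algebra (K ⊗[V] R) R' := φC.toRingHom.toAlgebra
  haveI t1 : IsScalarTower K (K ⊗[V] A) R' :=
    IsScalarTower.of_algebraMap_eq (fun k => (φB.commutes k).symm)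
  haveI t2 : IsScalarTower K (K ⊗[V] R) R' :=
    IsScalarTower.of_algebraMap_eq (fun k => (φC.commutes k).symm)
  haveI t3 : IsScalarTower A (K ⊗[V] A) R' :=
    IsScalarTower.of_algebraMap_eq (fun x => by
      change algebraMap A R' x = φB ((1 : K) ⊗ₜ[V] x)
      simp [φB])
  haveI t4 : IsScalarTower R (K ⊗[V] R) R' :=
    IsScalarTower.of_algebraMap_eq (fun x => by
      change algebraMap R R' x = φC ((1 : K) ⊗ₜ[V] x)
      simp [φC])
  haveI : Algebra.FormallyEtale (K ⊗[V] R) R' :=
    Algebra.FormallyEtale.of_restrictScalars (R := R) (A := K ⊗[V] R) (B := R')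
  haveI : Algebra.FormallyUnramified (K ⊗[V] A) R' :=
    Algebra.FormallyUnramified.of_restrictScalars A (K ⊗[V] A) R'
  haveI : Algebra.FormallyEtale (K ⊗[V] A) R' :=
    EtaleOfRank.formallyEtale_of_rank_eq K (K ⊗[V] A) (K ⊗[V] R) R' d hrB hrC
  exact Algebra.FormallyEtale.comp A (K ⊗[V] A) R'

end Groth.Agent.Lib.Helper96.EtaEtale
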