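import Mathlib
import Groth.Agent.Lib.Helper96.EtaEtaleA
import Groth.Agent.Lib.Helper96.EtaEtaleCore

/-! η-étale maps over a DVR of mixed characteristic: the converse direction (helper96). -/

set_option autoImplicit false
set_option linter.style.haveILetI false

open TensorProduct KaehlerDifferential AlgebraicGeometry CategoryTheory

namespace Groth.Agent.Lib.Helper96.EtaEtale

universe u

theorem backward (V : Type u) [CommRing V] [IsDomain V] [IsDiscreteValuationRing V] [CharZero V]
    (ϖ : V) (hϖ : Irreducible ϖ) (p : ℕ) [Fact p.Prime]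
    [CharP (IsLocalRing.ResidueField V) p]
    (A : Type u) [CommRing A] [Algebra V A] [Algebra.FiniteType V A]
    (R : Type u) [CommRing R] [Algebra V R] [Algebra.FiniteType V R] [Algebra A R]
    [IsScalarTower V A R] (d : ℕ)
    (hA : SmoothOfRelativeDimension d
      (Spec.map (CommRingCat.ofHom (algebraMap (FractionRing V) (FractionRing V ⊗[V] A)))))
    (hR : SmoothOfRelativeDimension d
      (Spec.map (CommRingCat.ofHom (algebraMap (FractionRing V) (FractionRing V ⊗[V] R)))))
    (hn : ∃ n : ℕ, Ideal.span {((p : R)) ^ n} • (⊤ : Submodule R (Ω[R⁄A])) ≤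
      Ideal.span {algebraMap V R ϖ * (p : R) ^ n} • (⊤ : Submodule R (Ω[R⁄A]))) :
    ∃ a : R, Ideal.span {a} ⊔ Ideal.span {algebraMap V R ϖ} = ⊤ ∧
      ((algebraMap R (Localization.Away (a * algebraMap V R ϖ))).comp (algebraMap A R)).Etale := by
  obtain ⟨n, hn⟩ := hn
  haveI : Algebra.FiniteType A R := Algebra.FiniteType.of_restrictScalars_finiteType V A R
  -- Nakayama
  have hNfg : (Ideal.span {((p : R)) ^ n} • (⊤ : Submodule R (Ω[R⁄A]))).FG :=
    Submodule.FG.smul (Submodule.fg_span_singleton _) Module.Finite.fg_top
  have hNle : Ideal.span {((p : R)) ^ n} • (⊤ : Submodule R (Ω[R⁄A])) ≤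
      Ideal.span {algebraMap V R ϖ} • (Ideal.span {((p : R)) ^ n} • (⊤ : Submodule R (Ω[R⁄A]))) := by
    have h1 : Ideal.span {algebraMap V R ϖ * (p : R) ^ n} • (⊤ : Submodule R (Ω[R⁄A])) =
        Ideal.span {algebraMap V R ϖ} •
          (Ideal.span {((p : R)) ^ n} • (⊤ : Submodule R (Ω[R⁄A]))) := by
      rw [← Ideal.span_singleton_mul_span_singleton, Submodule.mul_smul]
    rw [← h1]
    exact hn
  obtain ⟨a, ha1, haN⟩ :=
    Submodule.exists_sub_one_mem_and_smul_eq_zero_of_fg_of_le_smul _ _ hNfg hNle
  refine ⟨a, ?_, ?_⟩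
  · rw [Ideal.eq_top_iff_one]
    have h1 : (1 : R) = a - (a - 1) := by ring
    rw [h1]
    exact Submodule.sub_mem _ (Ideal.mem_sup_left (Ideal.mem_span_singleton_self a))
      (Ideal.mem_sup_right ha1)
  · have hcomp : (algebraMap R (Localization.Away (a * algebraMap V R ϖ))).comp (algebraMap A R) =
        algebraMap A (Localization.Away (a * algebraMap V R ϖ)) :=
      (IsScalarTower.algebraMap_eq A R (Localization.Away (a * algebraMap V R ϖ))).symm
    rw [hcomp, RingHom.etale_algebraMap]
    -- units
    have hs_unit : IsUnit (algebraMap R (Localization.Away (a * algebraMap V R ϖ))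
        (a * algebraMap V R ϖ)) := IsLocalization.Away.algebraMap_isUnit _
    rw [map_mul] at hs_unit
    have ha_unit := isUnit_of_mul_isUnit_left hs_unit
    have hϖ_unit := isUnit_of_mul_isUnit_right hs_unit
    have hϖ_unit' : IsUnit (algebraMap V (Localization.Away (a * algebraMap V R ϖ)) ϖ) := by
      rw [IsScalarTower.algebraMap_apply V R (Localization.Away (a * algebraMap V R ϖ))]
      exact hϖ_unit
    have hV_unit : ∀ v : nonZeroDivisors V,
        IsUnit (algebraMap V (Localization.Away (a * algebraMap V R ϖ)) v) := by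
      intro v
      have hv0 : (v : V) ≠ 0 := nonZeroDivisors.coe_ne_zero v
      obtain ⟨m, u, hu⟩ := IsDiscreteValuationRing.eq_unit_mul_pow_irreducible hv0 hϖ
      rw [hu, map_mul, map_pow]
      exact (u.isUnit.map _).mul (hϖ_unit'.pow m)
    obtain ⟨u0, e0, he0, hp⟩ := exists_p_eq V ϖ hϖ p
    have hp_unit : IsUnit (algebraMap R (Localization.Away (a * algebraMap V R ϖ)) (p : R)) := by
      have h1 : (p : R) = algebraMap V R (p : V) := (map_natCast (algebraMap V R) p).symm
      rw [h1, ← IsScalarTower.algebraMap_apply V R (Localization.Away (a * algebraMap V R ϖ)), hp,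
        map_mul, map_pow]
      exact (u0.isUnit.map _).mul (hϖ_unit'.pow e0)
    -- the `K`-algebra structure
    letI algK : Algebra (FractionRing V) (Localization.Away (a * algebraMap V R ϖ)) :=
      (IsLocalization.lift (M := nonZeroDivisors V) (S := FractionRing V)
        (g := algebraMap V (Localization.Away (a * algebraMap V R ϖ))) hV_unit).toAlgebra
    haveI : IsScalarTower V (FractionRing V) (Localization.Away (a * algebraMap V R ϖ)) :=
      IsScalarTower.of_algebraMap_eq (fun v => (IsLocalization.lift_eq hV_unit v).symm)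
    -- unramifiedness
    let e : Localization.Away (a * algebraMap V R ϖ) ⊗[R] Ω[R⁄A] ≃ₗ[Localization.Away
        (a * algebraMap V R ϖ)] Ω[Localization.Away (a * algebraMap V R ϖ)⁄A] :=
      tensorKaehlerEquivOfFormallyEtale A R (Localization.Away (a * algebraMap V R ϖ))
    have hc_unit : IsUnit (algebraMap R (Localization.Away (a * algebraMap V R ϖ))
        (a * (p : R) ^ n)) := by
      rw [map_mul, map_pow]
      exact ha_unit.mul (hp_unit.pow n)
    have hzero : ∀ t : Localization.Away (a * algebraMap V R ϖ) ⊗[R] Ω[R⁄A], t = 0 := by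
      intro t
      induction t using TensorProduct.induction_on with
      | zero => rfl
      | tmul r' ω =>
        obtain ⟨c, hc⟩ := hc_unit
        have h1 : r' = (a * (p : R) ^ n) • (r' * ((c⁻¹ : _ˣ) : Localization.Away
            (a * algebraMap V R ϖ))) := by
          rw [Algebra.smul_def, ← hc]
          rw [mul_comm r', ← mul_assoc, Units.mul_inv, one_mul]
        have h2 : (a * (p : R) ^ n) • ω = 0 := by
          rw [mul_smul]
          exact haN _ (Submodule.smul_mem_smul (Ideal.mem_span_singleton_self _)
            Submodule.mem_top)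
        rw [h1, TensorProduct.smul_tmul, h2, TensorProduct.tmul_zero]
      | add x y hx hy => rw [hx, hy, add_zero]
    haveI : Subsingleton (Localization.Away (a * algebraMap V R ϖ) ⊗[R] Ω[R⁄A]) :=
      ⟨fun x y => by rw [hzero x, hzero y]⟩
    haveI : Subsingleton Ω[Localization.Away (a * algebraMap V R ϖ)⁄A] :=
      e.symm.toEquiv.subsingleton
    haveI : Algebra.FormallyUnramified A (Localization.Away (a * algebraMap V R ϖ)) := ⟨this⟩
    haveI : Algebra.FormallyEtale A (Localization.Away (a * algebraMap V R ϖ)) :=
      formallyEtale_core V (FractionRing V) A R (Localization.Away (a * algebraMap V R ϖ)) d hA hR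
    -- finite presentation
    haveI : IsNoetherianRing A := Algebra.FiniteType.isNoetherianRing V A
    haveI : Algebra.FinitePresentation A R := Algebra.FinitePresentation.of_finiteType.mp inferInstance
    haveI : Algebra.FinitePresentation A (Localization.Away (a * algebraMap V R ϖ)) :=
      Algebra.FinitePresentation.trans A R _
    exact { }

end Groth.Agent.Lib.Helper96.EtaEtale
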