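import Mathlib
import Groth.Agent.Lib.Helper50.NoethMonic

/-! Elementwise Nagata trick with a uniform exponent base (helper96). -/

set_option autoImplicit false
set_option linter.style.haveILetI false

open Polynomial MvPolynomial

namespace Groth.Agent.Lib.Helper96.NagataElem

open Groth.Agent.Lib.Helper50

/-- Elementwise Nagata trick: if `z 0, …, z n` satisfy a nontrivial polynomial relation over the
field `F`, then for every large enough `D` the element `z 0` is integral over the subalgebra
generated by the `z (j+1) - z 0 ^ ((2 + D) ^ (j+1))`. -/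
theorem isIntegral_zero {F A : Type*} [Field F] [CommRing A] [Algebra F A] {n : ℕ}
    (z : Fin (n + 1) → A)
    (hz : ¬ Function.Injective (aeval z : MvPolynomial (Fin (n + 1)) F →ₐ[F] A)) :
    ∃ D₀ : ℕ, ∀ D, D₀ ≤ D →
      IsIntegral (Algebra.adjoin F
        (Set.range fun j : Fin n => z j.succ - z 0 ^ ((2 + D) ^ (j.1 + 1)))) (z 0) := by
  classical
  obtain ⟨P, hP0, hPz⟩ : ∃ P : MvPolynomial (Fin (n + 1)) F, P ≠ 0 ∧ aeval z P = 0 := by
    by_contra hcon
    push Not at hcon
    apply hz
    rw [injective_iff_map_eq_zero]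
    intro a ha
    by_contra hne
    exact hcon a hne ha
  refine ⟨P.totalDegree, fun D hD => ?_⟩
  -- equalize the total degree
  set P' : MvPolynomial (Fin (n + 1)) F := X 0 ^ (D - P.totalDegree) * P with hP'def
  have hXne : (X 0 ^ (D - P.totalDegree) : MvPolynomial (Fin (n + 1)) F) ≠ 0 :=
    pow_ne_zero _ (X_ne_zero 0)
  have hP'0 : P' ≠ 0 := mul_ne_zero hXne hP0
  have hP'deg : P'.totalDegree = D := by
    rw [hP'def, totalDegree_mul_of_isDomain hXne hP0, totalDegree_X_pow]
    omega
  have hP'z : aeval z P' = 0 := by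
    rw [hP'def, map_mul, hPz, mul_zero]
  -- the unit leading coefficient
  have hu := NoethMonic.T_leadingcoeff_isUnit P' hP'0
  set Q : (MvPolynomial (Fin n) F)[X] := finSuccEquiv F n (NoethMonic.T P' P') with hQdef
  let z' : Fin n → A := fun j => z j.succ - z 0 ^ ((2 + D) ^ (j.1 + 1))
  let ψ : MvPolynomial (Fin n) F →ₐ[F] A := aeval z'
  let Ψ : MvPolynomial (Fin (n + 1)) F →ₐ[F] A :=
    (Polynomial.eval₂AlgHom ψ (z 0) (fun a => Commute.all _ _)).comp (finSuccEquiv F n).toAlgHom
  have hΨ : Ψ.comp (NoethMonic.T1 P' 1) = MvPolynomial.aeval z := by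
    apply MvPolynomial.algHom_ext
    intro i
    refine Fin.cases ?_ (fun j => ?_) i
    · simp [Ψ, NoethMonic.T1, finSuccEquiv_X_zero]
    · simp [Ψ, NoethMonic.T1, finSuccEquiv_X_zero, finSuccEquiv_X_succ, Fin.succ_ne_zero, ψ, z',
        hP'deg]
  have hQz : Polynomial.eval₂ (ψ : MvPolynomial (Fin n) F →+* A) (z 0) Q = 0 := by
    have h1 : Ψ (NoethMonic.T1 P' 1 P') = 0 := by
      have := AlgHom.congr_fun hΨ P'
      rw [AlgHom.comp_apply] at this
      rw [this, hP'z]
    simpa [Ψ, hQdef] using h1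
  have hmonic := Polynomial.monic_of_isUnit_leadingCoeff_inv_smul hu
  have hint : (ψ : MvPolynomial (Fin n) F →+* A).IsIntegralElem (z 0) := by
    refine ⟨_, hmonic, ?_⟩
    rw [Units.smul_def, Polynomial.eval₂_smul, hQz, mul_zero]
  rw [← MvPolynomial.aeval_range]
  exact RingHom.IsIntegralElem.of_comp (f := ψ.rangeRestrict.toRingHom)
    (g := algebraMap ψ.range A) hint

end Groth.Agent.Lib.Helper96.NagataElem
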