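import Mathlib
import Groth.Agent.Lib.Helper96.NagataElem
import Groth.Agent.Lib.Helper55.KrullDimIntegral

/-! Simultaneous Noether normalization for two algebras over two fields, with perturbations given
by universal integer polynomials lying in the subring generated by `N`-th powers (helper96). -/

set_option autoImplicit false
set_option linter.style.haveILetI false

open MvPolynomial TensorProduct

namespace Groth.Agent.Lib.Helper96.RelNoether

universe u

/-- The subring generated by `N`-th powers. -/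
def Cl (N : ℕ) (R : Type*) [CommRing R] : Subring R :=
  Subring.closure (Set.range fun r : R => r ^ N)

theorem map_mem_Cl {R S : Type*} [CommRing R] [CommRing S] (N : ℕ) (φ : R →+* S) {a : R}
    (ha : a ∈ Cl N R) : φ a ∈ Cl N S := by
  have hle : Cl N R ≤ (Cl N S).comap φ := by
    unfold Cl
    rw [Subring.closure_le]
    rintro _ ⟨r, rfl⟩
    change φ (r ^ N) ∈ Subring.closure (Set.range fun r : S => r ^ N)
    rw [map_pow]
    exact Subring.subset_closure ⟨φ r, rfl⟩
  exact hle ha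

theorem ringHom_aeval_int {S T σ : Type*} [CommRing S] [CommRing T] (φ : S →+* T) (f : σ → S)
    (p : MvPolynomial σ ℤ) : φ (aeval f p) = aeval (fun s => φ (f s)) p := by
  have := comp_aeval_apply (f := f) (φ.toIntAlgHom) p
  simpa using this

variable {d : ℕ}

/-- The embedding of index types. -/
def emb {m : ℕ} : Fin d ⊕ Fin m → Fin d ⊕ Fin (m + 1) := Sum.map id Fin.succ

/-- The exponents. -/
noncomputable def E {m : ℕ} (D : ℕ) (s : Fin d ⊕ Fin m) : ℕ := (2 + D) ^ ((finSumFinEquiv s).1 + 1)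

/-- The new generators after one Nagata step. -/
noncomputable def stepFun {A : Type*} [CommRing A] {m : ℕ} (N D : ℕ) (g : Fin d ⊕ Fin (m + 1) → A) :
    Fin d ⊕ Fin m → A :=
  fun s => g (emb s) - (g (Sum.inr 0) ^ N) ^ (E D s)

/-- The new universal perturbations after one Nagata step. -/
noncomputable def stepY {m : ℕ} (N D : ℕ) (Y' : Fin d → MvPolynomial (Fin d ⊕ Fin m) ℤ) :
    Fin d → MvPolynomial (Fin d ⊕ Fin (m + 1)) ℤ :=
  fun i => aeval (stepFun N D (X : Fin d ⊕ Fin (m + 1) → MvPolynomial (Fin d ⊕ Fin (m + 1)) ℤ)) (Y' i)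
    - (X (Sum.inr 0) ^ N) ^ (E D (Sum.inl i : Fin d ⊕ Fin m))

theorem cases_index {m : ℕ} (s : Fin d ⊕ Fin (m + 1)) :
    s = Sum.inr 0 ∨ ∃ s' : Fin d ⊕ Fin m, s = emb s' := by
  rcases s with i | l
  · exact Or.inr ⟨Sum.inl i, rfl⟩
  · refine Fin.cases ?_ (fun l' => ?_) l
    · exact Or.inl rfl
    · exact Or.inr ⟨Sum.inr l', rfl⟩

theorem isIntegral_of_generators {F A σ : Type*} [Field F] [CommRing A] [Algebra F A]
    (B : Subalgebra F A) (g : σ → A) (hg : Algebra.adjoin F (Set.range g) = ⊤)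
    (h : ∀ s, IsIntegral B (g s)) : Algebra.IsIntegral B A := by
  refine ⟨fun a => ?_⟩
  have hle : Algebra.adjoin F (Set.range g) ≤ (integralClosure B A).restrictScalars F := by
    rw [Algebra.adjoin_le_iff]
    rintro _ ⟨s, rfl⟩
    exact h s
  have ha : a ∈ Algebra.adjoin F (Set.range g) := hg ▸ Algebra.mem_top
  exact hle ha

theorem ringKrullDim_mvPolynomial_fin (F : Type*) [Field F] (n : ℕ) :
    ringKrullDim (MvPolynomial (Fin n) F) = n := by
  rw [MvPolynomial.ringKrullDim_of_isNoetherianRing, ringKrullDim_eq_zero_of_field, zero_add,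
    Nat.card_eq_fintype_card, Fintype.card_fin]

/-- One Nagata step: for large `D`, `A` is integral over the subalgebra generated by the new
generators. -/
theorem step_integral {F A : Type u} [Field F] [CommRing A] [Algebra F A] (N m : ℕ) (hN : 1 ≤ N)
    (g : Fin d ⊕ Fin (m + 1) → A) (hg : Algebra.adjoin F (Set.range g) = ⊤)
    (hdim : ringKrullDim A ≤ d) :
    ∃ D₀ : ℕ, ∀ D, D₀ ≤ D →
      Algebra.IsIntegral (Algebra.adjoin F (Set.range (stepFun N D g))) A := by
  classical
  let z : Fin (d + m + 1) → A :=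
    Fin.cons (g (Sum.inr 0) ^ N) (fun j => g (emb (finSumFinEquiv.symm j)))
  have hz0 : z 0 = g (Sum.inr 0) ^ N := rfl
  have hzs : ∀ s : Fin d ⊕ Fin m, z (finSumFinEquiv s).succ = g (emb s) := by
    intro s
    simp [z]
  have hninj : ¬ Function.Injective (aeval z : MvPolynomial (Fin (d + m + 1)) F →ₐ[F] A) := by
    intro hinj
    let B : Subalgebra F A := (aeval z : MvPolynomial (Fin (d + m + 1)) F →ₐ[F] A).range
    have hzB : ∀ j, z j ∈ B := fun j => ⟨X j, by simp⟩
    have hgB : ∀ s, IsIntegral B (g s) := by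
      intro s
      rcases cases_index s with rfl | ⟨s', rfl⟩
      · refine IsIntegral.of_pow (n := N) (by omega) ?_
        have : IsIntegral B (algebraMap B A ⟨z 0, hzB 0⟩) := isIntegral_algebraMap
        exact this
      · have : IsIntegral B (algebraMap B A ⟨z (finSumFinEquiv s').succ, hzB _⟩) :=
          isIntegral_algebraMap
        rw [← hzs s']
        exact this
    haveI : Algebra.IsIntegral B A := isIntegral_of_generators B g hg hgB
    have h1 : ringKrullDim A = ringKrullDim B :=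
      Groth.Agent.Lib.Helper55.ringKrullDim_eq_of_isIntegral_of_injective B A
        Subtype.val_injective
    have h2 : ringKrullDim B = ringKrullDim (MvPolynomial (Fin (d + m + 1)) F) :=
      (ringKrullDim_eq_of_ringEquiv (AlgEquiv.ofInjective _ hinj).toRingEquiv).symm
    rw [h1, h2, ringKrullDim_mvPolynomial_fin] at hdim
    have : d + m + 1 ≤ d := by exact_mod_cast hdim
    omega
  obtain ⟨D₀, hD₀⟩ := NagataElem.isIntegral_zero (F := F) z hninj
  refine ⟨D₀, fun D hD => ?_⟩
  have key := hD₀ D hD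
  have hrange : (Set.range fun j : Fin (d + m) => z j.succ - z 0 ^ ((2 + D) ^ (j.1 + 1)))
      = Set.range (stepFun N D g) := by
    have hcomp : stepFun N D g =
        (fun j : Fin (d + m) => z j.succ - z 0 ^ ((2 + D) ^ (j.1 + 1))) ∘ finSumFinEquiv := by
      funext s
      simp only [stepFun, Function.comp_apply, hzs, hz0, E]
    rw [hcomp, finSumFinEquiv.surjective.range_comp]
  rw [hrange] at key
  set B' := Algebra.adjoin F (Set.range (stepFun N D g)) with hB'
  have h0 : IsIntegral B' (g (Sum.inr 0)) := IsIntegral.of_pow (n := N) (by omega) key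
  refine isIntegral_of_generators B' g hg (fun s => ?_)
  rcases cases_index s with rfl | ⟨s', rfl⟩
  · exact h0
  · have hmem : stepFun N D g s' ∈ B' := Algebra.subset_adjoin ⟨s', rfl⟩
    have h1 : IsIntegral B' (algebraMap B' A ⟨stepFun N D g s', hmem⟩) := isIntegral_algebraMap
    have h2 : g (emb s') = algebraMap B' A ⟨stepFun N D g s', hmem⟩
        + (g (Sum.inr 0) ^ N) ^ (E D s') := by
      change g (emb s') = stepFun N D g s' + _
      simp [stepFun]
    rw [h2]
    exact h1.add ((h0.pow N).pow _)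

theorem aeval_stepFun {A : Type*} [CommRing A] {m : ℕ} (N D : ℕ) (g : Fin d ⊕ Fin (m + 1) → A)
    (P : MvPolynomial (Fin d ⊕ Fin m) ℤ) :
    aeval g (aeval (stepFun N D
      (X : Fin d ⊕ Fin (m + 1) → MvPolynomial (Fin d ⊕ Fin (m + 1)) ℤ)) P)
      = aeval (stepFun N D g) P := by
  rw [comp_aeval_apply]
  have hfun : (fun i => (aeval g) (stepFun N D
      (X : Fin d ⊕ Fin (m + 1) → MvPolynomial (Fin d ⊕ Fin (m + 1)) ℤ) i)) = stepFun N D g := by
    funext s
    simp [stepFun]
  rw [hfun]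

theorem stepY_mem_Cl {m : ℕ} (N D : ℕ) (Y' : Fin d → MvPolynomial (Fin d ⊕ Fin m) ℤ)
    (hY' : ∀ i, Y' i ∈ Cl N _) (i : Fin d) : stepY N D Y' i ∈ Cl N _ := by
  unfold stepY
  refine Subring.sub_mem _ ?_ ?_
  · exact map_mem_Cl N (aeval (stepFun N D
      (X : Fin d ⊕ Fin (m + 1) → MvPolynomial (Fin d ⊕ Fin (m + 1)) ℤ))).toRingHom (hY' i)
  · rw [pow_right_comm]
    exact Subring.subset_closure ⟨_, rfl⟩

theorem adjoin_lift_eq_top {F A σ : Type*} [Field F] [CommRing A] [Algebra F A] (f : σ → A)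
    (g'' : σ → ↥(Algebra.adjoin F (Set.range f))) (h : ∀ s, (g'' s : A) = f s) :
    Algebra.adjoin F (Set.range g'') = ⊤ := by
  apply Subalgebra.map_injective (f := (Algebra.adjoin F (Set.range f)).val) Subtype.val_injective
  rw [Algebra.map_top, Subalgebra.range_val, AlgHom.map_adjoin, ← Set.range_comp]
  have : (Algebra.adjoin F (Set.range f)).val ∘ g'' = f := funext h
  rw [this]

/-- Bookkeeping for one step. -/
theorem step_out {F A : Type*} [Field F] [CommRing A] [Algebra F A] {m : ℕ} (N D : ℕ)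
    (g : Fin d ⊕ Fin (m + 1) → A) (Y' : Fin d → MvPolynomial (Fin d ⊕ Fin m) ℤ)
    (B' : Subalgebra F A) [hB : Algebra.IsIntegral B' A]
    (g'' : Fin d ⊕ Fin m → ↥B')
    (hg'' : ∀ s, (g'' s : A) = stepFun N D g s)
    (h : (aeval (R := F) fun i => g'' (Sum.inl i) + aeval g'' (Y' i)).toRingHom.IsIntegral) :
    (aeval (R := F) fun i => g (Sum.inl i) + aeval g (stepY N D Y' i)).toRingHom.IsIntegral := by
  have hfun : (fun i => g (Sum.inl i) + aeval g (stepY N D Y' i)) =
      fun i => B'.val (g'' (Sum.inl i) + aeval g'' (Y' i)) := by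
    funext i
    have e1 : B'.val (aeval g'' (Y' i)) = aeval (stepFun N D g) (Y' i) := by
      have := ringHom_aeval_int (B'.val : ↥B' →+* A) g'' (Y' i)
      simp only [RingHom.coe_coe] at this
      rw [this]
      have hf : (fun s => B'.val (g'' s)) = stepFun N D g := funext hg''
      rw [hf]
    rw [map_add, e1]
    have e2 : B'.val (g'' (Sum.inl i)) = stepFun N D g (Sum.inl i) := hg'' _
    rw [e2]
    simp only [stepY, map_sub, map_pow, aeval_X, aeval_stepFun]
    simp only [stepFun, emb, Sum.map_inl, id]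
    ring
  have hcomp : (aeval (R := F) fun i => g (Sum.inl i) + aeval g (stepY N D Y' i)) =
      B'.val.comp (aeval (R := F) fun i => g'' (Sum.inl i) + aeval g'' (Y' i)) := by
    rw [comp_aeval, hfun]
  rw [hcomp]
  have hval : (B'.val : ↥B' →+* A).IsIntegral := fun a => Algebra.IsIntegral.isIntegral (R := B') a
  exact RingHom.IsIntegral.trans _ _ h hval

theorem base_case {F A : Type*} [Field F] [CommRing A] [Algebra F A] (g : Fin d ⊕ Fin 0 → A)
    (hg : Algebra.adjoin F (Set.range g) = ⊤) :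
    (aeval (R := F) fun i => g (Sum.inl i)
      + aeval g (0 : MvPolynomial (Fin d ⊕ Fin 0) ℤ)).toRingHom.IsIntegral := by
  apply RingHom.isIntegral_of_surjective
  have hr : Set.range g = Set.range (fun i => g (Sum.inl i) +
      aeval g (0 : MvPolynomial (Fin d ⊕ Fin 0) ℤ)) := by
    ext a
    constructor
    · rintro ⟨s, rfl⟩
      rcases s with i | l
      · exact ⟨i, by simp⟩
      · exact l.elim0
    · rintro ⟨i, rfl⟩
      exact ⟨Sum.inl i, by simp⟩
  have : (aeval (R := F) fun i => g (Sum.inl i)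
      + aeval g (0 : MvPolynomial (Fin d ⊕ Fin 0) ℤ)).range = ⊤ := by
    rw [aeval_range, ← hr, hg]
  intro a
  have ha : a ∈ (aeval (R := F) fun i => g (Sum.inl i)
      + aeval g (0 : MvPolynomial (Fin d ⊕ Fin 0) ℤ)).range := this ▸ Algebra.mem_top
  exact ha

/-- Simultaneous normalization for two algebras over two fields. -/
theorem main (N : ℕ) (hN : 1 ≤ N) : ∀ (m : ℕ) (F₁ A₁ F₂ A₂ : Type u) [Field F₁] [CommRing A₁]
    [Algebra F₁ A₁] [Field F₂] [CommRing A₂] [Algebra F₂ A₂]
    (g₁ : Fin d ⊕ Fin m → A₁) (g₂ : Fin d ⊕ Fin m → A₂),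
    Algebra.adjoin F₁ (Set.range g₁) = ⊤ → Algebra.adjoin F₂ (Set.range g₂) = ⊤ →
    ringKrullDim A₁ ≤ d → ringKrullDim A₂ ≤ d →
    ∃ Y : Fin d → MvPolynomial (Fin d ⊕ Fin m) ℤ, (∀ i, Y i ∈ Cl N _) ∧
      (aeval (R := F₁) fun i => g₁ (Sum.inl i) + aeval g₁ (Y i)).toRingHom.IsIntegral ∧
      (aeval (R := F₂) fun i => g₂ (Sum.inl i) + aeval g₂ (Y i)).toRingHom.IsIntegral := by
  intro m
  induction m with
  | zero =>
    intro F₁ A₁ F₂ A₂ _ _ _ _ _ _ g₁ g₂ hg₁ hg₂ _ _
    exact ⟨fun _ => 0, fun _ => Subring.zero_mem _, base_case g₁ hg₁, base_case g₂ hg₂⟩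
  | succ m ih =>
    intro F₁ A₁ F₂ A₂ _ _ _ _ _ _ g₁ g₂ hg₁ hg₂ hd₁ hd₂
    obtain ⟨D₁, hD₁⟩ := step_integral N m hN g₁ hg₁ hd₁
    obtain ⟨D₂, hD₂⟩ := step_integral N m hN g₂ hg₂ hd₂
    set D := max D₁ D₂ with hD
    haveI i₁ := hD₁ D (le_max_left _ _)
    haveI i₂ := hD₂ D (le_max_right _ _)
    let g₁'' : Fin d ⊕ Fin m → ↥(Algebra.adjoin F₁ (Set.range (stepFun N D g₁))) :=
      fun s => ⟨stepFun N D g₁ s, Algebra.subset_adjoin ⟨s, rfl⟩⟩
    let g₂'' : Fin d ⊕ Fin m → ↥(Algebra.adjoin F₂ (Set.range (stepFun N D g₂))) :=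
      fun s => ⟨stepFun N D g₂ s, Algebra.subset_adjoin ⟨s, rfl⟩⟩
    have hdim₁ : ringKrullDim ↥(Algebra.adjoin F₁ (Set.range (stepFun N D g₁))) ≤ d := by
      rw [← Groth.Agent.Lib.Helper55.ringKrullDim_eq_of_isIntegral_of_injective
        (Algebra.adjoin F₁ (Set.range (stepFun N D g₁))) A₁ Subtype.val_injective]
      exact hd₁
    have hdim₂ : ringKrullDim ↥(Algebra.adjoin F₂ (Set.range (stepFun N D g₂))) ≤ d := by
      rw [← Groth.Agent.Lib.Helper55.ringKrullDim_eq_of_isIntegral_of_injective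
        (Algebra.adjoin F₂ (Set.range (stepFun N D g₂))) A₂ Subtype.val_injective]
      exact hd₂
    obtain ⟨Y', hY', h₁, h₂⟩ := ih F₁ _ F₂ _ g₁'' g₂''
      (adjoin_lift_eq_top _ g₁'' (fun _ => rfl)) (adjoin_lift_eq_top _ g₂'' (fun _ => rfl))
      hdim₁ hdim₂
    exact ⟨stepY N D Y', stepY_mem_Cl N D Y' hY',
      step_out N D g₁ Y' _ g₁'' (fun _ => rfl) h₁, step_out N D g₂ Y' _ g₂'' (fun _ => rfl) h₂⟩

end Groth.Agent.Lib.Helper96.RelNoether
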