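import Mathlib
import Groth.Agent.Lib.Helper96.RelNoether

/-! The Krull dimension of a smooth algebra of relative dimension `d` over a field is at most `d`
(helper96). -/

set_option autoImplicit false
set_option linter.style.haveILetI false

open TensorProduct AlgebraicGeometry CategoryTheory

namespace Groth.Agent.Lib.Helper96.FibreDim

universe u

/-- A quasi-finite algebra has Krull dimension at most that of the base. -/
theorem ringKrullDim_le_of_quasiFinite (R S : Type*) [CommRing R] [CommRing S] [Algebra R S]
    [Algebra.QuasiFinite R S] : ringKrullDim S ≤ ringKrullDim R := by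
  unfold ringKrullDim
  apply Order.krullDim_le_of_strictMono (f := PrimeSpectrum.comap (algebraMap R S))
  intro P Q hPQ
  have hle : P.asIdeal ≤ Q.asIdeal := hPQ.le
  refine lt_of_le_of_ne (Ideal.comap_mono hle) ?_
  intro heq
  have h1 : P.asIdeal = Q.asIdeal :=
    Algebra.QuasiFinite.eq_of_le_of_under_eq (R := R) P.asIdeal Q.asIdeal hle
      (congrArg PrimeSpectrum.asIdeal heq)
  exact hPQ.ne (PrimeSpectrum.ext h1)

theorem ringKrullDim_le_of_smoothOfRelativeDimension (K C : Type u) [Field K] [CommRing C]
    [Algebra K C] (d : ℕ)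
    (h : SmoothOfRelativeDimension d (Spec.map (CommRingCat.ofHom (algebraMap K C)))) :
    ringKrullDim C ≤ d := by
  have h2 := (HasRingHomProperty.Spec_iff (P := @SmoothOfRelativeDimension d)).mp h
  obtain ⟨s, hs, hP⟩ := h2
  rw [ringKrullDim_le_iff_height_le]
  intro p hp
  obtain ⟨t, hts, htp⟩ : ∃ t ∈ s, t ∉ p := by
    by_contra hcon
    push Not at hcon
    have hle : Ideal.span s ≤ p := Ideal.span_le.mpr hcon
    rw [hs] at hle
    exact hp.ne_top (top_le_iff.mp hle)
  have hst := hP t hts
  have hcomp : (algebraMap C (Localization.Away t)).comp (algebraMap K C) =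
      algebraMap K (Localization.Away t) :=
    (IsScalarTower.algebraMap_eq K C (Localization.Away t)).symm
  rw [CommRingCat.hom_ofHom, hcomp, RingHom.isStandardSmoothOfRelativeDimension_algebraMap] at hst
  haveI := hst
  obtain ⟨g, hg⟩ :=
    Algebra.IsStandardSmoothOfRelativeDimension.exists_etale_mvPolynomial d K (Localization.Away t)
  algebraize [g.toRingHom]
  haveI : Algebra.Etale (MvPolynomial (Fin d) K) (Localization.Away t) :=
    RingHom.etale_algebraMap.mp hg
  have h1 : ringKrullDim (Localization.Away t) ≤ d := by
    refine (ringKrullDim_le_of_quasiFinite (MvPolynomial (Fin d) K) (Localization.Away t)).trans ?_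
    rw [RelNoether.ringKrullDim_mvPolynomial_fin]
  have hdisj : Disjoint (Submonoid.powers t : Set C) (p : Set C) := by
    rw [Set.disjoint_left]
    rintro x ⟨n, rfl⟩ hx
    exact htp (hp.mem_of_pow_mem n hx)
  have h3 := IsLocalization.height_map_of_disjoint (S := Localization.Away t)
    (Submonoid.powers t) p hdisj
  haveI : (p.map (algebraMap C (Localization.Away t))).IsPrime :=
    IsLocalization.isPrime_of_isPrime_disjoint (Submonoid.powers t) _ _ hp hdisj
  calc (p.height : WithBot ℕ∞)
      = ((p.map (algebraMap C (Localization.Away t))).height : WithBot ℕ∞) := by rw [h3]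
    _ ≤ ringKrullDim (Localization.Away t) := Ideal.height_le_ringKrullDim_of_isPrime
    _ ≤ d := h1

end Groth.Agent.Lib.Helper96.FibreDim
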