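import Mathlib
import Groth.Agent.Lib.Helper96.RelNoether
import Groth.Agent.Lib.Helper55.DimTrdeg

/-! For a flat finite type algebra over a DVR, the dimension of the special fibre is bounded by
the dimension of the generic fibre (helper96). -/

set_option autoImplicit false
set_option linter.style.haveILetI false

open TensorProduct MvPolynomial

namespace Groth.Agent.Lib.Helper96.FibreDim

universe u

/-- If a polynomial ring in `s` variables over a field injects into a finite type algebra `C`,
then `s ≤ dim C`. -/
theorem le_ringKrullDim_of_injective (K C : Type u) [Field K] [CommRing C] [Algebra K C]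
    [Algebra.FiniteType K C] (s : ℕ) (Ψ : MvPolynomial (Fin s) K →ₐ[K] C)
    (hΨ : Function.Injective Ψ) : (s : WithBot ℕ∞) ≤ ringKrullDim C := by
  classical
  let S : Submonoid C := Submonoid.map (Ψ : MvPolynomial (Fin s) K →* C)
    (nonZeroDivisors (MvPolynomial (Fin s) K))
  have hdisj0 : Disjoint ((⊥ : Ideal C) : Set C) (S : Set C) := by
    rw [Set.disjoint_left]
    rintro x hx ⟨z, hz, rfl⟩
    have hz0 : z ≠ 0 := nonZeroDivisors.ne_zero hz
    have hx0 : Ψ z = 0 := hx
    exact hz0 (hΨ (by rw [hx0, map_zero]))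
  obtain ⟨P, hP, -, hdisj⟩ := Ideal.exists_le_prime_disjoint (⊥ : Ideal C) S hdisj0
  haveI := hP
  let Ψ' : MvPolynomial (Fin s) K →ₐ[K] C ⧸ P := (Ideal.Quotient.mkₐ K P).comp Ψ
  have hΨ' : Function.Injective Ψ' := by
    rw [injective_iff_map_eq_zero]
    intro z hz
    by_contra hz0
    have h1 : Ψ z ∈ P := by
      have : Ideal.Quotient.mk P (Ψ z) = 0 := hz
      exact Ideal.Quotient.eq_zero_iff_mem.mp this
    have h2 : Ψ z ∈ S := ⟨z, mem_nonZeroDivisors_of_ne_zero hz0, rfl⟩
    exact Set.disjoint_left.mp hdisj h1 h2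
  have h3 := Groth.Agent.Lib.Helper55.ringKrullDim_le_of_injective_of_finiteType K Ψ' hΨ'
  rw [RelNoether.ringKrullDim_mvPolynomial_fin] at h3
  exact h3.trans (ringKrullDim_quotient_le P)

theorem includeRight_surjective (V R : Type*) [CommRing V] [IsLocalRing V] [CommRing R]
    [Algebra V R] (t : IsLocalRing.ResidueField V ⊗[V] R) :
    ∃ r : R, (1 : IsLocalRing.ResidueField V) ⊗ₜ[V] r = t := by
  induction t using TensorProduct.induction_on with
  | zero => exact ⟨0, by simp⟩
  | tmul c r =>
    obtain ⟨v, rfl⟩ := IsLocalRing.residue_surjective c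
    refine ⟨v • r, ?_⟩
    rw [← TensorProduct.smul_tmul, ← IsLocalRing.ResidueField.algebraMap_eq,
      Algebra.algebraMap_eq_smul_one]
  | add a b ha hb =>
    obtain ⟨ra, rfl⟩ := ha
    obtain ⟨rb, rfl⟩ := hb
    exact ⟨ra + rb, by rw [TensorProduct.tmul_add]⟩

theorem ringKrullDim_specialFibre_le (V : Type u) [CommRing V] [IsDomain V]
    [IsDiscreteValuationRing V] (ϖ : V) (hϖ : Irreducible ϖ)
    (R : Type u) [CommRing R] [Algebra V R] [Module.Flat V R] [Algebra.FiniteType V R] (d : ℕ)
    (hη : ringKrullDim (FractionRing V ⊗[V] R) ≤ d) :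
    ringKrullDim (IsLocalRing.ResidueField V ⊗[V] R) ≤ d := by
  classical
  rcases subsingleton_or_nontrivial (IsLocalRing.ResidueField V ⊗[V] R) with hsub | hnt
  · rw [ringKrullDim_eq_bot_of_subsingleton]
    exact bot_le
  obtain ⟨s, g, hginj, hgfin⟩ :=
    exists_finite_inj_algHom_of_fg (IsLocalRing.ResidueField V) (IsLocalRing.ResidueField V ⊗[V] R)
  have hdim : ringKrullDim (IsLocalRing.ResidueField V ⊗[V] R) = s := by
    rw [Groth.Agent.Lib.Helper55.ringKrullDim_eq_of_ringHom_isIntegral_of_injective g.toRingHom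
      hgfin.to_isIntegral hginj, RelNoether.ringKrullDim_mvPolynomial_fin]
  rw [hdim]
  -- lift the generators
  choose y hy using fun i : Fin s => includeRight_surjective V R (g (X i))
  let ψ : MvPolynomial (Fin s) V →ₐ[V] R := aeval y
  have hcompat : ∀ q : MvPolynomial (Fin s) V,
      g (MvPolynomial.map (algebraMap V (IsLocalRing.ResidueField V)) q) =
        (1 : IsLocalRing.ResidueField V) ⊗ₜ[V] ψ q := by
    intro q
    have h1 : (g.toRingHom.comp (MvPolynomial.map (algebraMap V (IsLocalRing.ResidueField V)))) =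
        ((Algebra.TensorProduct.includeRight :
          R →ₐ[V] IsLocalRing.ResidueField V ⊗[V] R).toRingHom.comp ψ.toRingHom) := by
      apply MvPolynomial.ringHom_ext
      · intro v
        simp only [RingHom.coe_comp, Function.comp_apply, MvPolynomial.map_C,
          AlgHom.toRingHom_eq_coe, RingHom.coe_coe, MvPolynomial.algHom_C]
        rw [AlgHom.commutes, ← IsScalarTower.algebraMap_apply]
      · intro i
        simp only [RingHom.coe_comp, Function.comp_apply, MvPolynomial.map_X,
          AlgHom.toRingHom_eq_coe, RingHom.coe_coe, ψ, aeval_X,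
          Algebra.TensorProduct.includeRight_apply]
        exact (hy i).symm
    exact RingHom.congr_fun h1 q
  -- injectivity of ψ
  have hψ : Function.Injective ψ := by
    rw [injective_iff_map_eq_zero]
    intro q hq
    by_contra hq0
    have hnu : ¬ IsUnit (C ϖ : MvPolynomial (Fin s) V) := by
      intro hu
      have := hu.map (MvPolynomial.constantCoeff (R := V) (σ := Fin s))
      rw [MvPolynomial.constantCoeff_C] at this
      exact hϖ.not_isUnit this
    obtain ⟨n, a, hna, rfl⟩ := WfDvdMonoid.max_power_factor' hq0 hnu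
    have ha0 : ψ a = 0 := by
      rw [map_mul, map_pow] at hq
      have h1 : ψ (C ϖ) = algebraMap V R ϖ := by simp [ψ]
      rw [h1, ← map_pow, ← Algebra.smul_def] at hq
      exact (smul_eq_zero.mp hq).resolve_left (pow_ne_zero n hϖ.ne_zero)
    have h2 : MvPolynomial.map (algebraMap V (IsLocalRing.ResidueField V)) a = 0 := by
      apply hginj
      rw [hcompat a, ha0, TensorProduct.tmul_zero, map_zero]
    apply hna
    rw [MvPolynomial.C_dvd_iff_dvd_coeff]
    intro m
    have h3 : algebraMap V (IsLocalRing.ResidueField V) (coeff m a) = 0 := by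
      rw [← MvPolynomial.coeff_map, h2, coeff_zero]
    rw [IsLocalRing.ResidueField.algebraMap_eq, IsLocalRing.residue_eq_zero_iff,
      hϖ.maximalIdeal_eq, Ideal.mem_span_singleton] at h3
    exact h3
  -- base change to the fraction field
  let Θ : FractionRing V ⊗[V] MvPolynomial (Fin s) V →ₐ[FractionRing V] FractionRing V ⊗[V] R :=
    Algebra.TensorProduct.map (AlgHom.id (FractionRing V) (FractionRing V)) ψ
  have hΘ : Function.Injective Θ := by
    have h1 := Module.Flat.lTensor_preserves_injective_linearMap (M := FractionRing V)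
      ψ.toLinearMap hψ
    have h2 : ∀ z, Θ z = (ψ.toLinearMap.lTensor (FractionRing V)) z := by
      intro z
      induction z using TensorProduct.induction_on with
      | zero => simp
      | tmul c q => simp [Θ]
      | add a b ha hb => rw [map_add, map_add, ha, hb]
    intro z₁ z₂ hz
    apply h1
    rw [← h2, ← h2, hz]
  let Ψ : MvPolynomial (Fin s) (FractionRing V) →ₐ[FractionRing V] FractionRing V ⊗[V] R :=
    Θ.comp (MvPolynomial.algebraTensorAlgEquiv V (FractionRing V)).symm.toAlgHom
  have hΨ : Function.Injective Ψ :=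
    hΘ.comp (MvPolynomial.algebraTensorAlgEquiv V (FractionRing V)).symm.injective
  exact (le_ringKrullDim_of_injective (FractionRing V) (FractionRing V ⊗[V] R) s Ψ hΨ).trans hη

end Groth.Agent.Lib.Helper96.FibreDim
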