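import Mathlib
import Groth.Agent.Lib.Helper96.RelNoether

/-! Final assembly: simultaneous fibrewise Noether normalization with `N`-th power perturbation
for a finite type algebra over a base ring mapping to two fields (helper96). -/

set_option autoImplicit false
set_option linter.style.haveILetI false

open MvPolynomial TensorProduct

namespace Groth.Agent.Lib.Helper96.RelNoether

universe u

theorem adjoin_tmul_eq_top {V L R σ : Type*} [CommRing V] [CommRing L] [Algebra V L] [CommRing R]
    [Algebra V R] (g : σ → R) (hg : Algebra.adjoin V (Set.range g) = ⊤) :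
    Algebra.adjoin L (Set.range fun s => (1 : L) ⊗ₜ[V] g s) = ⊤ := by
  set T := Algebra.adjoin L (Set.range fun s => (1 : L) ⊗ₜ[V] g s) with hT
  have h1 : ∀ r : R, (1 : L) ⊗ₜ[V] r ∈ T := by
    intro r
    have hr : r ∈ Algebra.adjoin V (Set.range g) := hg ▸ Algebra.mem_top
    induction hr using Algebra.adjoin_induction with
    | mem x hx =>
      obtain ⟨s, rfl⟩ := hx
      exact Algebra.subset_adjoin ⟨s, rfl⟩
    | algebraMap v =>
      have : (1 : L) ⊗ₜ[V] (algebraMap V R v) = algebraMap L (L ⊗[V] R) (algebraMap V L v) := by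
        rw [← IsScalarTower.algebraMap_apply V L (L ⊗[V] R) v]
        exact (Algebra.TensorProduct.includeRight : R →ₐ[V] L ⊗[V] R).commutes v
      rw [this]
      exact T.algebraMap_mem _
    | add a b _ _ ha hb =>
      rw [TensorProduct.tmul_add]
      exact T.add_mem ha hb
    | mul a b _ _ ha hb =>
      have : (1 : L) ⊗ₜ[V] (a * b) = ((1 : L) ⊗ₜ[V] a) * ((1 : L) ⊗ₜ[V] b) := by
        rw [Algebra.TensorProduct.tmul_mul_tmul, one_mul]
      rw [this]
      exact T.mul_mem ha hb
  have h2 : ∀ t : L ⊗[V] R, t ∈ T := by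
    intro t
    induction t using TensorProduct.induction_on with
    | zero => exact T.zero_mem
    | tmul l r =>
      have : l ⊗ₜ[V] r = l • ((1 : L) ⊗ₜ[V] r) := by
        rw [TensorProduct.smul_tmul', smul_eq_mul, mul_one]
      rw [this]
      exact T.smul_mem (h1 r) l
    | add a b ha hb => exact T.add_mem ha hb
  rw [eq_top_iff]
  exact fun t _ => h2 t

theorem finite_of_integral {F A : Type*} [Field F] [CommRing A] [Algebra F A]
    [Algebra.FiniteType F A] {d : ℕ} (f : Fin d → A)
    (h : (aeval (R := F) f).toRingHom.IsIntegral) : (aeval (R := F) f).toRingHom.Finite := by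
  have hcomp : algebraMap F A =
      (aeval (R := F) f).toRingHom.comp (algebraMap F (MvPolynomial (Fin d) F)) := by
    ext a
    simp
  have hft : ((aeval (R := F) f).toRingHom.comp
      (algebraMap F (MvPolynomial (Fin d) F))).FiniteType := by
    rw [← hcomp]
    exact RingHom.finiteType_algebraMap.mpr inferInstance
  exact h.to_finite hft.of_comp_finiteType

/-- Fibrewise Noether normalization with `N`-th power perturbations. -/
theorem main_two_fields (V : Type u) [CommRing V] (L₁ L₂ : Type u) [Field L₁] [Field L₂]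
    [Algebra V L₁] [Algebra V L₂] (R : Type u) [CommRing R] [Algebra V R]
    [Algebra.FiniteType V R] (d : ℕ)
    (h₁ : ringKrullDim (L₁ ⊗[V] R) ≤ d) (h₂ : ringKrullDim (L₂ ⊗[V] R) ≤ d)
    (x : Fin d → R) (N : ℕ) (hN : 1 ≤ N) :
    ∃ y : Fin d → R, (∀ i, y i ∈ Subring.closure (Set.range fun r : R => r ^ N)) ∧
      (aeval (R := L₁) (fun i => (1 : L₁) ⊗ₜ[V] (x i + y i))).toRingHom.Finite ∧
      (aeval (R := L₂) (fun i => (1 : L₂) ⊗ₜ[V] (x i + y i))).toRingHom.Finite := by
  obtain ⟨n, f, hf⟩ := Algebra.FiniteType.iff_quotient_mvPolynomial''.mp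
    (inferInstance : Algebra.FiniteType V R)
  let r : Fin n → R := fun l => f (X l)
  have hr : Algebra.adjoin V (Set.range r) = ⊤ := by
    rw [← aeval_range]
    have : (aeval r : MvPolynomial (Fin n) V →ₐ[V] R) = f := (aeval_unique f).symm
    rw [this, AlgHom.range_eq_top]
    exact hf
  let gR : Fin d ⊕ Fin n → R := Sum.elim x r
  have hgR : Algebra.adjoin V (Set.range gR) = ⊤ := by
    rw [eq_top_iff, ← hr]
    apply Algebra.adjoin_mono
    rintro _ ⟨l, rfl⟩
    exact ⟨Sum.inr l, rfl⟩
  obtain ⟨Y, hY, hi₁, hi₂⟩ := main (d := d) N hN n L₁ (L₁ ⊗[V] R) L₂ (L₂ ⊗[V] R)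
    (fun s => (1 : L₁) ⊗ₜ[V] gR s) (fun s => (1 : L₂) ⊗ₜ[V] gR s)
    (adjoin_tmul_eq_top gR hgR) (adjoin_tmul_eq_top gR hgR) h₁ h₂
  refine ⟨fun i => aeval gR (Y i), fun i => ?_, ?_, ?_⟩
  · exact map_mem_Cl N (aeval gR : MvPolynomial (Fin d ⊕ Fin n) ℤ →ₐ[ℤ] R).toRingHom (hY i)
  · have hfun : (fun i => (1 : L₁) ⊗ₜ[V] (x i + aeval gR (Y i))) =
        fun i => (1 : L₁) ⊗ₜ[V] gR (Sum.inl i) + aeval (fun s => (1 : L₁) ⊗ₜ[V] gR s) (Y i) := by
      funext i
      have := ringHom_aeval_int
        (Algebra.TensorProduct.includeRight : R →ₐ[V] L₁ ⊗[V] R).toRingHom gR (Y i)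
      simp only [AlgHom.toRingHom_eq_coe, RingHom.coe_coe,
        Algebra.TensorProduct.includeRight_apply] at this
      rw [TensorProduct.tmul_add, this]
      rfl
    rw [hfun]
    exact finite_of_integral _ hi₁
  · have hfun : (fun i => (1 : L₂) ⊗ₜ[V] (x i + aeval gR (Y i))) =
        fun i => (1 : L₂) ⊗ₜ[V] gR (Sum.inl i) + aeval (fun s => (1 : L₂) ⊗ₜ[V] gR s) (Y i) := by
      funext i
      have := ringHom_aeval_int
        (Algebra.TensorProduct.includeRight : R →ₐ[V] L₂ ⊗[V] R).toRingHom gR (Y i)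
      simp only [AlgHom.toRingHom_eq_coe, RingHom.coe_coe,
        Algebra.TensorProduct.includeRight_apply] at this
      rw [TensorProduct.tmul_add, this]
      rfl
    rw [hfun]
    exact finite_of_integral _ hi₂

end Groth.Agent.Lib.Helper96.RelNoether
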