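import Mathlib
import Groth.Agent.Lib.Helper96.EtaEtaleB
import Groth.Agent.Lib.Helper96.FibreDimG
import Groth.Agent.Lib.Helper96.FibreDimS
import Groth.Agent.Lib.Helper96.RelNoetherFinal
import Groth.Agent.S14384

/-! Existence of fibrewise finite η-étale maps (helper96). -/

set_option autoImplicit false
set_option linter.style.haveILetI false

open TensorProduct KaehlerDifferential AlgebraicGeometry CategoryTheory MvPolynomial

namespace Groth.Agent.Lib.Helper96.EtaEtale

universe u

theorem mem_span_singleton_smul_top {R M : Type*} [CommRing R] [AddCommGroup M] [Module R M]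
    (t : R) (x : M) : x ∈ Ideal.span {t} • (⊤ : Submodule R M) ↔ ∃ y, x = t • y := by
  constructor
  · intro h
    refine Submodule.smul_induction_on h ?_ ?_
    · intro r hr m _
      obtain ⟨c, rfl⟩ := Ideal.mem_span_singleton'.mp hr
      exact ⟨c • m, by rw [smul_smul, mul_comm]⟩
    · rintro a b ⟨ya, rfl⟩ ⟨yb, rfl⟩
      exact ⟨ya + yb, (smul_add _ _ _).symm⟩
  · rintro ⟨y, rfl⟩
    exact Submodule.smul_mem_smul (Ideal.mem_span_singleton_self _) Submodule.mem_top

/-- Translation between conditions on `Ω[R/P]` and on `Ω[R/V]`. -/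
theorem kaehler_translate (V P R : Type*) [CommRing V] [CommRing P] [CommRing R] [Algebra V P]
    [Algebra V R] [Algebra P R] [IsScalarTower V P R] {ι : Type*} (gen : ι → P)
    (hgen : Algebra.adjoin V (Set.range gen) = ⊤) (r t : R) :
    (Ideal.span {r} • (⊤ : Submodule R Ω[R⁄P]) ≤ Ideal.span {t} • ⊤) ↔
      (Ideal.span {r} • (⊤ : Submodule R Ω[R⁄V]) ≤ Ideal.span {t} • ⊤ ⊔
        Submodule.span R (Set.range fun i => D V R (algebraMap P R (gen i)))) := by
  set W : Submodule R Ω[R⁄V] :=
    Submodule.span R (Set.range fun i => D V R (algebraMap P R (gen i))) with hW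
  have hq : ∀ q : P, D V R (algebraMap P R q) ∈ W := by
    intro q
    have hqmem : q ∈ Algebra.adjoin V (Set.range gen) := hgen ▸ Algebra.mem_top
    induction hqmem using Algebra.adjoin_induction with
    | mem x hx =>
      obtain ⟨i, rfl⟩ := hx
      exact Submodule.subset_span ⟨i, rfl⟩
    | algebraMap v =>
      rw [← IsScalarTower.algebraMap_apply, Derivation.map_algebraMap]
      exact W.zero_mem
    | add a b _ _ ha hb =>
      rw [map_add, map_add]
      exact W.add_mem ha hb
    | mul a b _ _ ha hb =>
      rw [map_mul, Derivation.leibniz]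
      exact W.add_mem (W.smul_mem _ hb) (W.smul_mem _ ha)
  have h1 : ∀ ξ : Ω[P⁄V], KaehlerDifferential.map V V P R ξ ∈ W := by
    intro ξ
    have hξ : ξ ∈ Submodule.span P (Set.range (D V P)) := by
      rw [KaehlerDifferential.span_range_derivation]
      trivial
    induction hξ using Submodule.span_induction with
    | mem x hx =>
      obtain ⟨q, rfl⟩ := hx
      rw [KaehlerDifferential.map_D]
      exact hq q
    | zero => rw [map_zero]; exact W.zero_mem
    | add a b _ _ ha hb => rw [map_add]; exact W.add_mem ha hb
    | smul a x _ hx =>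
      rw [map_smul, ← algebraMap_smul R a]
      exact W.smul_mem _ hx
  have hker : ∀ ω : Ω[R⁄V], KaehlerDifferential.map V P R R ω = 0 → ω ∈ W := by
    intro ω hω
    have hmem : ω ∈ LinearMap.range (mapBaseChange V P R) := by
      rw [KaehlerDifferential.range_mapBaseChange]
      exact hω
    obtain ⟨z, rfl⟩ := hmem
    induction z using TensorProduct.induction_on with
    | zero => rw [map_zero]; exact W.zero_mem
    | tmul b ξ =>
      rw [mapBaseChange_tmul]
      exact W.smul_mem _ (h1 ξ)
    | add a b ha hb =>
      rw [map_add] at hω ⊢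
      -- we cannot split the kernel condition, argue directly
      exact W.add_mem (by
        clear ha hb hω
        induction a using TensorProduct.induction_on with
        | zero => rw [map_zero]; exact W.zero_mem
        | tmul b ξ => rw [mapBaseChange_tmul]; exact W.smul_mem _ (h1 ξ)
        | add a b ha hb => rw [map_add]; exact W.add_mem ha hb) (by
        clear ha hb hω
        induction b using TensorProduct.induction_on with
        | zero => rw [map_zero]; exact W.zero_mem
        | tmul b ξ => rw [mapBaseChange_tmul]; exact W.smul_mem _ (h1 ξ)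
        | add a b ha hb => rw [map_add]; exact W.add_mem ha hb)
  have hWker : ∀ w ∈ W, KaehlerDifferential.map V P R R w = 0 := by
    intro w hw
    induction hw using Submodule.span_induction with
    | mem x hx =>
      obtain ⟨i, rfl⟩ := hx
      rw [KaehlerDifferential.map_D]
      simp
    | zero => rw [map_zero]
    | add a b _ _ ha hb => rw [map_add, ha, hb, add_zero]
    | smul a x _ hx => rw [map_smul, hx, smul_zero]
  have hsurj : Function.Surjective (KaehlerDifferential.map V P R R) :=
    KaehlerDifferential.map_surjective V P R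
  constructor
  · intro h
    rw [Submodule.smul_le]
    intro c hc ω _
    obtain ⟨c', rfl⟩ := Ideal.mem_span_singleton'.mp hc
    have h2 : (c' * r) • KaehlerDifferential.map V P R R ω ∈
        Ideal.span {t} • (⊤ : Submodule R Ω[R⁄P]) :=
      h (Submodule.smul_mem_smul (Ideal.mem_span_singleton'.mpr ⟨c', rfl⟩) Submodule.mem_top)
    obtain ⟨η, hη⟩ := (mem_span_singleton_smul_top t _).mp h2
    obtain ⟨ω', rfl⟩ := hsurj η
    have h3 : (c' * r) • ω - t • ω' ∈ W := by
      apply hker
      rw [map_sub, map_smul, map_smul, hη, sub_self]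
    have h4 : (c' * r) • ω = t • ω' + ((c' * r) • ω - t • ω') := by abel
    rw [h4]
    exact Submodule.add_mem_sup ((mem_span_singleton_smul_top t _).mpr ⟨ω', rfl⟩) h3
  · intro h
    rw [Submodule.smul_le]
    intro c hc η _
    obtain ⟨ω, rfl⟩ := hsurj η
    have h2 : c • ω ∈ Ideal.span {t} • (⊤ : Submodule R Ω[R⁄V]) ⊔ W :=
      h (Submodule.smul_mem_smul hc Submodule.mem_top)
    obtain ⟨z, hz, w, hw, hzw⟩ := Submodule.mem_sup.mp h2
    obtain ⟨ω'', rfl⟩ := (mem_span_singleton_smul_top t _).mp hz
    rw [← map_smul, ← hzw, map_add, hWker w hw, add_zero, map_smul]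
    exact (mem_span_singleton_smul_top t _).mpr ⟨_, rfl⟩

end Groth.Agent.Lib.Helper96.EtaEtale
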