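import Mathlib
import Groth.Agent.Lib.Helper96.EtaEtaleFin

/-! Existence of fibrewise finite η-étale maps: final assembly (helper96). -/

set_option autoImplicit false
set_option linter.style.haveILetI false

open TensorProduct KaehlerDifferential AlgebraicGeometry CategoryTheory MvPolynomial

namespace Groth.Agent.Lib.Helper96.EtaEtale

universe u

open Algebra in
/-- The tautological pre-submersive presentation of a polynomial algebra (no relations);
copied from helper13's `EquidimAffSpace`. -/
noncomputable def mvPolyPreSubmersive (R : Type*) [CommRing R] (σ : Type*) [Finite σ] :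
    Algebra.PreSubmersivePresentation R (MvPolynomial σ R) σ PEmpty.{1} where
  toGenerators := Algebra.Generators.mvPolynomial R σ
  relation := PEmpty.elim
  span_range_relation_eq_ker := by
    rw [Algebra.Generators.ker_mvPolynomial]
    simp
  map := PEmpty.elim
  map_inj := fun a => a.elim

open Algebra in
noncomputable def mvPolySubmersive (R : Type*) [CommRing R] (σ : Type*) [Finite σ] :
    Algebra.SubmersivePresentation R (MvPolynomial σ R) σ PEmpty.{1} where
  toPreSubmersivePresentation := mvPolyPreSubmersive R σ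
  jacobian_isUnit := by
    rw [PreSubmersivePresentation.jacobian_eq_jacobiMatrix_det, RingHom.map_det,
      Matrix.det_isEmpty]
    exact isUnit_one

theorem isStandardSmoothOfRelativeDimension_mvPolynomial (R : Type*) [CommRing R] (σ : Type*)
    [Finite σ] (n : ℕ) (hn : Nat.card σ = n) :
    Algebra.IsStandardSmoothOfRelativeDimension n R (MvPolynomial σ R) := by
  refine Algebra.SubmersivePresentation.isStandardSmoothOfRelativeDimension
    (mvPolySubmersive R σ) ?_
  simp [Algebra.Presentation.dimension, hn]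

theorem smoothOfRelativeDimension_tensor_mvPolynomial (V K : Type u) [CommRing V] [CommRing K]
    [Algebra V K] (d : ℕ) :
    SmoothOfRelativeDimension d
      (Spec.map (CommRingCat.ofHom (algebraMap K (K ⊗[V] MvPolynomial (Fin d) V)))) := by
  rw [HasRingHomProperty.Spec_iff (P := @SmoothOfRelativeDimension d)]
  apply RingHom.locally_of RingHom.isStandardSmoothOfRelativeDimension_respectsIso
  rw [CommRingCat.hom_ofHom, RingHom.isStandardSmoothOfRelativeDimension_algebraMap]
  haveI : Algebra.IsStandardSmoothOfRelativeDimension d V (MvPolynomial (Fin d) V) :=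
    isStandardSmoothOfRelativeDimension_mvPolynomial V (Fin d) d (by simp)
  infer_instance

section

variable (V : Type u) [CommRing V] [IsDomain V] [IsDiscreteValuationRing V] [CharZero V]
  (ϖ : V) (hϖ : Irreducible ϖ) (p : ℕ) [Fact p.Prime] [CharP (IsLocalRing.ResidueField V) p]
  (R : Type u) [CommRing R] [Algebra V R] [Algebra.FiniteType V R] (d : ℕ)

include hϖ in
theorem omega_cond_of_etaEtale (x' : Fin d → R)
    (hx' : ∃ a : R, Ideal.span {a} ⊔ Ideal.span {algebraMap V R ϖ} = ⊤ ∧
        ((algebraMap R (Localization.Away (a * algebraMap V R ϖ))).comp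
          (MvPolynomial.aeval x' : MvPolynomial (Fin d) V →ₐ[V] R).toRingHom).Etale) :
    ∃ n : ℕ, Ideal.span {((p : R)) ^ n} • (⊤ : Submodule R (Ω[R⁄V])) ≤
      Ideal.span {algebraMap V R ϖ * (p : R) ^ n} • (⊤ : Submodule R (Ω[R⁄V])) ⊔
        Submodule.span R (Set.range fun i => KaehlerDifferential.D V R (x' i)) := by
  obtain ⟨a, hcop, het⟩ := hx'
  letI alg : Algebra (MvPolynomial (Fin d) V) R :=
    (MvPolynomial.aeval x' : MvPolynomial (Fin d) V →ₐ[V] R).toRingHom.toAlgebra
  haveI : IsScalarTower V (MvPolynomial (Fin d) V) R :=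
    IsScalarTower.of_algebraMap_eq (fun v =>
      ((MvPolynomial.aeval x' : MvPolynomial (Fin d) V →ₐ[V] R).commutes v).symm)
  obtain ⟨n, hn⟩ := forward V ϖ hϖ p (MvPolynomial (Fin d) V) R a hcop het
  refine ⟨n, ?_⟩
  have h := (kaehler_translate V (MvPolynomial (Fin d) V) R (X : Fin d → MvPolynomial (Fin d) V)
    (MvPolynomial.adjoin_range_X) ((p : R) ^ n) (algebraMap V R ϖ * (p : R) ^ n)).mp hn
  have hX : ∀ i : Fin d, algebraMap (MvPolynomial (Fin d) V) R (X i) = x' i := fun i =>
    MvPolynomial.aeval_X x' i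
  simp only [hX] at h
  exact h

include hϖ in
theorem etaEtale_of_omega_cond
    (hsm : SmoothOfRelativeDimension d
      (Spec.map (CommRingCat.ofHom (algebraMap (FractionRing V) (FractionRing V ⊗[V] R)))))
    (x : Fin d → R) (n : ℕ)
    (h : Ideal.span {((p : R)) ^ n} • (⊤ : Submodule R (Ω[R⁄V])) ≤
      Ideal.span {algebraMap V R ϖ * (p : R) ^ n} • (⊤ : Submodule R (Ω[R⁄V])) ⊔
        Submodule.span R (Set.range fun i => KaehlerDifferential.D V R (x i))) :
    ∃ a : R, Ideal.span {a} ⊔ Ideal.span {algebraMap V R ϖ} = ⊤ ∧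
        ((algebraMap R (Localization.Away (a * algebraMap V R ϖ))).comp
          (MvPolynomial.aeval x : MvPolynomial (Fin d) V →ₐ[V] R).toRingHom).Etale := by
  letI alg : Algebra (MvPolynomial (Fin d) V) R :=
    (MvPolynomial.aeval x : MvPolynomial (Fin d) V →ₐ[V] R).toRingHom.toAlgebra
  haveI : IsScalarTower V (MvPolynomial (Fin d) V) R :=
    IsScalarTower.of_algebraMap_eq (fun v =>
      ((MvPolynomial.aeval x : MvPolynomial (Fin d) V →ₐ[V] R).commutes v).symm)
  have hX : ∀ i : Fin d, algebraMap (MvPolynomial (Fin d) V) R (X i) = x i := fun i =>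
    MvPolynomial.aeval_X x i
  have h' : Ideal.span {((p : R)) ^ n} • (⊤ : Submodule R (Ω[R⁄MvPolynomial (Fin d) V])) ≤
      Ideal.span {algebraMap V R ϖ * (p : R) ^ n} • ⊤ := by
    refine (kaehler_translate V (MvPolynomial (Fin d) V) R
      (X : Fin d → MvPolynomial (Fin d) V) (MvPolynomial.adjoin_range_X) ((p : R) ^ n)
      (algebraMap V R ϖ * (p : R) ^ n)).mpr ?_
    simp only [hX]
    exact h
  exact backward V ϖ hϖ p (MvPolynomial (Fin d) V) R d
    (smoothOfRelativeDimension_tensor_mvPolynomial V (FractionRing V) d) hsm ⟨n, h'⟩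

end

theorem main385 (V : Type u) [CommRing V] [IsDomain V] [IsDiscreteValuationRing V] [CharZero V]
    (ϖ : V) (hϖ : Irreducible ϖ) (p : ℕ) [Fact p.Prime] [CharP (IsLocalRing.ResidueField V) p]
    [PerfectField (IsLocalRing.ResidueField V)]
    (R : Type u) [CommRing R] [Algebra V R] [Module.Flat V R] [Algebra.FiniteType V R] (d : ℕ)
    (hsm : SmoothOfRelativeDimension d
      (Spec.map (CommRingCat.ofHom (algebraMap (FractionRing V) (FractionRing V ⊗[V] R)))))
    (x' : Fin d → R) (hx' : (∃ a : R, Ideal.span {a} ⊔ Ideal.span {algebraMap V R ϖ} = ⊤ ∧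
        ((algebraMap R (Localization.Away (a * algebraMap V R ϖ))).comp
          (MvPolynomial.aeval x' : MvPolynomial (Fin d) V →ₐ[V] R).toRingHom).Etale)) :
    ∃ x : Fin d → R, (∃ a : R, Ideal.span {a} ⊔ Ideal.span {algebraMap V R ϖ} = ⊤ ∧
        ((algebraMap R (Localization.Away (a * algebraMap V R ϖ))).comp
          (MvPolynomial.aeval x : MvPolynomial (Fin d) V →ₐ[V] R).toRingHom).Etale) ∧
      (MvPolynomial.aeval (fun i => (1 : IsLocalRing.ResidueField V) ⊗ₜ[V] x i) :
          MvPolynomial (Fin d) (IsLocalRing.ResidueField V) →ₐ[IsLocalRing.ResidueField V]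
            IsLocalRing.ResidueField V ⊗[V] R).toRingHom.Finite ∧
      (MvPolynomial.aeval (fun i => (1 : FractionRing V) ⊗ₜ[V] x i) :
          MvPolynomial (Fin d) (FractionRing V) →ₐ[FractionRing V]
            FractionRing V ⊗[V] R).toRingHom.Finite := by
  obtain ⟨n, hn⟩ := omega_cond_of_etaEtale V ϖ hϖ p R d x' hx'
  have hη : ringKrullDim (FractionRing V ⊗[V] R) ≤ d :=
    FibreDim.ringKrullDim_le_of_smoothOfRelativeDimension (FractionRing V) _ d hsm
  have hs : ringKrullDim (IsLocalRing.ResidueField V ⊗[V] R) ≤ d :=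
    FibreDim.ringKrullDim_specialFibre_le V ϖ hϖ R d hη
  obtain ⟨y, hy, hfk, hfK⟩ := RelNoether.main_two_fields V (IsLocalRing.ResidueField V)
    (FractionRing V) R d hs hη x' (p ^ (n + 1))
    (Nat.one_le_pow _ _ (Fact.out : p.Prime).pos)
  have hcond := Groth.Agent.S14384.result V ϖ hϖ p R d n x' hn y hy
  exact ⟨fun i => x' i + y i,
    etaEtale_of_omega_cond V ϖ hϖ p R d hsm (fun i => x' i + y i) n hcond, hfk, hfK⟩

end Groth.Agent.Lib.Helper96.EtaEtale
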