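import Mathlib

/-!
# Flat base change commutes with the homology of a pair of composable maps

For `K`-linear maps `f : C₀ → C₁`, `g : C₁ → C₂` (no assumption `g ∘ f = 0`), put
`H(f, g) = ker g ⧸ (range f ∩ ker g)`.  If `R` is a flat `K`-algebra and `φᵢ : R ⊗ Cᵢ → Dᵢ` are
`R`-linear maps (`φ₀` surjective, `φ₁` bijective, `φ₂` injective) intertwining `R ⊗ f, R ⊗ g` with
`R`-linear maps `f' : D₀ → D₁`, `g' : D₁ → D₂`, then `R ⊗ H(f, g) ≅ H(f', g')`, `r ⊗ [z] ↦ [φ₁ (r ⊗ z)]`.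
-/

set_option autoImplicit false

open TensorProduct

namespace Groth.Agent.Lib.Helper96.FlatHomology

variable {K : Type*} [CommRing K] {R : Type*} [CommRing R] [Algebra K R] [Module.Flat K R]

/-- Flatness: the kernel of a base-changed map is the image of the base change of the kernel. -/
theorem exists_of_baseChange_eq_zero {M P : Type*} [AddCommGroup M] [Module K M] [AddCommGroup P]
    [Module K P] (h : M →ₗ[K] P) (x : R ⊗[K] M) (hx : h.baseChange R x = 0) :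
    ∃ y : R ⊗[K] LinearMap.ker h, (LinearMap.ker h).subtype.baseChange R y = x := by
  have h1 := Module.Flat.ker_lTensor_eq (R := K) R R h
  have hx' : x ∈ LinearMap.ker (TensorProduct.AlgebraTensorModule.lTensor R R h) := hx
  rw [h1] at hx'
  exact hx'

omit [Module.Flat K R] in
theorem baseChange_baseChange_apply {M N P : Type*} [AddCommGroup M] [Module K M] [AddCommGroup N]
    [Module K N] [AddCommGroup P] [Module K P] (a : M →ₗ[K] N) (b : N →ₗ[K] P) (y : R ⊗[K] M) :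
    b.baseChange R (a.baseChange R y) = (b ∘ₗ a).baseChange R y := by
  rw [LinearMap.baseChange_comp]; rfl

theorem exists_linearEquiv_homology
    {C₀ C₁ C₂ : Type*} [AddCommGroup C₀] [Module K C₀] [AddCommGroup C₁] [Module K C₁]
    [AddCommGroup C₂] [Module K C₂]
    {D₀ D₁ D₂ : Type*} [AddCommGroup D₀] [Module R D₀] [AddCommGroup D₁] [Module R D₁]
    [AddCommGroup D₂] [Module R D₂]
    (f : C₀ →ₗ[K] C₁) (g : C₁ →ₗ[K] C₂) (f' : D₀ →ₗ[R] D₁) (g' : D₁ →ₗ[R] D₂)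
    (φ₀ : R ⊗[K] C₀ →ₗ[R] D₀) (φ₁ : R ⊗[K] C₁ →ₗ[R] D₁) (φ₂ : R ⊗[K] C₂ →ₗ[R] D₂)
    (h₀ : Function.Surjective φ₀) (h₁ : Function.Bijective φ₁) (h₂ : Function.Injective φ₂)
    (hf : ∀ x, φ₁ (f.baseChange R x) = f' (φ₀ x)) (hg : ∀ x, φ₂ (g.baseChange R x) = g' (φ₁ x)) :
    ∃ e : R ⊗[K] (LinearMap.ker g ⧸ (LinearMap.range f).comap (LinearMap.ker g).subtype) ≃ₗ[R]
        (LinearMap.ker g' ⧸ (LinearMap.range f').comap (LinearMap.ker g').subtype),
      ∀ (r : R) (z : LinearMap.ker g) (hz : φ₁ (r ⊗ₜ[K] (z : C₁)) ∈ LinearMap.ker g'),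
        e (r ⊗ₜ[K] Submodule.Quotient.mk z) = Submodule.Quotient.mk ⟨φ₁ (r ⊗ₜ[K] (z : C₁)), hz⟩ := by
  classical
  have hmem : ∀ y : R ⊗[K] LinearMap.ker g,
      (φ₁ ∘ₗ (LinearMap.ker g).subtype.baseChange R) y ∈ LinearMap.ker g' := by
    intro y
    rw [LinearMap.mem_ker, LinearMap.comp_apply, ← hg, baseChange_baseChange_apply]
    have h0 : g ∘ₗ (LinearMap.ker g).subtype = 0 := by
      ext z; exact z.2
    rw [h0, LinearMap.baseChange_zero, LinearMap.zero_apply, map_zero]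
  -- the map `R ⊗ Z → Z'`
  let Ψ₀ : R ⊗[K] LinearMap.ker g →ₗ[R] LinearMap.ker g' :=
    LinearMap.codRestrict (LinearMap.ker g') (φ₁ ∘ₗ (LinearMap.ker g).subtype.baseChange R) hmem
  have hΨ₀ : ∀ y, ((Ψ₀ y : LinearMap.ker g') : D₁) =
      φ₁ ((LinearMap.ker g).subtype.baseChange R y) := fun y => rfl
  let N := (LinearMap.range f).comap (LinearMap.ker g).subtype
  let N' := (LinearMap.range f').comap (LinearMap.ker g').subtype
  let Φ : R ⊗[K] LinearMap.ker g →ₗ[R] (LinearMap.ker g' ⧸ N') := N'.mkQ ∘ₗ Ψ₀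
  let p : R ⊗[K] LinearMap.ker g →ₗ[R] R ⊗[K] (LinearMap.ker g ⧸ N) := N.mkQ.baseChange R
  have hp : Function.Surjective p :=
    LinearMap.lTensor_surjective R (Submodule.mkQ_surjective N)
  -- `Φ` kills the image of `R ⊗ N`
  have hΦN : ∀ y' : R ⊗[K] N, Φ (N.subtype.baseChange R y') = 0 := by
    intro y'
    induction y' using TensorProduct.induction_on with
    | zero => simp
    | tmul r n =>
      obtain ⟨c, hc⟩ := n.2
      show N'.mkQ (Ψ₀ (N.subtype.baseChange R (r ⊗ₜ n))) = 0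
      rw [Submodule.mkQ_apply, Submodule.Quotient.mk_eq_zero]
      show ((Ψ₀ (N.subtype.baseChange R (r ⊗ₜ n)) : LinearMap.ker g') : D₁) ∈ LinearMap.range f'
      rw [hΨ₀]
      refine ⟨φ₀ (r ⊗ₜ c), ?_⟩
      rw [← hf, LinearMap.baseChange_tmul, hc]
      rfl
    | add a b ha hb => rw [map_add, map_add, ha, hb, add_zero]
  have hexact : Function.Exact (N.subtype.baseChange R) p :=
    lTensor_exact R (LinearMap.exact_subtype_mkQ N) (Submodule.mkQ_surjective N)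
  have hker : LinearMap.ker p ≤ LinearMap.ker Φ := by
    intro y hy
    obtain ⟨y', rfl⟩ := (hexact y).mp hy
    exact hΦN y'
  let e₀ : R ⊗[K] (LinearMap.ker g ⧸ N) →ₗ[R] (LinearMap.ker g' ⧸ N') :=
    (LinearMap.ker p).liftQ Φ hker ∘ₗ (p.quotKerEquivOfSurjective hp).symm.toLinearMap
  have he₀ : ∀ y, e₀ (p y) = Φ y := by
    intro y
    have h1 : (p.quotKerEquivOfSurjective hp).symm (p y) = Submodule.Quotient.mk y := by
      rw [LinearEquiv.symm_apply_eq, LinearMap.quotKerEquivOfSurjective_apply_mk]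
    show (LinearMap.ker p).liftQ Φ hker ((p.quotKerEquivOfSurjective hp).symm (p y)) = Φ y
    rw [h1, Submodule.liftQ_apply]
  have hinj : Function.Injective e₀ := by
    rw [injective_iff_map_eq_zero]
    intro t ht
    obtain ⟨y, rfl⟩ := hp t
    rw [he₀] at ht
    have h1 : Ψ₀ y ∈ N' := (Submodule.Quotient.mk_eq_zero N').mp ht
    obtain ⟨w', hw'⟩ : ((Ψ₀ y : LinearMap.ker g') : D₁) ∈ LinearMap.range f' := h1
    obtain ⟨w, rfl⟩ := h₀ w'
    rw [← hf, hΨ₀] at hw'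
    have h2 : f.baseChange R w = (LinearMap.ker g).subtype.baseChange R y := h₁.1 hw'
    -- the quotient by the range of `f`
    let q : C₁ →ₗ[K] C₁ ⧸ LinearMap.range f := (LinearMap.range f).mkQ
    have hqf : q ∘ₗ f = 0 := by
      ext c
      exact (Submodule.Quotient.mk_eq_zero _).mpr ⟨c, rfl⟩
    have h3 : (q ∘ₗ (LinearMap.ker g).subtype).baseChange R y = 0 := by
      rw [← baseChange_baseChange_apply, ← h2, baseChange_baseChange_apply, hqf,
        LinearMap.baseChange_zero, LinearMap.zero_apply]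
    obtain ⟨y'', hy''⟩ := exists_of_baseChange_eq_zero (R := R) _ y h3
    rw [← hy'']
    show (N.mkQ.baseChange R) ((LinearMap.ker (q ∘ₗ (LinearMap.ker g).subtype)).subtype.baseChange R y'') = 0
    rw [baseChange_baseChange_apply]
    have h4 : N.mkQ ∘ₗ (LinearMap.ker (q ∘ₗ (LinearMap.ker g).subtype)).subtype = 0 := by
      ext z
      have hz : q ((z : LinearMap.ker g) : C₁) = 0 := z.2
      have hz' : ((z : LinearMap.ker g) : C₁) ∈ LinearMap.range f :=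
        (Submodule.Quotient.mk_eq_zero _).mp hz
      exact (Submodule.Quotient.mk_eq_zero N).mpr hz'
    rw [h4, LinearMap.baseChange_zero, LinearMap.zero_apply]
  have hsurj : Function.Surjective e₀ := by
    intro w
    obtain ⟨z', rfl⟩ := Submodule.mkQ_surjective N' w
    obtain ⟨x, hx⟩ := h₁.2 (z' : D₁)
    have h1 : g.baseChange R x = 0 := by
      apply h₂
      rw [hg, hx, map_zero]
      exact z'.2
    obtain ⟨y, hy⟩ := exists_of_baseChange_eq_zero (R := R) g x h1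
    refine ⟨p y, ?_⟩
    rw [he₀]
    show N'.mkQ (Ψ₀ y) = N'.mkQ z'
    congr 1
    apply Subtype.ext
    rw [hΨ₀, hy, hx]
  refine ⟨LinearEquiv.ofBijective e₀ ⟨hinj, hsurj⟩, ?_⟩
  intro r z hz
  show e₀ (r ⊗ₜ[K] N.mkQ z) = _
  have h1 : r ⊗ₜ[K] N.mkQ z = p (r ⊗ₜ[K] z) := rfl
  rw [h1, he₀]
  show N'.mkQ (Ψ₀ (r ⊗ₜ[K] z)) = _
  rfl

/-- Variant of `exists_linearEquiv_homology` with the boundaries given as arbitrary submodules
equal to the ranges. -/
theorem exists_linearEquiv_homology'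
    {C₀ C₁ C₂ : Type*} [AddCommGroup C₀] [Module K C₀] [AddCommGroup C₁] [Module K C₁]
    [AddCommGroup C₂] [Module K C₂]
    {D₀ D₁ D₂ : Type*} [AddCommGroup D₀] [Module R D₀] [AddCommGroup D₁] [Module R D₁]
    [AddCommGroup D₂] [Module R D₂]
    (f : C₀ →ₗ[K] C₁) (g : C₁ →ₗ[K] C₂) (f' : D₀ →ₗ[R] D₁) (g' : D₁ →ₗ[R] D₂)
    (φ₀ : R ⊗[K] C₀ →ₗ[R] D₀) (φ₁ : R ⊗[K] C₁ →ₗ[R] D₁) (φ₂ : R ⊗[K] C₂ →ₗ[R] D₂)
    (h₀ : Function.Surjective φ₀) (h₁ : Function.Bijective φ₁) (h₂ : Function.Injective φ₂)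
    (hf : ∀ x, φ₁ (f.baseChange R x) = f' (φ₀ x)) (hg : ∀ x, φ₂ (g.baseChange R x) = g' (φ₁ x))
    (B : Submodule K C₁) (B' : Submodule R D₁) (hB : B = LinearMap.range f)
    (hB' : B' = LinearMap.range f') :
    ∃ e : R ⊗[K] (LinearMap.ker g ⧸ B.comap (LinearMap.ker g).subtype) ≃ₗ[R]
        (LinearMap.ker g' ⧸ B'.comap (LinearMap.ker g').subtype),
      ∀ (r : R) (z : LinearMap.ker g) (hz : φ₁ (r ⊗ₜ[K] (z : C₁)) ∈ LinearMap.ker g'),
        e (r ⊗ₜ[K] Submodule.Quotient.mk z) = Submodule.Quotient.mk ⟨φ₁ (r ⊗ₜ[K] (z : C₁)), hz⟩ := by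
  subst hB hB'
  exact exists_linearEquiv_homology f g f' g' φ₀ φ₁ φ₂ h₀ h₁ h₂ hf hg

end Groth.Agent.Lib.Helper96.FlatHomology
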