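import Mathlib

set_option autoImplicit false
set_option linter.style.haveILetI false

open scoped TensorProduct
open MvPolynomial

namespace Groth.Agent.Lib.Helper96.FrobEtale

universe u

section ClaimF

variable {A B : Type*} [CommRing A] [CommRing B] [Algebra A B]

/-- A subalgebra containing all `p`-th powers of a finite formally unramified algebra
in characteristic `p` is everything. -/
theorem subalgebra_eq_top_of_pow_mem (p : ℕ) [hp : Fact p.Prime] (hpB : (p : B) = 0)
    [Module.Finite A B] [Algebra.FormallyUnramified A B]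
    (S : Subalgebra A B) (hS : ∀ b : B, b ^ p ∈ S) : S = ⊤ := by
  haveI : Algebra.FormallyUnramified S B := Algebra.FormallyUnramified.of_restrictScalars A S B
  haveI : Module.Finite S B := Module.Finite.of_restrictScalars_finite A S B
  obtain ⟨t, ht1, ht2⟩ :=
    (Algebra.FormallyUnramified.iff_exists_tensorProduct (R := S) (S := B)).mp inferInstance
  have hnil : ∀ s : B, IsNilpotent ((1 : B) ⊗ₜ[S] s - s ⊗ₜ[S] (1 : B)) := by
    intro s
    refine ⟨p, ?_⟩
    rcases subsingleton_or_nontrivial (B ⊗[S] B) with h | h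
    · exact Subsingleton.elim _ _
    · haveI : CharP (B ⊗[S] B) p := (CharP.charP_iff_prime_eq_zero hp.out).mpr (by
        have : ((p : ℕ) : B ⊗[S] B) = algebraMap B (B ⊗[S] B) (p : B) := (map_natCast _ _).symm
        rw [this, hpB, map_zero])
      rw [sub_pow_char, Algebra.TensorProduct.tmul_pow, Algebra.TensorProduct.tmul_pow, one_pow]
      obtain ⟨σ, hσ⟩ : ∃ σ : S, σ • (1 : B) = s ^ p :=
        ⟨⟨s ^ p, hS s⟩, by rw [Subalgebra.smul_def, smul_eq_mul, mul_one]⟩
      rw [← hσ, TensorProduct.smul_tmul, sub_self]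
  have hmem : 1 - t ∈ KaehlerDifferential.ideal S B := by
    simp only [KaehlerDifferential.ideal, RingHom.mem_ker, map_sub, map_one, ht2, sub_self]
  rw [← KaehlerDifferential.span_range_eq_ideal] at hmem
  have hnil1 : IsNilpotent (1 - t) := by
    have hle : Ideal.span (Set.range fun s : B => (1 : B) ⊗ₜ[S] s - s ⊗ₜ[S] (1 : B)) ≤
        nilradical (B ⊗[S] B) := by
      rw [Ideal.span_le]
      rintro _ ⟨s, rfl⟩
      exact hnil s
    exact hle hmem
  have htu : IsUnit t := by
    have := hnil1.isUnit_one_sub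
    rwa [sub_sub_cancel] at this
  have key : ∀ s : B, (1 : B) ⊗ₜ[S] s = s ⊗ₜ[S] (1 : B) := by
    intro s
    have := ht1 s
    rw [htu.mul_left_eq_zero] at this
    exact sub_eq_zero.mp this
  have hepi : Algebra.IsEpi S B := (Algebra.isEpi_iff_forall_one_tmul_eq S B).mpr key
  have hsurj : Function.Surjective (algebraMap S B) :=
    Algebra.isEpi_iff_surjective_algebraMap_of_finite.mp hepi
  rw [eq_top_iff]
  intro x _
  obtain ⟨y, rfl⟩ := hsurj x
  exact y.2

/-- The span of the `p`-th powers of a generating family. -/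
abbrev powSpan (p : ℕ) {m : ℕ} (b : Fin m → B) : Submodule A B :=
  Submodule.span A (Set.range fun j => b j ^ p)

theorem mem_powSpan (p : ℕ) [hp : Fact p.Prime] (hpB : (p : B) = 0)
    [Module.Finite A B] [Algebra.FormallyUnramified A B] {m : ℕ} (b : Fin m → B)
    (hb : Submodule.span A (Set.range b) = ⊤) (x : B) :
    x ∈ powSpan (A := A) p b := by
  rcases subsingleton_or_nontrivial B with h | h
  · rw [Subsingleton.elim x 0]; exact Submodule.zero_mem _
  haveI : CharP B p := (CharP.charP_iff_prime_eq_zero hp.out).mpr hpB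
  haveI : ExpChar B p := ExpChar.prime hp.out
  have hpow : ∀ β : B, β ^ p ∈ powSpan (A := A) p b := by
    intro β
    have hβ : β ∈ Submodule.span A (Set.range b) := by rw [hb]; trivial
    obtain ⟨c, rfl⟩ := (Submodule.mem_span_range_iff_exists_fun A).mp hβ
    rw [sum_pow_char]
    refine Submodule.sum_mem _ fun j _ => ?_
    rw [smul_pow]
    exact Submodule.smul_mem _ _ (Submodule.subset_span ⟨j, rfl⟩)
  have h_one : (1 : B) ∈ powSpan (A := A) p b := by simpa using hpow 1
  have h_mul : ∀ x y, x ∈ powSpan (A := A) p b → y ∈ powSpan (A := A) p b →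
      x * y ∈ powSpan (A := A) p b := by
    intro x y hx hy
    have hle : powSpan (A := A) p b * powSpan (A := A) p b ≤ powSpan (A := A) p b := by
      unfold powSpan
      rw [Submodule.span_mul_span, Submodule.span_le]
      rintro _ ⟨_, ⟨i, rfl⟩, _, ⟨j, rfl⟩, rfl⟩
      have := hpow (b i * b j)
      rw [mul_pow] at this
      exact this
    exact hle (Submodule.mul_mem_mul hx hy)
  have htop := subalgebra_eq_top_of_pow_mem p hpB
    ((powSpan (A := A) p b).toSubalgebra h_one h_mul) (fun β => hpow β)
  have hx : x ∈ (powSpan (A := A) p b).toSubalgebra h_one h_mul := by rw [htop]; trivial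
  exact hx

theorem exists_matrices (p : ℕ) [hp : Fact p.Prime] (hpB : (p : B) = 0)
    [Module.Finite A B] [Algebra.FormallyUnramified A B] :
    ∃ (m : ℕ) (b : Fin m → B) (a c : Matrix (Fin m) (Fin m) A),
      Submodule.span A (Set.range b) = ⊤ ∧
      (∀ i, b i = ∑ j, a i j • b j ^ p) ∧ (∀ i, b i ^ p = ∑ j, c i j • b j) := by
  obtain ⟨m, b, hb⟩ := Module.Finite.exists_fin (R := A) (M := B)
  have h1 : ∀ i, ∃ f : Fin m → A, ∑ j, f j • b j ^ p = b i := fun i =>
    (Submodule.mem_span_range_iff_exists_fun A).mp (mem_powSpan p hpB b hb (b i))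
  have h2 : ∀ i, ∃ f : Fin m → A, ∑ j, f j • b j = b i ^ p := fun i =>
    (Submodule.mem_span_range_iff_exists_fun A).mp (by rw [hb]; trivial)
  choose a ha using h1
  choose c hc using h2
  exact ⟨m, b, Matrix.of a, Matrix.of c, hb, fun i => (ha i).symm, fun i => (hc i).symm⟩

end ClaimF

section AS

variable {R : Type u} [CommRing R] {ι : Type} [Fintype ι] [DecidableEq ι]

/-- The Artin–Schreier-type relations `X i - ∑ j, U i j * X j ^ p`. -/
noncomputable def rel (p : ℕ) (U : Matrix ι ι R) (i : ι) : MvPolynomial ι R :=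
  X i - ∑ j, C (U i j) * X j ^ p

/-- The algebra `R[X] / (X - U X^p)`. -/
abbrev ASAlg (p : ℕ) (U : Matrix ι ι R) : Type u :=
  MvPolynomial ι R ⧸ Ideal.span (Set.range (rel p U))

theorem ASAlg.finite (p : ℕ) (hp2 : 2 ≤ p) (U V : Matrix ι ι R) (hVU : V * U = 1) :
    Module.Finite R (ASAlg p U) := by
  classical
  have h1 : ∀ i, (Ideal.Quotient.mk (Ideal.span (Set.range (rel p U))) (X i) : ASAlg p U) =
      ∑ k, U i k • Ideal.Quotient.mk (Ideal.span (Set.range (rel p U))) (X k ^ p) := by
    intro i
    have hmem : rel p U i ∈ Ideal.span (Set.range (rel p U)) := Ideal.subset_span ⟨i, rfl⟩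
    rw [← Ideal.Quotient.eq_zero_iff_mem, rel, map_sub, sub_eq_zero] at hmem
    rw [hmem, map_sum]
    refine Finset.sum_congr rfl fun k _ => ?_
    rw [map_mul]
    exact (Algebra.smul_def (U i k)
      (Ideal.Quotient.mk (Ideal.span (Set.range (rel p U))) (X k ^ p) : ASAlg p U)).symm
  have hrel : ∀ j, (Ideal.Quotient.mk (Ideal.span (Set.range (rel p U))) (X j ^ p) : ASAlg p U) =
      ∑ i, V j i • Ideal.Quotient.mk (Ideal.span (Set.range (rel p U))) (X i) := by
    intro j
    have h2 : ∀ k, ∑ i, V j i * U i k = (1 : Matrix ι ι R) j k := fun k => by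
      rw [← hVU, Matrix.mul_apply]
    calc (Ideal.Quotient.mk (Ideal.span (Set.range (rel p U))) (X j ^ p) : ASAlg p U)
        = ∑ k, ((1 : Matrix ι ι R) j k) •
            (Ideal.Quotient.mk (Ideal.span (Set.range (rel p U))) (X k ^ p) : ASAlg p U) := by
          simp only [Matrix.one_apply, ite_smul, one_smul, zero_smul, Finset.sum_ite_eq,
            Finset.mem_univ, if_true]
      _ = ∑ k, ∑ i, (V j i * U i k) •
            (Ideal.Quotient.mk (Ideal.span (Set.range (rel p U))) (X k ^ p) : ASAlg p U) := by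
          refine Finset.sum_congr rfl fun k _ => ?_
          rw [← h2 k, Finset.sum_smul]
      _ = ∑ i, ∑ k, (V j i * U i k) •
            (Ideal.Quotient.mk (Ideal.span (Set.range (rel p U))) (X k ^ p) : ASAlg p U) :=
          Finset.sum_comm
      _ = ∑ i, V j i • Ideal.Quotient.mk (Ideal.span (Set.range (rel p U))) (X i) := by
          refine Finset.sum_congr rfl fun i _ => ?_
          rw [h1 i, Finset.smul_sum]
          refine Finset.sum_congr rfl fun k _ => ?_
          rw [smul_smul]
  let W : Submodule R (ASAlg p U) := Submodule.span R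
    ((fun e : ι →₀ ℕ => (Ideal.Quotient.mk (Ideal.span (Set.range (rel p U))) (monomial e 1) :
      ASAlg p U)) '' {e | ∀ i, e i < p})
  have hfin : ({e : ι →₀ ℕ | ∀ i, e i < p}).Finite :=
    (Set.Finite.pi' (fun _ : ι => Set.finite_Iio p)).preimage (DFunLike.coe_injective.injOn)
  have hmon : ∀ n, ∀ e : ι →₀ ℕ, e.degree = n →
      (Ideal.Quotient.mk (Ideal.span (Set.range (rel p U))) (monomial e 1) : ASAlg p U) ∈ W := by
    intro n
    induction n using Nat.strong_induction_on with
    | _ n ih =>
      intro e he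
      by_cases hsmall : ∀ i, e i < p
      · exact Submodule.subset_span ⟨e, hsmall, rfl⟩
      · push Not at hsmall
        obtain ⟨j, hj⟩ := hsmall
        obtain ⟨e', rfl⟩ : ∃ e', e = e' + Finsupp.single j p :=
          ⟨e - Finsupp.single j p, (tsub_add_cancel_of_le (Finsupp.single_le_iff.mpr hj)).symm⟩
        have hmono : (monomial (e' + Finsupp.single j p) 1 : MvPolynomial ι R) =
            monomial e' 1 * X j ^ p := by
          rw [X_pow_eq_monomial, monomial_mul, mul_one]
        rw [hmono, map_mul, hrel j, Finset.mul_sum]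
        refine Submodule.sum_mem _ fun i _ => ?_
        rw [mul_smul_comm]
        refine Submodule.smul_mem _ _ ?_
        rw [← map_mul]
        have hmi : (monomial e' 1 * X i : MvPolynomial ι R) =
            monomial (e' + Finsupp.single i 1) 1 := by
          rw [X, monomial_mul, mul_one]
        rw [hmi]
        refine ih (e' + Finsupp.single i 1).degree ?_ _ rfl
        rw [← he, map_add, map_add, Finsupp.degree_single, Finsupp.degree_single]
        omega
  have htop : W = ⊤ := by
    rw [eq_top_iff]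
    rintro x -
    obtain ⟨f, rfl⟩ := Ideal.Quotient.mk_surjective x
    induction f using MvPolynomial.induction_on' with
    | monomial e r =>
      have hmr : (monomial e r : MvPolynomial ι R) = C r * monomial e 1 := by
        rw [C_mul_monomial, mul_one]
      rw [hmr, map_mul]
      have : (Ideal.Quotient.mk (Ideal.span (Set.range (rel p U))) (C r) : ASAlg p U) =
          algebraMap R (ASAlg p U) r := rfl
      rw [this, ← Algebra.smul_def]
      exact Submodule.smul_mem _ _ (hmon _ e rfl)
    | add f g hf hg =>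
      rw [map_add]
      exact Submodule.add_mem _ hf hg
  exact Module.finite_def.mpr (htop ▸ Submodule.fg_span (hfin.image _))

theorem ASAlg.etale (p : ℕ) (hpR : (p : R) = 0) (U : Matrix ι ι R) :
    Algebra.Etale R (ASAlg p U) := by
  classical
  let P0 : Algebra.Presentation R (ASAlg p U) ι ι := Algebra.Presentation.naive (v := rel p U)
  let P1 : Algebra.PreSubmersivePresentation R (ASAlg p U) ι ι :=
    { toPresentation := P0, map := id, map_inj := Function.injective_id }
  have hp0 : ((p : ℕ) : MvPolynomial ι R) = 0 := by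
    rw [← map_natCast (C : R →+* MvPolynomial ι R), hpR, map_zero]
  have hJ : P1.jacobiMatrix = 1 := by
    ext i j : 1
    rw [Algebra.PreSubmersivePresentation.jacobiMatrix_apply]
    show MvPolynomial.pderiv i (rel p U j) = _
    simp [rel, pderiv_X, hp0, Matrix.one_apply, Pi.single_apply, eq_comm]
  let P : Algebra.SubmersivePresentation R (ASAlg p U) ι ι :=
    { toPreSubmersivePresentation := P1
      jacobian_isUnit := by
        rw [Algebra.PreSubmersivePresentation.jacobian_eq_jacobiMatrix_det, hJ, Matrix.det_one,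
          map_one]
        exact isUnit_one }
  have : Algebra.IsStandardSmoothOfRelativeDimension 0 R (ASAlg p U) :=
    P.isStandardSmoothOfRelativeDimension (by simp [Algebra.Presentation.dimension])
  exact Algebra.Etale.iff_isStandardSmoothOfRelativeDimension_zero.mpr this

end AS

section Main

theorem main (p : ℕ) [hp : Fact p.Prime] (R A B : Type u)
    [CommRing R] [CommRing A] [CommRing B] [CharP R p] [Algebra R A]
    (hRA : Function.Surjective (algebraMap R A)) [Algebra A B] [Module.Finite A B]
    [Algebra.Etale A B] :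
    ∃ (C : Type u) (_ : CommRing C) (_ : Algebra R C), Module.Finite R C ∧ Algebra.Etale R C ∧
      ∃ ψ : A ⊗[R] C →ₐ[A] B, Function.Surjective ψ := by
  classical
  have hpR : (p : R) = 0 := CharP.cast_eq_zero R p
  have hpA : (p : A) = 0 := by rw [← map_natCast (algebraMap R A), hpR, map_zero]
  have hpB : (p : B) = 0 := by rw [← map_natCast (algebraMap A B), hpA, map_zero]
  obtain ⟨m, b, a, c, hb, hab, hcb⟩ := exists_matrices (A := A) (B := B) p hpB
  choose lift hlift using hRA
  let a' : Matrix (Fin m) (Fin m) R := a.map lift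
  let c' : Matrix (Fin m) (Fin m) R := c.map lift
  let U : Matrix (Fin m ⊕ Fin m) (Fin m ⊕ Fin m) R :=
    Matrix.fromBlocks (a' + a' - a' * c' * a') (a' * c' - 1) (1 - c' * a') c'
  let V : Matrix (Fin m ⊕ Fin m) (Fin m ⊕ Fin m) R :=
    Matrix.fromBlocks c' (1 - c' * a') (a' * c' - 1) (a' + a' - a' * c' * a')
  have hUV : U * V = 1 := by
    simp only [U, V, Matrix.fromBlocks_multiply]
    rw [← Matrix.fromBlocks_one]
    congr 1 <;> noncomm_ring
  have hVU : V * U = 1 := mul_eq_one_comm.mp hUV
  letI : Algebra R B := ((algebraMap A B).comp (algebraMap R A)).toAlgebra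
  haveI : IsScalarTower R A B := IsScalarTower.of_algebraMap_eq (fun _ => rfl)
  refine ⟨ASAlg p U, inferInstance, inferInstance, ASAlg.finite p hp.out.two_le U V hVU,
    ASAlg.etale p hpR U, ?_⟩
  let φ : R →+* B := algebraMap R B
  let bp : Fin m → B := fun j => b j ^ p
  have hφ : ∀ x : A, φ (lift x) = algebraMap A B x := fun x => by
    show algebraMap A B (algebraMap R A (lift x)) = _
    rw [hlift]
  have h1 : (φ.mapMatrix a').mulVec bp = b := by
    funext i
    rw [hab i]
    show ∑ j, φ (lift (a i j)) * b j ^ p = _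
    refine Finset.sum_congr rfl fun j _ => ?_
    rw [hφ, Algebra.smul_def]
  have h2 : (φ.mapMatrix c').mulVec b = bp := by
    funext i
    show ∑ j, φ (lift (c i j)) * b j = b i ^ p
    rw [hcb i]
    refine Finset.sum_congr rfl fun j _ => ?_
    rw [hφ, Algebra.smul_def]
  have H1 : (φ.mapMatrix (a' + a' - a' * c' * a')).mulVec bp = b := by
    rw [map_sub, map_add, map_mul, map_mul, Matrix.sub_mulVec, Matrix.add_mulVec,
      ← Matrix.mulVec_mulVec, ← Matrix.mulVec_mulVec, h1, h2, h1, add_sub_cancel_right]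
  have H2 : (φ.mapMatrix (1 - c' * a')).mulVec bp = 0 := by
    rw [map_sub, map_one, map_mul, Matrix.sub_mulVec, Matrix.one_mulVec,
      ← Matrix.mulVec_mulVec, h1, h2, sub_self]
  let z : Fin m ⊕ Fin m → B := Sum.elim b (fun _ => 0)
  have hz : ∀ i, z i = ∑ j, algebraMap R B (U i j) * z j ^ p := by
    intro i
    rw [Fintype.sum_sum_type]
    have hr : ∑ j : Fin m, algebraMap R B (U i (Sum.inr j)) * z (Sum.inr j) ^ p = 0 :=
      Finset.sum_eq_zero fun j _ => by simp [z, hp.out.ne_zero]
    rw [hr, add_zero]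
    rcases i with i | i
    · exact (congrFun H1 i).symm
    · exact (congrFun H2 i).symm
  have hker : ∀ f ∈ Ideal.span (Set.range (rel p U)),
      (MvPolynomial.aeval z : MvPolynomial (Fin m ⊕ Fin m) R →ₐ[R] B) f = 0 := by
    intro f hf
    have hle : Ideal.span (Set.range (rel p U)) ≤
        RingHom.ker (MvPolynomial.aeval z : MvPolynomial (Fin m ⊕ Fin m) R →ₐ[R] B) := by
      rw [Ideal.span_le]
      rintro _ ⟨i, rfl⟩
      rw [SetLike.mem_coe, RingHom.mem_ker, rel, map_sub, map_sum, aeval_X, sub_eq_zero]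
      rw [hz i]
      refine Finset.sum_congr rfl fun j _ => ?_
      rw [map_mul, map_pow, aeval_X, aeval_C]
    exact hle hf
  let g : ASAlg p U →ₐ[R] B := Ideal.Quotient.liftₐ _ (MvPolynomial.aeval z) hker
  let ψ : A ⊗[R] ASAlg p U →ₐ[A] B :=
    Algebra.TensorProduct.lift (Algebra.ofId A B) g (fun _ _ => Commute.all _ _)
  refine ⟨ψ, ?_⟩
  have hrange : ∀ i, b i ∈ LinearMap.range ψ.toLinearMap := fun i =>
    ⟨1 ⊗ₜ Ideal.Quotient.mk _ (X (Sum.inl i)), by
      show ψ (1 ⊗ₜ _) = _
      rw [Algebra.TensorProduct.lift_tmul, map_one, one_mul]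
      show aeval z (X (Sum.inl i)) = _
      rw [aeval_X]
      rfl⟩
  have htop : LinearMap.range ψ.toLinearMap = ⊤ := by
    rw [eq_top_iff, ← hb, Submodule.span_le]
    rintro _ ⟨i, rfl⟩
    exact hrange i
  intro y
  have hy : y ∈ LinearMap.range ψ.toLinearMap := by rw [htop]; trivial
  obtain ⟨x, hx⟩ := hy
  exact ⟨x, hx⟩

end Main

end Groth.Agent.Lib.Helper96.FrobEtale
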