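import Mathlib
set_option autoImplicit false
universe u
namespace Groth.Agent.Lib.Helper96.GaloisIdem
open TensorProduct
open scoped Pointwise

variable {k : Type u} [Field k] {L : Type u} [Field L] [Algebra k L]
  {A : Type u} [CommRing A] [Algebra k A]

/-- action of the Galois group on `A ⊗ L` -/
noncomputable def act (σ : L ≃ₐ[k] L) : A ⊗[k] L →ₐ[k] A ⊗[k] L :=
  Algebra.TensorProduct.map (AlgHom.id k A) σ.toAlgHom

@[simp] lemma act_tmul (σ : L ≃ₐ[k] L) (a : A) (l : L) :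
    act σ (a ⊗ₜ[k] l) = a ⊗ₜ[k] σ l := by
  simp [act]

lemma act_mul (σ τ : L ≃ₐ[k] L) (x : A ⊗[k] L) : act (σ * τ) x = act σ (act τ x) := by
  induction x using TensorProduct.induction_on with
  | zero => simp
  | tmul a l => simp [AlgEquiv.mul_apply]
  | add x y hx hy => simp [hx, hy]

lemma act_one (x : A ⊗[k] L) : act (1 : L ≃ₐ[k] L) x = x := by
  induction x using TensorProduct.induction_on with
  | zero => simp
  | tmul a l => simp
  | add x y hx hy => simp [hx, hy]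

lemma act_inv_act (σ : L ≃ₐ[k] L) (x : A ⊗[k] L) : act σ⁻¹ (act σ x) = x := by
  rw [← act_mul, inv_mul_cancel, act_one]

lemma act_injective (σ : L ≃ₐ[k] L) : Function.Injective (act (A := A) σ) := fun x y h => by
  have := congrArg (act σ⁻¹) h
  simpa [act_inv_act] using this

lemma exists_of_invariant [FiniteDimensional k L] [IsGalois k L] (b : A ⊗[k] L)
    (hb : ∀ σ : L ≃ₐ[k] L, act σ b = b) : ∃ a : A, a ⊗ₜ[k] (1 : L) = b := by
  classical
  let bs := Module.Free.chooseBasis k A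
  let Φ := TensorProduct.equivFinsuppOfBasisLeft (N := L) bs
  have hcoef : ∀ (σ : L ≃ₐ[k] L) (x : A ⊗[k] L) i, Φ (act σ x) i = σ (Φ x i) := by
    intro σ x i
    induction x using TensorProduct.induction_on with
    | zero => simp
    | tmul a l => simp [Φ]
    | add x y hx hy => simp [hx, hy]
  have hfix : ∀ i, Φ b i ∈ Set.range (algebraMap k L) := by
    intro i
    rw [IsGalois.mem_range_algebraMap_iff_fixed]
    intro σ
    rw [← hcoef, hb]
  obtain ⟨ρ, hρ⟩ := LinearMap.exists_leftInverse_of_injective (Algebra.linearMap k L)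
    (LinearMap.ker_eq_bot.mpr (algebraMap k L).injective)
  have hρ' : ∀ i, algebraMap k L (ρ (Φ b i)) = Φ b i := by
    intro i
    obtain ⟨r, hr⟩ := hfix i
    rw [← hr]
    congr 1
    exact congrArg (fun f => f r) hρ
  refine ⟨(Φ b).sum (fun i n => ρ n • bs i), ?_⟩
  have hb' : b = (Φ b).sum (fun i n => bs i ⊗ₜ[k] n) := by
    rw [← TensorProduct.equivFinsuppOfBasisLeft_symm_apply]
    exact (Φ.symm_apply_apply b).symm
  conv_rhs => rw [hb']
  rw [Finsupp.sum, Finsupp.sum, TensorProduct.sum_tmul]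
  apply Finset.sum_congr rfl
  intro i _
  rw [TensorProduct.smul_tmul, Algebra.smul_def, mul_one, hρ' i]

/-- products of conjugates -/
noncomputable def P (ε : A ⊗[k] L) (S : Finset (L ≃ₐ[k] L)) : A ⊗[k] L := ∏ σ ∈ S, act σ ε

theorem exists_subgroup [FiniteDimensional k L] [IsGalois k L]
    (hA : ∀ a : A, a * a = a → a = 0 ∨ a = 1)
    (ε : A ⊗[k] L) (hε : ε * ε = ε) (h0 : ε ≠ 0) (h1 : ε ≠ 1) :
    ∃ H : Subgroup (L ≃ₐ[k] L), H ≠ ⊤ ∧
      Nonempty (IntermediateField.fixedField H →ₐ[k] A) := by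
  classical
  have hinc : Function.Injective (fun a : A => a ⊗ₜ[k] (1 : L)) := by
    have := Algebra.TensorProduct.includeLeft_injective (R := k) (S := k) (A := A) (B := L)
      (algebraMap k L).injective
    exact this
  have hidem : ∀ σ : L ≃ₐ[k] L, act σ ε * act σ ε = act σ ε := fun σ => by rw [← map_mul, hε]
  have habs : ∀ (U : Finset (L ≃ₐ[k] L)) (a : L ≃ₐ[k] L), a ∈ U → act a ε * P ε U = P ε U := by
    intro U a ha
    unfold P
    rw [← Finset.mul_prod_erase U _ ha, ← mul_assoc, hidem]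
  have hPU : ∀ S T : Finset (L ≃ₐ[k] L), P ε S * P ε T = P ε (S ∪ T) := by
    intro S T
    induction S using Finset.induction_on with
    | empty => simp [P]
    | insert a S' ha ih =>
      have h1 : P ε (insert a S') = act a ε * P ε S' := by unfold P; rw [Finset.prod_insert ha]
      rw [h1, mul_assoc, ih, Finset.insert_union]
      by_cases hm : a ∈ S' ∪ T
      · rw [Finset.insert_eq_of_mem hm, habs _ _ hm]
      · unfold P; rw [Finset.prod_insert hm]
  have hactP : ∀ (τ : L ≃ₐ[k] L) (S : Finset (L ≃ₐ[k] L)), act τ (P ε S) = P ε (τ • S) := by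
    intro τ S
    unfold P
    rw [map_prod, Finset.smul_finset_def, Finset.prod_image (fun x _ y _ h => by simpa using h)]
    apply Finset.prod_congr rfl
    intro σ _
    rw [smul_eq_mul, act_mul]
  have h10 : (1 : A ⊗[k] L) ≠ 0 := fun h => h0 (by rw [← mul_one ε, h, mul_zero])
  obtain ⟨S, hS, hmax⟩ := Finset.exists_max_image
    (Finset.univ.filter (fun S : Finset (L ≃ₐ[k] L) => P ε S ≠ 0)) Finset.card
    ⟨∅, Finset.mem_filter.mpr ⟨Finset.mem_univ _, by simpa [P] using h10⟩⟩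
  have hS0 : P ε S ≠ 0 := (Finset.mem_filter.mp hS).2
  have hmax' : ∀ T : Finset (L ≃ₐ[k] L), S.card < T.card → P ε T = 0 := by
    intro T hT
    by_contra hne
    exact absurd (hmax T (Finset.mem_filter.mpr ⟨Finset.mem_univ _, hne⟩)) (not_le.mpr hT)
  obtain ⟨e, he⟩ : ∃ e, e = P ε S := ⟨_, rfl⟩
  obtain ⟨H, hH⟩ : ∃ H, H = MulAction.stabilizer (L ≃ₐ[k] L) S := ⟨_, rfl⟩
  have he0 : e ≠ 0 := he ▸ hS0
  have hee : e * e = e := by rw [he, hPU, Finset.union_self]
  have hE1 : ∀ τ ∈ H, act τ e = e := fun τ hτ => by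
    rw [hH] at hτ
    rw [he, hactP, MulAction.mem_stabilizer_iff.mp hτ]
  have hE2 : ∀ τ : L ≃ₐ[k] L, τ ∉ H → e * act τ e = 0 := by
    intro τ hτ
    rw [he, hactP, hPU]
    apply hmax'
    by_contra hle
    push Not at hle
    have h1 : S = S ∪ τ • S := Finset.eq_of_subset_of_card_le Finset.subset_union_left hle
    have h2 : τ • S ⊆ S := Finset.union_eq_left.mp h1.symm
    have h3 : τ • S = S := Finset.eq_of_subset_of_card_le h2 (by rw [Finset.card_smul_finset])
    exact hτ (hH ▸ MulAction.mem_stabilizer_iff.mpr h3)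
  have hE3 : ∀ τ τ' : L ≃ₐ[k] L, τ⁻¹ * τ' ∉ H → act τ e * act τ' e = 0 := by
    intro τ τ' h
    have : act τ' e = act τ (act (τ⁻¹ * τ') e) := by rw [← act_mul, mul_inv_cancel_left]
    rw [this, ← map_mul, hE2 _ h, map_zero]
  have hE1' : ∀ τ τ' : L ≃ₐ[k] L, τ⁻¹ * τ' ∈ H → act τ e = act τ' e := by
    intro τ τ' h
    have : act τ' e = act τ (act (τ⁻¹ * τ') e) := by rw [← act_mul, mul_inv_cancel_left]
    rw [this, hE1 _ h]
  have hE4 : ∀ τ τ' : L ≃ₐ[k] L, act τ e = act τ' e → τ⁻¹ * τ' ∈ H := by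
    intro τ τ' h
    by_contra hn
    have h2 := hE3 τ τ' hn
    rw [← h, ← map_mul, hee] at h2
    have : e = 0 := by
      have := congrArg (act τ⁻¹) h2
      rwa [act_inv_act, map_zero] at this
    exact he0 this
  have hinvA : ∀ b : A ⊗[k] L, (∀ σ, act σ b = b) → b * b = b → b = 0 ∨ b = 1 := by
    intro b hb hbb
    obtain ⟨a, rfl⟩ := exists_of_invariant b hb
    have haa : a * a = a := hinc (by simpa [Algebra.TensorProduct.tmul_mul_tmul] using hbb)
    rcases hA a haa with rfl | rfl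
    · left; simp
    · right; rfl
  -- the set of conjugates
  obtain ⟨C, hCdef⟩ : ∃ C : Finset (A ⊗[k] L),
      C = Finset.univ.image (fun τ : L ≃ₐ[k] L => act τ e) := ⟨_, rfl⟩
  have hC : ∀ x ∈ C, ∃ τ : L ≃ₐ[k] L, act τ e = x := fun x hx => by
    rw [hCdef] at hx
    obtain ⟨τ, _, h⟩ := Finset.mem_image.mp hx
    exact ⟨τ, h⟩
  have hCmem : ∀ τ : L ≃ₐ[k] L, act τ e ∈ C := fun τ => by
    rw [hCdef]; exact Finset.mem_image_of_mem _ (Finset.mem_univ τ)
  have hCorth : ∀ x ∈ C, ∀ y ∈ C, x ≠ y → x * y = 0 := by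
    intro x hx y hy hxy
    obtain ⟨τ, rfl⟩ := hC x hx
    obtain ⟨τ', rfl⟩ := hC y hy
    apply hE3
    intro h
    exact hxy (hE1' τ τ' h)
  have hCidem : ∀ x ∈ C, x * x = x := by
    intro x hx
    obtain ⟨τ, rfl⟩ := hC x hx
    rw [← map_mul, hee]
  obtain ⟨u, hu⟩ : ∃ u : A ⊗[k] L, u = ∑ x ∈ C, x := ⟨_, rfl⟩
  have hux : ∀ x ∈ C, u * x = x := by
    intro x hx
    rw [hu, Finset.sum_mul, Finset.sum_eq_single x]
    · exact hCidem x hx
    · intro y hy hyx; exact hCorth y hy x hx hyx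
    · intro h; exact absurd hx h
  have huu : u * u = u := by
    conv_lhs => rw [hu, Finset.mul_sum]
    rw [hu]
    exact Finset.sum_congr rfl (fun x hx => hu ▸ hux x hx)
  have huinv : ∀ ρ : L ≃ₐ[k] L, act ρ u = u := by
    intro ρ
    rw [hu, map_sum]
    apply Finset.sum_bij (fun x _ => act ρ x)
    · intro x hx; obtain ⟨τ, rfl⟩ := hC x hx; rw [← act_mul]; exact hCmem _
    · intro x _ y _ h; exact act_injective ρ h
    · intro y hy; obtain ⟨τ, rfl⟩ := hC y hy
      exact ⟨act (ρ⁻¹ * τ) e, hCmem _, by rw [← act_mul, mul_inv_cancel_left]⟩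
    · intro x _; rfl
  have hu1 : u = 1 := by
    rcases hinvA u huinv huu with h | h
    · exfalso
      have hm : e ∈ C := by have := hCmem 1; rwa [act_one] at this
      have := hux e hm
      rw [h, zero_mul] at this
      exact he0 this.symm
    · exact h
  have hHtop : H ≠ ⊤ := by
    intro htop
    have hinv : ∀ σ : L ≃ₐ[k] L, act σ e = e := fun σ => hE1 σ (by rw [htop]; trivial)
    rcases hinvA e hinv hee with h | h
    · exact he0 h
    · rcases S.eq_empty_or_nonempty with hSe | ⟨σ, hσ⟩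
      · have := hmax' {1} (by rw [hSe]; simp)
        rw [P, Finset.prod_singleton, act_one] at this
        exact h0 this
      · have := habs S σ hσ
        rw [← he, h, mul_one] at this
        apply h1
        have h2 := congrArg (act σ⁻¹) this
        rwa [act_inv_act, map_one] at h2
  refine ⟨H, hHtop, ?_⟩
  obtain ⟨Q, hQ⟩ : ∃ Q : L → A ⊗[k] L → Prop, ∀ f b, Q f b ↔
      ∀ τ : L ≃ₐ[k] L, act τ e * b = act τ e * ((1 : A) ⊗ₜ[k] τ f) := ⟨_, fun _ _ => Iff.rfl⟩
  have hQuniq : ∀ f b b', Q f b → Q f b' → b = b' := by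
    intro f b b' hb hb'
    rw [hQ] at hb hb'
    have : ∀ c : A ⊗[k] L, c = ∑ x ∈ C, x * c := fun c => by
      rw [← Finset.sum_mul, ← hu, hu1, one_mul]
    rw [this b, this b']
    apply Finset.sum_congr rfl
    intro x hx
    obtain ⟨τ, rfl⟩ := hC x hx
    rw [hb τ, hb' τ]
  have hQinv : ∀ f b, Q f b → ∀ ρ : L ≃ₐ[k] L, Q f (act ρ b) := by
    intro f b hb ρ
    rw [hQ] at hb ⊢
    intro τ
    have h1 : act τ e = act ρ (act (ρ⁻¹ * τ) e) := by rw [← act_mul, mul_inv_cancel_left]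
    have h2 : ρ ((ρ⁻¹ * τ) f) = τ f := by
      rw [← AlgEquiv.mul_apply, mul_inv_cancel_left]
    rw [h1, ← map_mul, hb (ρ⁻¹ * τ), map_mul, act_tmul, h2]
  have hQex : ∀ f : L, (∀ h ∈ H, h f = f) → ∃ b, Q f b := by
    intro f hf
    let sel : A ⊗[k] L → (L ≃ₐ[k] L) := fun x => if h : ∃ τ, act τ e = x then h.choose else 1
    have hsel : ∀ τ : L ≃ₐ[k] L, act (sel (act τ e)) e = act τ e := by
      intro τ
      have h : ∃ τ' : L ≃ₐ[k] L, act τ' e = act τ e := ⟨τ, rfl⟩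
      simp only [sel, dif_pos h]
      exact h.choose_spec
    refine ⟨∑ x ∈ C, x * ((1 : A) ⊗ₜ[k] (sel x) f), ?_⟩
    rw [hQ]
    intro τ
    rw [Finset.mul_sum, Finset.sum_eq_single (act τ e)]
    · rw [← mul_assoc, ← map_mul, hee]
      have hm : τ⁻¹ * sel (act τ e) ∈ H := hE4 _ _ (hsel τ).symm
      have h2 := congrArg τ (hf _ hm)
      rw [← AlgEquiv.mul_apply, mul_inv_cancel_left] at h2
      rw [h2]
    · intro y hy hne
      rw [← mul_assoc, hCorth _ (hCmem τ) y hy (Ne.symm hne), zero_mul]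
    · intro h; exact absurd (hCmem τ) h
  have key : ∀ f : IntermediateField.fixedField H, ∃ a : A, Q (f : L) (a ⊗ₜ[k] 1) := by
    intro f
    obtain ⟨b, hb⟩ := hQex (f : L)
      (fun h hh => (IntermediateField.mem_fixedField_iff H (f : L)).mp f.2 h hh)
    have hbinv : ∀ ρ : L ≃ₐ[k] L, act ρ b = b := fun ρ => hQuniq _ _ _ (hQinv _ _ hb ρ) hb
    obtain ⟨a, rfl⟩ := exists_of_invariant b hbinv
    exact ⟨a, hb⟩
  have huniqA : ∀ (f : L) (a a' : A), Q f (a ⊗ₜ[k] 1) → Q f (a' ⊗ₜ[k] 1) → a = a' :=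
    fun f a a' h h' => hinc (hQuniq f _ _ h h')
  obtain ⟨ψ, hψQ⟩ : ∃ ψ : IntermediateField.fixedField H → A,
      ∀ f : IntermediateField.fixedField H, Q (f : L) (ψ f ⊗ₜ[k] 1) :=
    ⟨fun f => (key f).choose, fun f => (key f).choose_spec⟩
  have hψ : ∀ f a, Q ((f : IntermediateField.fixedField H) : L) (a ⊗ₜ[k] 1) → ψ f = a :=
    fun f a h => huniqA _ _ _ (hψQ f) h
  refine ⟨{ toFun := ψ, map_one' := ?_, map_mul' := ?_, map_zero' := ?_, map_add' := ?_,
            commutes' := ?_ }⟩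
  · apply hψ; rw [hQ]; intro τ; simp
  · intro f f'
    apply hψ
    rw [hQ]
    intro τ
    have h1 := (hQ _ _).mp (hψQ f) τ
    have h2 := (hQ _ _).mp (hψQ f') τ
    have e1 : (ψ f * ψ f') ⊗ₜ[k] (1 : L) = (ψ f ⊗ₜ[k] 1) * (ψ f' ⊗ₜ[k] 1) := by
      simp [Algebra.TensorProduct.tmul_mul_tmul]
    have e2 : (1 : A) ⊗ₜ[k] (τ ((f * f' : IntermediateField.fixedField H) : L)) =
        ((1 : A) ⊗ₜ[k] τ (f : L)) * ((1 : A) ⊗ₜ[k] τ (f' : L)) := by
      simp [Algebra.TensorProduct.tmul_mul_tmul]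
    rw [e1, e2]
    calc act τ e * ((ψ f ⊗ₜ[k] 1) * (ψ f' ⊗ₜ[k] 1))
        = (act τ e * (ψ f ⊗ₜ[k] 1)) * (ψ f' ⊗ₜ[k] 1) := by ring
      _ = (act τ e * ((1 : A) ⊗ₜ[k] τ (f : L))) * (ψ f' ⊗ₜ[k] 1) := by rw [h1]
      _ = ((1 : A) ⊗ₜ[k] τ (f : L)) * (act τ e * (ψ f' ⊗ₜ[k] 1)) := by ring
      _ = ((1 : A) ⊗ₜ[k] τ (f : L)) * (act τ e * ((1 : A) ⊗ₜ[k] τ (f' : L))) := by rw [h2]
      _ = act τ e * (((1 : A) ⊗ₜ[k] τ (f : L)) * ((1 : A) ⊗ₜ[k] τ (f' : L))) := by ring
  · apply hψ; rw [hQ]; intro τ; simp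
  · intro f f'
    apply hψ
    rw [hQ]
    intro τ
    have h1 := (hQ _ _).mp (hψQ f) τ
    have h2 := (hQ _ _).mp (hψQ f') τ
    have e2 : (1 : A) ⊗ₜ[k] (τ ((f + f' : IntermediateField.fixedField H) : L)) =
        ((1 : A) ⊗ₜ[k] τ (f : L)) + ((1 : A) ⊗ₜ[k] τ (f' : L)) := by
      simp [TensorProduct.tmul_add]
    rw [TensorProduct.add_tmul, e2, mul_add, mul_add, h1, h2]
  · intro r
    apply hψ
    rw [hQ]
    intro τ
    congr 1
    have : ((algebraMap k (IntermediateField.fixedField H) r : IntermediateField.fixedField H) : L)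
        = algebraMap k L r := rfl
    rw [this, AlgEquiv.commutes, Algebra.algebraMap_eq_smul_one, Algebra.algebraMap_eq_smul_one,
      TensorProduct.smul_tmul]

end Groth.Agent.Lib.Helper96.GaloisIdem
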