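import Mathlib

/-!
# Splitting up to a nonzero scalar over a Noetherian domain

Elementary forms of generic freeness: for a surjection `π : M → Q` onto a finitely generated module
over a Noetherian domain there are `g ≠ 0` and `τ : Q → M` with `π ∘ τ = g • id`; dually for an
injection `j : N → M` into a finitely generated module there are `g ≠ 0` and `ρ : M → N` with
`ρ ∘ j = g • id`.
-/

set_option autoImplicit false
universe u

namespace Helper96.GenericSplit

open nonZeroDivisors

theorem exists_section_up_to {A : Type u} [CommRing A] [IsNoetherianRing A] [IsDomain A]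
    {M Q : Type u} [AddCommGroup M] [Module A M] [AddCommGroup Q] [Module A Q] [Module.Finite A Q]
    (π : M →ₗ[A] Q) (hπ : Function.Surjective π) :
    ∃ (g : A) (τ : Q →ₗ[A] M), g ≠ 0 ∧ ∀ q, π (τ q) = g • q := by
  classical
  let K := Localization A⁰
  let πK : LocalizedModule A⁰ M →ₗ[K] LocalizedModule A⁰ Q := LocalizedModule.map A⁰ π
  have hπK : Function.Surjective πK := by
    intro x
    induction x using LocalizedModule.induction_on with
    | h q s =>
      obtain ⟨m, rfl⟩ := hπ q
      exact ⟨LocalizedModule.mk m s, LocalizedModule.map_mk _ _ _ _⟩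
  obtain ⟨τK, hτK⟩ := πK.exists_rightInverse_of_surjective (LinearMap.range_eq_top.2 hπK)
  let g₀ : Q →ₗ[A] LocalizedModule A⁰ M :=
    (τK.restrictScalars A) ∘ₗ LocalizedModule.mkLinearMap A⁰ Q
  have : Module.FinitePresentation A Q := Module.finitePresentation_of_finite A Q
  obtain ⟨h, s, hs⟩ := Module.FinitePresentation.exists_lift_of_isLocalizedModule A⁰
    (LocalizedModule.mkLinearMap A⁰ M) g₀
  have hcomp : (LocalizedModule.mkLinearMap A⁰ Q) ∘ₗ (π ∘ₗ h) =
      (LocalizedModule.mkLinearMap A⁰ Q) ∘ₗ ((s : A) • LinearMap.id) := by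
    ext q
    have h1 : LocalizedModule.mkLinearMap A⁰ M (h q) = s • g₀ q := LinearMap.congr_fun hs q
    have h2 : πK (LocalizedModule.mkLinearMap A⁰ M (h q)) =
        LocalizedModule.mkLinearMap A⁰ Q (π (h q)) := by
      simp only [LocalizedModule.mkLinearMap_apply]
      exact LocalizedModule.map_mk _ _ _ _
    have h3 : πK (g₀ q) = LocalizedModule.mkLinearMap A⁰ Q q := by
      have := LinearMap.congr_fun hτK (LocalizedModule.mkLinearMap A⁰ Q q)
      simpa [g₀] using this
    simp only [LinearMap.coe_comp, Function.comp_apply, LinearMap.smul_apply, LinearMap.id_coe,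
      id_eq]
    rw [← h2, h1]
    have h4 : πK (s • g₀ q) = s • πK (g₀ q) := by
      have : (s • g₀ q : LocalizedModule A⁰ M) = (s : A) • g₀ q := rfl
      rw [this]
      have h5 : πK ((s : A) • g₀ q) = (s : A) • πK (g₀ q) :=
        (πK.restrictScalars A).map_smul (s : A) (g₀ q)
      rw [h5]; rfl
    rw [h4, h3]
    rw [map_smul]; rfl
  obtain ⟨t, ht⟩ := Module.Finite.exists_smul_of_comp_eq_of_isLocalizedModule A⁰
    (LocalizedModule.mkLinearMap A⁰ Q) _ _ hcomp
  refine ⟨(t : A) * (s : A), (t : A) • h, ?_, ?_⟩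
  · exact mul_ne_zero (nonZeroDivisors.ne_zero t.2) (nonZeroDivisors.ne_zero s.2)
  · intro q
    have := LinearMap.congr_fun ht q
    simp only [LinearMap.smul_apply, LinearMap.coe_comp, Function.comp_apply, LinearMap.id_coe,
      id_eq] at this
    rw [LinearMap.smul_apply, map_smul, mul_smul]
    exact this

theorem exists_retraction_up_to {A : Type u} [CommRing A] [IsNoetherianRing A] [IsDomain A]
    {M N : Type u} [AddCommGroup M] [Module A M] [AddCommGroup N] [Module A N] [Module.Finite A M]
    (j : N →ₗ[A] M) (hj : Function.Injective j) :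
    ∃ (g : A) (ρ : M →ₗ[A] N), g ≠ 0 ∧ ∀ n, ρ (j n) = g • n := by
  obtain ⟨g, τ, hg, hτ⟩ := exists_section_up_to (LinearMap.range j).mkQ
    (Submodule.mkQ_surjective _)
  let ρ₀ : M →ₗ[A] M := g • LinearMap.id - τ ∘ₗ (LinearMap.range j).mkQ
  have hρ₀ : ∀ m, ρ₀ m ∈ LinearMap.range j := by
    intro m
    rw [← Submodule.Quotient.mk_eq_zero, ← Submodule.mkQ_apply]
    simp only [ρ₀, LinearMap.sub_apply, LinearMap.smul_apply, LinearMap.id_coe, id_eq,
      LinearMap.coe_comp, Function.comp_apply, map_sub, map_smul]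
    rw [hτ, sub_self]
  let e := LinearEquiv.ofInjective j hj
  refine ⟨g, e.symm.toLinearMap ∘ₗ (ρ₀.codRestrict (LinearMap.range j) hρ₀), hg, ?_⟩
  intro n
  simp only [LinearMap.coe_comp, LinearEquiv.coe_coe, Function.comp_apply]
  rw [LinearEquiv.symm_apply_eq]
  apply Subtype.ext
  have h0 : (LinearMap.range j).mkQ (j n) = 0 := by
    rw [Submodule.mkQ_apply, Submodule.Quotient.mk_eq_zero]; exact ⟨n, rfl⟩
  simp [ρ₀, e, h0]

end Helper96.GenericSplit
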