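import Mathlib

/-! Generic lemmas for the semistable node (helper96): derivations on localizations,
a factorization lemma, and the core argument. -/

set_option autoImplicit false
set_option linter.style.haveILetI false

open KaehlerDifferential TensorProduct

namespace Groth.Agent.Lib.Helper96.Node

/-- A derivation extends to a localization. -/
theorem exists_derivation_localization {R A A' : Type*} [CommRing R] [CommRing A] [CommRing A']
    [Algebra R A] [Algebra R A'] [Algebra A A'] [IsScalarTower R A A'] (M : Submonoid A)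
    [IsLocalization M A'] (d : Derivation R A A) :
    ∃ d' : Derivation R A' A', ∀ a, d' (algebraMap A A' a) = algebraMap A A' (d a) := by
  let g : Ω[A⁄R] →ₗ[A] A' := (Algebra.linearMap A A') ∘ₗ d.liftKaehlerDifferential
  have hunit : ∀ s : M, IsUnit (algebraMap A (Module.End A A') s) :=
    IsLocalizedModule.map_units (Algebra.linearMap A A')
  let l : Ω[A'⁄R] →ₗ[A] A' :=
    IsLocalizedModule.lift M (KaehlerDifferential.map R R A A') g hunit
  let l' : Ω[A'⁄R] →ₗ[A'] A' := LinearMap.extendScalarsOfIsLocalization M A' l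
  refine ⟨l'.compDer (KaehlerDifferential.D R A'), fun a => ?_⟩
  have h1 : KaehlerDifferential.D R A' (algebraMap A A' a) =
      KaehlerDifferential.map R R A A' (KaehlerDifferential.D R A a) :=
    (KaehlerDifferential.map_D R R A A' a).symm
  change l (KaehlerDifferential.D R A' (algebraMap A A' a)) = _
  rw [h1, IsLocalizedModule.lift_apply]
  simp [g]

/-- Factorization: if `d * g = x ^ n * y ^ m` with `x, y` prime non-zero-divisors then
`x ∣ d`, `y ∣ d` or `d` is a unit. -/
theorem dvd_or_dvd_or_isUnit {B : Type*} [CommRing B] (x y : B)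
    (hx : x ∈ nonZeroDivisors B) (hy : y ∈ nonZeroDivisors B)
    (hxp : (Ideal.span {x}).IsPrime) (hyp : (Ideal.span {y}).IsPrime) :
    ∀ (n m : ℕ) (d g : B), d * g = x ^ n * y ^ m → x ∣ d ∨ y ∣ d ∨ IsUnit d := by
  intro n
  induction n with
  | zero =>
    intro m
    induction m with
    | zero =>
      intro d g h
      right; right
      exact IsUnit.of_mul_eq_one g (by simpa using h)
    | succ m ih =>
      intro d g h
      have h1 : d * g ∈ Ideal.span {y} := by
        rw [Ideal.mem_span_singleton, h]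
        exact ⟨y ^ m, by ring⟩
      rcases hyp.mem_or_mem h1 with h2 | h2
      · right; left
        exact Ideal.mem_span_singleton.mp h2
      · obtain ⟨g', rfl⟩ := Ideal.mem_span_singleton.mp h2
        have h3 : y * (d * g') = y * (x ^ 0 * y ^ m) := by
          rw [← mul_assoc, mul_comm y d, mul_assoc, h]; ring
        exact ih d g' ((mul_cancel_left_mem_nonZeroDivisors hy).mp h3)
  | succ n ih =>
    intro m d g h
    have h1 : d * g ∈ Ideal.span {x} := by
      rw [Ideal.mem_span_singleton, h]
      exact ⟨x ^ n * y ^ m, by ring⟩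
    rcases hxp.mem_or_mem h1 with h2 | h2
    · left
      exact Ideal.mem_span_singleton.mp h2
    · obtain ⟨g', rfl⟩ := Ideal.mem_span_singleton.mp h2
      have h3 : x * (d * g') = x * (x ^ n * y ^ m) := by
        rw [← mul_assoc, mul_comm x d, mul_assoc, h]; ring
      exact ih m d g' ((mul_cancel_left_mem_nonZeroDivisors hx).mp h3)

/-- If `V[T] → B'`, `T ↦ f'`, is formally unramified then `Ω[B'/V]` is generated by `D f'`. -/
theorem exists_smul_D_of_formallyUnramified {V B' : Type*} [CommRing V] [CommRing B']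
    [Algebra V B'] (f' : B') [Algebra (Polynomial V) B'] [IsScalarTower V (Polynomial V) B']
    (hX : algebraMap (Polynomial V) B' Polynomial.X = f')
    [Algebra.FormallyUnramified (Polynomial V) B'] (ω : Ω[B'⁄V]) :
    ∃ c : B', ω = c • D V B' f' := by
  have hsub : Subsingleton Ω[B'⁄Polynomial V] := inferInstance
  have hex := KaehlerDifferential.exact_mapBaseChange_map V (Polynomial V) B'
  have hω : ω ∈ LinearMap.range (mapBaseChange V (Polynomial V) B') := by
    rw [← LinearMap.exact_iff.mp hex]
    exact Subsingleton.elim _ _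
  obtain ⟨t, rfl⟩ := hω
  induction t using TensorProduct.induction_on with
  | zero => exact ⟨0, by simp⟩
  | tmul b ω' =>
    have hω' : ω' = (polynomialEquiv V ω') • D V (Polynomial V) Polynomial.X := by
      apply (polynomialEquiv V).injective
      rw [map_smul, polynomialEquiv_D]
      simp
    rw [hω']
    refine ⟨b * algebraMap _ _ (polynomialEquiv V ω'), ?_⟩
    rw [mapBaseChange_tmul, map_smul, map_D, hX, mul_smul, algebraMap_smul]
  | add a b ha hb =>
    obtain ⟨c1, h1⟩ := ha
    obtain ⟨c2, h2⟩ := hb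
    exact ⟨c1 + c2, by rw [map_add, h1, h2, add_smul]⟩

/-- The core argument for the semistable node. -/
theorem core {V B B' : Type*} [CommRing V] [CommRing B] [CommRing B'] [Algebra V B]
    [Algebra V B'] [Algebra B B'] [IsScalarTower V B B'] (ϖ : V)
    [IsLocalization.Away (algebraMap V B ϖ) B'] (x y : B) (hxy : x * y = algebraMap V B ϖ)
    (hx : x ∈ nonZeroDivisors B) (hy : y ∈ nonZeroDivisors B)
    (hxp : (Ideal.span {x}).IsPrime) (hyp : (Ideal.span {y}).IsPrime)
    (hxy' : ¬ x ∣ y) (hyx' : ¬ y ∣ x) (hne : Ideal.span {x, y} ≠ (⊤ : Ideal B))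
    (δ : Derivation V B B) (hδx : δ x = x) (hδy : δ y = -y)
    (hδ : ∀ b, δ b ∈ Ideal.span {x, y})
    (hΩ : ∀ ω : Ω[B⁄V], ∃ a b : B, ω = a • D V B x + b • D V B y)
    (f : B) [Algebra (Polynomial V) B'] [IsScalarTower V (Polynomial V) B']
    (hX : algebraMap (Polynomial V) B' Polynomial.X = algebraMap B B' f)
    [Algebra.FormallyUnramified (Polynomial V) B'] :
    (x ∣ δ f ∧ D V (B ⧸ Ideal.span {x}) (Ideal.Quotient.mk _ f) = 0) ∨
      (y ∣ δ f ∧ D V (B ⧸ Ideal.span {y}) (Ideal.Quotient.mk _ f) = 0) := by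
  obtain ⟨δ', hδ'⟩ := exists_derivation_localization (R := V) (A := B) (A' := B')
    (Submonoid.powers (algebraMap V B ϖ)) δ
  obtain ⟨c, hc⟩ := exists_smul_D_of_formallyUnramified (V := V) (algebraMap B B' f) hX
    (D V B' (algebraMap B B' x))
  have h1 : algebraMap B B' x = c * algebraMap B B' (δ f) := by
    have := congrArg δ'.liftKaehlerDifferential hc
    rw [map_smul, Derivation.liftKaehlerDifferential_comp_D,
      Derivation.liftKaehlerDifferential_comp_D, hδ', hδ', hδx, smul_eq_mul] at this
    exact this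
  have hϖu : IsUnit (algebraMap B B' (algebraMap V B ϖ)) :=
    IsLocalization.Away.algebraMap_isUnit _
  have hxu : IsUnit (algebraMap B B' x) := by
    rw [← hxy, map_mul] at hϖu
    exact isUnit_of_mul_isUnit_left hϖu
  have hdu : IsUnit (algebraMap B B' (δ f)) := by
    rw [h1] at hxu
    exact isUnit_of_mul_isUnit_right hxu
  obtain ⟨g, N, hgN⟩ : ∃ g N, δ f * g = x ^ N * y ^ N := by
    obtain ⟨e, he⟩ := hdu.exists_right_inv
    obtain ⟨n, a, ha⟩ := IsLocalization.Away.surj (algebraMap V B ϖ) e
    have h2 : algebraMap B B' (δ f * a) = algebraMap B B' ((algebraMap V B ϖ) ^ n) := by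
      rw [map_mul, ← ha, ← mul_assoc, he, one_mul, map_pow]
    obtain ⟨⟨_, m, rfl⟩, hm⟩ :=
      (IsLocalization.eq_iff_exists (Submonoid.powers (algebraMap V B ϖ)) B').mp h2
    refine ⟨(algebraMap V B ϖ) ^ m * a, m + n, ?_⟩
    simp only at hm
    rw [← mul_pow, hxy, pow_add, ← hm]
    ring
  obtain ⟨a, b, hab⟩ := hΩ (D V B f)
  have h4 : δ f = a * x - b * y := by
    have := congrArg δ.liftKaehlerDifferential hab
    simpa [Derivation.liftKaehlerDifferential_comp_D, hδx, hδy, sub_eq_add_neg] using this
  rcases dvd_or_dvd_or_isUnit x y hx hy hxp hyp N N (δ f) g hgN with h3 | h3 | h3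
  · left
    refine ⟨h3, ?_⟩
    have h5 : x ∣ b := by
      have hby : b * y ∈ Ideal.span {x} := by
        rw [Ideal.mem_span_singleton]
        have hb : b * y = a * x - δ f := by rw [h4]; ring
        rw [hb]
        exact dvd_sub (dvd_mul_left x a) h3
      rcases hxp.mem_or_mem hby with h6 | h6
      · exact Ideal.mem_span_singleton.mp h6
      · exact absurd (Ideal.mem_span_singleton.mp h6) hxy'
    have h7 := congrArg (KaehlerDifferential.map V V B (B ⧸ Ideal.span {x})) hab
    rw [map_D, map_add, map_smul, map_smul, map_D, map_D] at h7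
    have hx0 : algebraMap B (B ⧸ Ideal.span {x}) x = 0 := by
      rw [Ideal.Quotient.algebraMap_eq, Ideal.Quotient.eq_zero_iff_mem]
      exact Ideal.mem_span_singleton_self x
    have hb0 : algebraMap B (B ⧸ Ideal.span {x}) b = 0 := by
      rw [Ideal.Quotient.algebraMap_eq, Ideal.Quotient.eq_zero_iff_mem, Ideal.mem_span_singleton]
      exact h5
    rw [hx0, map_zero, smul_zero, zero_add, ← algebraMap_smul (B ⧸ Ideal.span {x}) b, hb0,
      zero_smul] at h7
    exact h7
  · right
    refine ⟨h3, ?_⟩
    have h5 : y ∣ a := by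
      have hax : a * x ∈ Ideal.span {y} := by
        rw [Ideal.mem_span_singleton]
        have ha : a * x = δ f + b * y := by rw [h4]; ring
        rw [ha]
        exact dvd_add h3 (dvd_mul_left y b)
      rcases hyp.mem_or_mem hax with h6 | h6
      · exact Ideal.mem_span_singleton.mp h6
      · exact absurd (Ideal.mem_span_singleton.mp h6) hyx'
    have h7 := congrArg (KaehlerDifferential.map V V B (B ⧸ Ideal.span {y})) hab
    rw [map_D, map_add, map_smul, map_smul, map_D, map_D] at h7
    have hy0 : algebraMap B (B ⧸ Ideal.span {y}) y = 0 := by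
      rw [Ideal.Quotient.algebraMap_eq, Ideal.Quotient.eq_zero_iff_mem]
      exact Ideal.mem_span_singleton_self y
    have ha0 : algebraMap B (B ⧸ Ideal.span {y}) a = 0 := by
      rw [Ideal.Quotient.algebraMap_eq, Ideal.Quotient.eq_zero_iff_mem, Ideal.mem_span_singleton]
      exact h5
    rw [hy0, map_zero, smul_zero, add_zero, ← algebraMap_smul (B ⧸ Ideal.span {y}) a, ha0,
      zero_smul] at h7
    exact h7
  · exact absurd (Ideal.eq_top_of_isUnit_mem _ (hδ f) h3) hne

/-- An element which is an eigenvector of a derivation killing `R₀` is not algebraic over `R₀`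
(characteristic zero). -/
theorem no_algebraic_eigen {R₀ V B₁ : Type*} [CommRing R₀] [CommRing V] [CommRing B₁]
    [IsDomain B₁] [CharZero B₁] [Algebra R₀ B₁] [Algebra V B₁] (d : Derivation V B₁ B₁)
    (hd0 : ∀ r : R₀, d (algebraMap R₀ B₁ r) = 0) (z : B₁) (hz : z ≠ 0)
    (hdz : d z = z ∨ d z = -z) :
    ∀ (n : ℕ) (p : Polynomial R₀), (p.map (algebraMap R₀ B₁)).natDegree = n →
      p.map (algebraMap R₀ B₁) ≠ 0 → Polynomial.aeval z p ≠ 0 := by
  have key : ∀ p : Polynomial R₀,
      d (Polynomial.aeval z p) = Polynomial.aeval z (Polynomial.derivative p) * d z := by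
    intro p
    induction p using Polynomial.induction_on with
    | C a => simp [hd0]
    | add p q hp hq => simp [hp, hq, add_mul]
    | monomial n a ih =>
      simp [Derivation.leibniz, Derivation.leibniz_pow, hd0]
      ring
  intro n
  induction n using Nat.strong_induction_on with
  | _ n ih =>
    intro p hn hp hpz
    have h1 := key p
    rw [hpz, map_zero] at h1
    have h2 : Polynomial.aeval z (Polynomial.derivative p) = 0 := by
      rcases hdz with h | h
      · rw [h] at h1
        rcases mul_eq_zero.mp h1.symm with h' | h'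
        · exact h'
        · exact absurd h' hz
      · rw [h] at h1
        rcases mul_eq_zero.mp h1.symm with h' | h'
        · exact h'
        · exact absurd (neg_eq_zero.mp h') hz
    by_cases hn0 : n = 0
    · subst hn0
      rw [Polynomial.natDegree_eq_zero] at hn
      obtain ⟨b, hb⟩ := hn
      have hev : Polynomial.aeval z p = b := by
        rw [Polynomial.aeval_def, Polynomial.eval₂_eq_eval_map, ← hb, Polynomial.eval_C]
      rw [hev] at hpz
      rw [← hb, hpz, map_zero] at hp
      exact hp rfl
    · have hder : (Polynomial.derivative p).map (algebraMap R₀ B₁) =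
          Polynomial.derivative (p.map (algebraMap R₀ B₁)) :=
        (Polynomial.derivative_map p _).symm
      have hlt : ((Polynomial.derivative p).map (algebraMap R₀ B₁)).natDegree < n := by
        rw [hder, ← hn]
        exact Polynomial.natDegree_derivative_lt (by omega)
      have hne : (Polynomial.derivative p).map (algebraMap R₀ B₁) ≠ 0 := by
        rw [hder]
        intro h0
        have := Polynomial.derivative_eq_zero.mp h0
        omega
      exact ih _ hlt (Polynomial.derivative p) rfl hne h2

/-- Quasi-finiteness gives an algebraic relation in the quotient by a prime. -/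
theorem exists_poly_of_quasiFinite {R₀ B : Type*} [CommRing R₀] [CommRing B] [Algebra R₀ B]
    [Algebra.QuasiFinite R₀ B] (Q : Ideal B) [Q.IsPrime] (y : B) :
    ∃ p : Polynomial R₀, p.map (algebraMap R₀ (B ⧸ Q)) ≠ 0 ∧
      Polynomial.aeval (Ideal.Quotient.mk Q y) p = 0 := by
  let P : Ideal R₀ := Q.under R₀
  haveI : Q.LiesOver P := ⟨rfl⟩
  letI := Localization.AtPrime.algebraOfLiesOver P Q
  haveI : Module.Finite P.ResidueField Q.ResidueField := inferInstance
  haveI : IsScalarTower R₀ P.ResidueField Q.ResidueField := inferInstance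
  let L := Q.ResidueField
  let zL : L := algebraMap B L y
  have hint : IsAlgebraic P.ResidueField zL :=
    (Algebra.IsIntegral.isIntegral (R := P.ResidueField) zL).isAlgebraic
  letI alg : Algebra (R₀ ⧸ P) L :=
    ((algebraMap P.ResidueField L).comp (algebraMap (R₀ ⧸ P) P.ResidueField)).toAlgebra
  haveI : IsScalarTower (R₀ ⧸ P) P.ResidueField L := IsScalarTower.of_algebraMap_eq fun _ => rfl
  have halg : IsAlgebraic (R₀ ⧸ P) zL :=
    (IsFractionRing.isAlgebraic_iff (R₀ ⧸ P) P.ResidueField L).mpr hint
  obtain ⟨pt, hpt0, hpt⟩ := halg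
  obtain ⟨p, rfl⟩ :=
    Polynomial.map_surjective (Ideal.Quotient.mk P) Ideal.Quotient.mk_surjective pt
  have hkey : ∀ r : R₀, algebraMap (R₀ ⧸ P) L (Ideal.Quotient.mk P r) =
      algebraMap (B ⧸ Q) L (algebraMap R₀ (B ⧸ Q) r) := by
    intro r
    rw [← IsScalarTower.algebraMap_apply R₀ (B ⧸ Q) L]
    change algebraMap P.ResidueField L
      (algebraMap (R₀ ⧸ P) P.ResidueField (Ideal.Quotient.mk P r)) = _
    rw [← Ideal.Quotient.algebraMap_eq, ← IsScalarTower.algebraMap_apply R₀ (R₀ ⧸ P) P.ResidueField,
      ← IsScalarTower.algebraMap_apply R₀ P.ResidueField L]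
  have hcomp : (algebraMap (R₀ ⧸ P) L).comp (Ideal.Quotient.mk P) =
      (algebraMap (B ⧸ Q) L).comp (algebraMap R₀ (B ⧸ Q)) := RingHom.ext hkey
  have hginj : Function.Injective (algebraMap (R₀ ⧸ P) L) := by
    change Function.Injective
      ((algebraMap P.ResidueField L).comp (algebraMap (R₀ ⧸ P) P.ResidueField))
    exact (algebraMap P.ResidueField L).injective.comp
      (IsFractionRing.injective (R₀ ⧸ P) P.ResidueField)
  have hhinj : Function.Injective (algebraMap (B ⧸ Q) L) := IsFractionRing.injective (B ⧸ Q) L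
  refine ⟨p, ?_, ?_⟩
  · intro h0
    apply hpt0
    apply Polynomial.map_injective _ hginj
    rw [Polynomial.map_map, hcomp, ← Polynomial.map_map, h0, Polynomial.map_zero,
      Polynomial.map_zero]
  · apply hhinj
    rw [map_zero, Polynomial.aeval_def, Polynomial.hom_eval₂, ← hcomp, ← Polynomial.eval₂_map]
    have hz : algebraMap (B ⧸ Q) L (Ideal.Quotient.mk Q y) = zL := by
      rw [← Ideal.Quotient.algebraMap_eq, ← IsScalarTower.algebraMap_apply B (B ⧸ Q) L]
    rw [hz]
    exact hpt

/-- A prime `(x)` stable under a derivation `δ` with `x ∣ δ f`, together with an eigenvector `z`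
of `δ` outside `(x)`, contradicts quasi-finiteness of `V[T] → B`, `T ↦ f` (characteristic zero
modulo `x`). -/
theorem false_of_quasiFinite {V B : Type*} [CommRing V] [CommRing B] [Algebra V B] (x z f : B)
    (hxp : (Ideal.span {x}).IsPrime) (hz : ¬ x ∣ z) (hchar : ∀ n : ℕ, n ≠ 0 → ¬ x ∣ (n : B))
    (δ : Derivation V B B) (hδx : x ∣ δ x) (hδz : δ z = z ∨ δ z = -z) (hδf : x ∣ δ f)
    [Algebra (Polynomial V) B] [IsScalarTower V (Polynomial V) B]
    (hX : algebraMap (Polynomial V) B Polynomial.X = f) [Algebra.QuasiFinite (Polynomial V) B] :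
    False := by
  let Q : Ideal B := Ideal.span {x}
  haveI : Q.IsPrime := hxp
  haveI : CharZero (B ⧸ Q) := by
    refine charZero_of_inj_zero fun n hn => ?_
    by_contra hn0
    apply hchar n hn0
    have h1 : (Ideal.Quotient.mk Q) (n : B) = 0 := by rw [map_natCast]; exact hn
    rw [Ideal.Quotient.eq_zero_iff_mem] at h1
    exact Ideal.mem_span_singleton.mp h1
  have hd : ∀ b, Ideal.Quotient.mkₐ V Q b = 0 → Ideal.Quotient.mkₐ V Q (δ b) = 0 := by
    intro b hb
    rw [Ideal.Quotient.mkₐ_eq_mk, Ideal.Quotient.eq_zero_iff_mem] at hb ⊢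
    obtain ⟨c, rfl⟩ := Ideal.mem_span_singleton.mp hb
    rw [Derivation.leibniz, Ideal.mem_span_singleton]
    exact dvd_add (Dvd.intro _ rfl) (Dvd.dvd.mul_left hδx c)
  let δ₁ : Derivation V (B ⧸ Q) (B ⧸ Q) :=
    Derivation.liftOfSurjective (f := Ideal.Quotient.mkₐ V Q) (Ideal.Quotient.mkₐ_surjective V Q) hd
  have hδ₁ : ∀ b, δ₁ (Ideal.Quotient.mk Q b) = Ideal.Quotient.mk Q (δ b) := fun b =>
    Derivation.liftOfSurjective_apply (f := Ideal.Quotient.mkₐ V Q)
      (Ideal.Quotient.mkₐ_surjective V Q) hd b
  have haev : ∀ r : Polynomial V, algebraMap (Polynomial V) B r = Polynomial.aeval f r := by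
    have h1 : (IsScalarTower.toAlgHom V (Polynomial V) B) = Polynomial.aeval f :=
      Polynomial.algHom_ext (by simp [hX])
    exact fun r => DFunLike.congr_fun h1 r
  have hd0 : ∀ r : Polynomial V, δ₁ (algebraMap (Polynomial V) (B ⧸ Q) r) = 0 := by
    intro r
    rw [IsScalarTower.algebraMap_apply (Polynomial V) B (B ⧸ Q), Ideal.Quotient.algebraMap_eq,
      hδ₁, haev, Derivation.map_aeval, Ideal.Quotient.eq_zero_iff_mem, Ideal.mem_span_singleton,
      smul_eq_mul]
    exact Dvd.dvd.mul_left hδf _
  have hz1 : Ideal.Quotient.mk Q z ≠ 0 := by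
    rw [Ne, Ideal.Quotient.eq_zero_iff_mem, Ideal.mem_span_singleton]
    exact hz
  have hδz1 : δ₁ (Ideal.Quotient.mk Q z) = Ideal.Quotient.mk Q z ∨
      δ₁ (Ideal.Quotient.mk Q z) = -Ideal.Quotient.mk Q z := by
    rcases hδz with h | h
    · left; rw [hδ₁, h]
    · right; rw [hδ₁, h, map_neg]
  obtain ⟨p, hp, hpz⟩ := exists_poly_of_quasiFinite (R₀ := Polynomial V) Q z
  exact no_algebraic_eigen (R₀ := Polynomial V) δ₁ hd0 _ hz1 hδz1 _ p rfl hp hpz

end Groth.Agent.Lib.Helper96.Node
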