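import Mathlib
import Groth.Agent.Lib.Helper96.NodeGeneric

/-! Concrete facts about `V[x,y]/(xy - ϖ)` (helper96). -/

set_option autoImplicit false
set_option linter.style.haveILetI false
set_option linter.unusedSectionVars false

open MvPolynomial KaehlerDifferential

namespace Groth.Agent.Lib.Helper96.Node

theorem X_dvd_prod {R : Type*} [CommRing R] (i : Fin 2) :
    (X i : MvPolynomial (Fin 2) R) ∣ X 0 * X 1 := by
  fin_cases i
  · exact Dvd.intro _ rfl
  · exact Dvd.intro_left _ rfl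

section Concrete

variable {V : Type*} [CommRing V] [IsDomain V] (ϖ : V)

local notation "PP" => MvPolynomial (Fin 2) V
local notation "g₀" => (X 0 * X 1 - C ϖ : MvPolynomial (Fin 2) V)
local notation "I₀" => Ideal.span {(X 0 * X 1 - C ϖ : MvPolynomial (Fin 2) V)}
local notation "QQ" =>
  MvPolynomial (Fin 2) V ⧸ Ideal.span {(X 0 * X 1 - C ϖ : MvPolynomial (Fin 2) V)}
local notation "mkQ" =>
  Ideal.Quotient.mk (Ideal.span {(X 0 * X 1 - C ϖ : MvPolynomial (Fin 2) V)})

theorem not_X_dvd_C (hϖ : ϖ ≠ 0) (i : Fin 2) : ¬ (X i : PP) ∣ C ϖ := by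
  rintro ⟨s, hs⟩
  have := congrArg constantCoeff hs
  simp at this
  exact hϖ this

theorem mk_X_mem_nonZeroDivisors (hϖ : ϖ ≠ 0) (i : Fin 2) :
    mkQ (X i) ∈ nonZeroDivisors QQ := by
  rw [mem_nonZeroDivisors_iff_left]
  intro q hq
  obtain ⟨p, rfl⟩ := Ideal.Quotient.mk_surjective q
  rw [← map_mul, Ideal.Quotient.eq_zero_iff_mem, Ideal.mem_span_singleton] at hq
  obtain ⟨r, hr⟩ := hq
  have h1 : (X i : PP) ∣ g₀ * r := ⟨p, hr.symm⟩
  rcases (X_prime (i := i)).dvd_or_dvd h1 with h2 | h2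
  · exfalso
    apply not_X_dvd_C ϖ hϖ i
    have := dvd_sub (X_dvd_prod (R := V) i) h2
    simpa using this
  · obtain ⟨r', rfl⟩ := h2
    rw [Ideal.Quotient.eq_zero_iff_mem, Ideal.mem_span_singleton]
    refine ⟨r', ?_⟩
    have h3 : X i * p = X i * (g₀ * r') := by rw [hr]; ring
    exact mul_left_cancel₀ (X_ne_zero i) h3

theorem sup_eq_comap (i : Fin 2) :
    Ideal.span {(X i : PP)} ⊔ I₀ =
      Ideal.comap (MvPolynomial.map (Ideal.Quotient.mk (Ideal.span {ϖ})))
        (Ideal.span {(X i : MvPolynomial (Fin 2) (V ⧸ Ideal.span {ϖ}))}) := by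
  apply le_antisymm
  · rw [sup_le_iff, Ideal.span_le, Ideal.span_le, Set.singleton_subset_iff,
      Set.singleton_subset_iff]
    constructor
    · simp only [SetLike.mem_coe, Ideal.mem_comap, map_X]
      exact Ideal.mem_span_singleton_self _
    · have h0 : (Ideal.Quotient.mk (Ideal.span {ϖ})) ϖ = 0 :=
        Ideal.Quotient.eq_zero_iff_mem.mpr (Ideal.mem_span_singleton_self ϖ)
      simp only [SetLike.mem_coe, Ideal.mem_comap, map_sub, map_mul, map_X, map_C, h0, C_0,
        sub_zero]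
      exact Ideal.mem_span_singleton.mpr (X_dvd_prod i)
  · intro p hp
    rw [Ideal.mem_comap, Ideal.mem_span_singleton] at hp
    obtain ⟨s, hs⟩ := hp
    obtain ⟨s', rfl⟩ := MvPolynomial.map_surjective (Ideal.Quotient.mk (Ideal.span {ϖ}))
      Ideal.Quotient.mk_surjective s
    have h1 : p - X i * s' ∈ RingHom.ker
        (MvPolynomial.map (Ideal.Quotient.mk (Ideal.span {ϖ})) :
          PP →+* MvPolynomial (Fin 2) (V ⧸ Ideal.span {ϖ})) := by
      rw [RingHom.mem_ker, map_sub, hs, map_mul, map_X, sub_self]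
    rw [MvPolynomial.ker_map, Ideal.mk_ker] at h1
    have h2 : Ideal.map (C : V →+* PP) (Ideal.span {ϖ}) ≤ Ideal.span {(X i : PP)} ⊔ I₀ := by
      rw [Ideal.map_span, Set.image_singleton, Ideal.span_le, Set.singleton_subset_iff]
      have h3 : ∀ a : PP, a = X 0 * X 1 - g₀ → a ∈ Ideal.span {(X i : PP)} ⊔ I₀ := by
        rintro a rfl
        exact Ideal.sub_mem _
          (Ideal.mem_sup_left (Ideal.mem_span_singleton.mpr (X_dvd_prod i)))
          (Ideal.mem_sup_right (Ideal.mem_span_singleton_self _))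
      exact h3 _ (by ring)
    have h4 : p = X i * s' + (p - X i * s') := by ring
    rw [h4]
    exact Ideal.add_mem _
      (Ideal.mem_sup_left (Ideal.mem_span_singleton.mpr (dvd_mul_right _ _))) (h2 h1)

theorem span_mk_X_isPrime (hp : (Ideal.span {ϖ}).IsPrime) (i : Fin 2) :
    (Ideal.span {mkQ (X i)}).IsPrime := by
  haveI := hp
  haveI hJ : (Ideal.span {(X i : PP)} ⊔ I₀).IsPrime := by
    rw [sup_eq_comap]
    haveI : (Ideal.span {(X i : MvPolynomial (Fin 2) (V ⧸ Ideal.span {ϖ}))}).IsPrime := by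
      rw [Ideal.span_singleton_prime (X_ne_zero i)]
      exact X_prime
    exact Ideal.comap_isPrime _ _
  have h1 : Ideal.span {mkQ (X i)} = Ideal.map mkQ (Ideal.span {(X i : PP)} ⊔ I₀) := by
    rw [Ideal.map_sup, Ideal.map_span, Set.image_singleton, Ideal.map_quotient_self, sup_bot_eq]
  rw [h1]
  exact Ideal.map_isPrime_of_surjective Ideal.Quotient.mk_surjective
    (by rw [Ideal.mk_ker]; exact le_sup_right)

theorem not_mk_X_dvd (hp : (Ideal.span {ϖ}).IsPrime) {i j : Fin 2} (hij : i ≠ j) :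
    ¬ mkQ (X i) ∣ mkQ (X j) := by
  intro h
  have h1 : mkQ (X j) ∈ Ideal.map mkQ (Ideal.span {(X i : PP)}) := by
    rw [Ideal.map_span, Set.image_singleton]
    exact Ideal.mem_span_singleton.mpr h
  rw [Ideal.mem_map_iff_of_surjective _ Ideal.Quotient.mk_surjective] at h1
  obtain ⟨p, hp1, hp2⟩ := h1
  have h2 : (X j : PP) ∈ Ideal.span {(X i : PP)} ⊔ I₀ := by
    have h3 : X j - p ∈ I₀ := by
      rw [← Ideal.Quotient.eq_zero_iff_mem, map_sub, hp2, sub_self]
    have h4 : (X j : PP) = p + (X j - p) := by ring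
    rw [h4]
    exact Ideal.add_mem _ (Ideal.mem_sup_left hp1) (Ideal.mem_sup_right h3)
  rw [sup_eq_comap, Ideal.mem_comap, map_X, Ideal.mem_span_singleton] at h2
  haveI := hp
  obtain ⟨s, hs⟩ := h2
  have h5 := congrArg
    (MvPolynomial.eval (fun l => if l = j then (1 : V ⧸ Ideal.span {ϖ}) else 0)) hs
  simp [hij] at h5

theorem exists_ringHom_to_quotient :
    ∃ ε : QQ →+* V ⧸ Ideal.span {ϖ}, (∀ i, ε (mkQ (X i)) = 0) ∧
      ∀ q, ε q = 0 → q ∈ Ideal.span {mkQ (X 0), mkQ (X 1)} := by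
  let ε₀ : PP →+* V ⧸ Ideal.span {ϖ} :=
    (Ideal.Quotient.mk (Ideal.span {ϖ})).comp constantCoeff
  have hε₀ : ∀ a ∈ I₀, ε₀ a = 0 := by
    intro a ha
    obtain ⟨r, rfl⟩ := Ideal.mem_span_singleton.mp ha
    simp [ε₀, Ideal.Quotient.eq_zero_iff_mem, Ideal.mem_span_singleton]
  refine ⟨Ideal.Quotient.lift _ ε₀ hε₀, fun i => by simp [ε₀], fun q hq => ?_⟩
  obtain ⟨p, rfl⟩ := Ideal.Quotient.mk_surjective q
  rw [Ideal.Quotient.lift_mk] at hq
  simp only [ε₀, RingHom.comp_apply, Ideal.Quotient.eq_zero_iff_mem,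
    Ideal.mem_span_singleton] at hq
  obtain ⟨v, hv⟩ := hq
  have h1 : p - C (constantCoeff p) ∈
      Ideal.span (X '' (Set.univ : Set (Fin 2)) : Set PP) := by
    rw [mem_ideal_span_X_image]
    intro m hm
    have hm0 : m ≠ 0 := by
      rintro rfl
      rw [mem_support_iff] at hm
      apply hm
      simp [constantCoeff_eq]
    obtain ⟨i, hi⟩ := Finsupp.ne_iff.mp hm0
    exact ⟨i, Set.mem_univ _, by simpa using hi⟩
  have h2 : mkQ (p - C (constantCoeff p)) ∈ Ideal.span {mkQ (X 0), mkQ (X 1)} := by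
    have h := Ideal.mem_map_of_mem mkQ h1
    rw [Ideal.map_span] at h
    refine Ideal.span_mono ?_ h
    rintro _ ⟨_, ⟨i, -, rfl⟩, rfl⟩
    fin_cases i <;> simp
  have h3 : mkQ (C (constantCoeff p)) ∈ Ideal.span {mkQ (X 0), mkQ (X 1)} := by
    have h5 : mkQ (C ϖ) = mkQ (X 0) * mkQ (X 1) := by
      rw [← map_mul, eq_comm, Ideal.Quotient.mk_eq_mk_iff_sub_mem]
      exact Ideal.mem_span_singleton_self _
    rw [hv, C_mul, map_mul, h5]
    exact Ideal.mul_mem_right _ _ (Ideal.mul_mem_right _ _ (Ideal.subset_span (by simp)))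
  have h4 : mkQ p = mkQ (p - C (constantCoeff p)) + mkQ (C (constantCoeff p)) := by
    rw [← map_add]
    congr 1
    ring
  rw [h4]
  exact Ideal.add_mem _ h2 h3

theorem D_mem_span (q : QQ) :
    D V QQ q ∈ Submodule.span QQ {D V QQ (mkQ (X 0)), D V QQ (mkQ (X 1))} := by
  obtain ⟨p, rfl⟩ := Ideal.Quotient.mk_surjective q
  induction p using MvPolynomial.induction_on with
  | C a =>
    have h : mkQ (C a) = algebraMap V QQ a := rfl
    rw [h, Derivation.map_algebraMap]
    exact Submodule.zero_mem _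
  | add p q hp hq =>
    rw [map_add, map_add]
    exact Submodule.add_mem _ hp hq
  | mul_X p i hp =>
    rw [map_mul, Derivation.leibniz]
    refine Submodule.add_mem _ (Submodule.smul_mem _ _ ?_) (Submodule.smul_mem _ _ hp)
    fin_cases i <;> exact Submodule.subset_span (by simp)

theorem exists_derivation :
    ∃ δ : Derivation V QQ QQ, δ (mkQ (X 0)) = mkQ (X 0) ∧ δ (mkQ (X 1)) = -mkQ (X 1) ∧
      ∀ q, δ q ∈ Ideal.span {mkQ (X 0), mkQ (X 1)} := by
  let δP : Derivation V PP PP :=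
    mkDerivation V (fun i : Fin 2 => if i = 0 then (X 0 : PP) else -X 1)
  have hg : δP g₀ = 0 := by
    have hC : δP (C ϖ) = 0 := by rw [← algebraMap_eq, Derivation.map_algebraMap]
    rw [map_sub, hC, Derivation.leibniz, sub_zero]
    simp only [δP, mkDerivation_X, smul_eq_mul]
    rw [if_neg (by decide), if_pos trivial]
    ring
  have hd : ∀ p, Ideal.Quotient.mkₐ V I₀ p = 0 → Ideal.Quotient.mkₐ V I₀ (δP p) = 0 := by
    intro p hp
    rw [Ideal.Quotient.mkₐ_eq_mk, Ideal.Quotient.eq_zero_iff_mem] at hp ⊢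
    obtain ⟨r, rfl⟩ := Ideal.mem_span_singleton.mp hp
    rw [Derivation.leibniz, hg, smul_zero, add_zero, smul_eq_mul]
    exact Ideal.mul_mem_right _ _ (Ideal.mem_span_singleton_self _)
  let δQ : Derivation V QQ QQ :=
    Derivation.liftOfSurjective (f := Ideal.Quotient.mkₐ V I₀)
      (Ideal.Quotient.mkₐ_surjective V _) hd
  have hδQ : ∀ p, δQ (mkQ p) = mkQ (δP p) := fun p =>
    Derivation.liftOfSurjective_apply (f := Ideal.Quotient.mkₐ V I₀)
      (Ideal.Quotient.mkₐ_surjective V _) hd p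
  have hmem : ∀ p : PP, δP p ∈ Ideal.span {(X 0 : PP), X 1} := by
    intro p
    induction p using MvPolynomial.induction_on with
    | C a =>
      rw [← algebraMap_eq, Derivation.map_algebraMap]
      exact Ideal.zero_mem _
    | add p q hp hq =>
      rw [map_add]
      exact Ideal.add_mem _ hp hq
    | mul_X p i hp =>
      rw [Derivation.leibniz, smul_eq_mul, smul_eq_mul]
      refine Ideal.add_mem _ (Ideal.mul_mem_left _ _ ?_) (Ideal.mul_mem_left _ _ hp)
      simp only [δP, mkDerivation_X]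
      fin_cases i
      · simp only [Fin.zero_eta, if_true]
        exact Ideal.subset_span (by simp)
      · simp only [Fin.mk_one, one_ne_zero, if_false]
        exact (Ideal.neg_mem_iff _).mpr (Ideal.subset_span (by simp))
  refine ⟨δQ, ?_, ?_, ?_⟩
  · rw [hδQ]
    simp [δP, mkDerivation_X]
  · rw [hδQ]
    simp [δP, mkDerivation_X]
  · intro q
    obtain ⟨p, rfl⟩ := Ideal.Quotient.mk_surjective q
    rw [hδQ]
    have h := Ideal.mem_map_of_mem mkQ (hmem p)
    rw [Ideal.map_span] at h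
    refine Ideal.span_mono ?_ h
    rintro _ ⟨a, ha, rfl⟩
    simp only [Set.mem_insert_iff, Set.mem_singleton_iff] at ha ⊢
    rcases ha with rfl | rfl <;> simp

end Concrete

end Groth.Agent.Lib.Helper96.Node
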