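import Mathlib
import Groth.Agent.Lib.Helper96.NodeConcrete

/-! Assembly for the semistable node (helper96). -/

set_option autoImplicit false
set_option linter.style.haveILetI false
set_option linter.unusedSectionVars false

open MvPolynomial KaehlerDifferential

namespace Groth.Agent.Lib.Helper96.Node

/-- The coordinate ring of the standard semistable node. -/
abbrev NodeRing (V : Type*) [CommRing V] (ϖ : V) : Type _ :=
  MvPolynomial (Fin 2) V ⧸ Ideal.span {(X 0 * X 1 - C ϖ : MvPolynomial (Fin 2) V)}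

/-- The quotient map to the node ring. -/
noncomputable abbrev nodeMk (V : Type*) [CommRing V] (ϖ : V) : MvPolynomial (Fin 2) V →+* NodeRing V ϖ :=
  Ideal.Quotient.mk (Ideal.span {(X 0 * X 1 - C ϖ : MvPolynomial (Fin 2) V)})

section Main

variable {V : Type*} [CommRing V] [IsDomain V] (ϖ : V)

local notation "QQ" => NodeRing V ϖ
local notation "mkQ" => nodeMk V ϖ

variable (B : Type*) [CommRing B] [Algebra (NodeRing V ϖ) B]

local notation "xB" => algebraMap (NodeRing V ϖ) B (nodeMk V ϖ (X 0))
local notation "yB" => algebraMap (NodeRing V ϖ) B (nodeMk V ϖ (X 1))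

theorem main_abstract [IsDiscreteValuationRing V] (hϖ : Irreducible ϖ) (h : QQ)
    (hh : h ∉ Ideal.span {mkQ (X 0), mkQ (X 1)})
    [IsLocalization.Away h B] [Algebra V B] [IsScalarTower V QQ B]
    (B' : Type*) [CommRing B'] [Algebra B B'] [Algebra V B'] [IsScalarTower V B B']
    [IsLocalization.Away (algebraMap V B ϖ) B'] (f : B)
    (hf : ((algebraMap B B').comp
      (Polynomial.aeval f : Polynomial V →ₐ[V] B).toRingHom).Etale) :
    (D V (B ⧸ Ideal.span {xB}) (Ideal.Quotient.mk _ f) = 0 ∨
      D V (B ⧸ Ideal.span {yB}) (Ideal.Quotient.mk _ f) = 0) ∧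
    (CharZero (IsLocalRing.ResidueField V) →
      ¬ (Polynomial.aeval f : Polynomial V →ₐ[V] B).toRingHom.QuasiFinite) := by
  have hϖ0 : ϖ ≠ 0 := hϖ.ne_zero
  have hϖp : (Ideal.span {ϖ}).IsPrime := (Ideal.span_singleton_prime hϖ0).mpr hϖ.prime
  haveI hmax : (Ideal.span {ϖ}).IsMaximal := PrincipalIdealRing.isMaximal_of_irreducible hϖ
  letI : Field (V ⧸ Ideal.span {ϖ}) := Ideal.Quotient.field _
  have hdisj : ∀ i : Fin 2,
      Disjoint (Submonoid.powers h : Set QQ) (Ideal.span {mkQ (X i)} : Set QQ) := by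
    intro i
    rw [Set.disjoint_left]
    rintro _ ⟨n, rfl⟩ hn
    haveI := span_mk_X_isPrime ϖ hϖp i
    have h1 : h ∈ Ideal.span {mkQ (X i)} := Ideal.IsPrime.mem_of_pow_mem inferInstance n hn
    apply hh
    refine Ideal.span_mono ?_ h1
    fin_cases i <;> simp
  have hmapspan : ∀ i : Fin 2, Ideal.map (algebraMap QQ B) (Ideal.span {mkQ (X i)}) =
      Ideal.span {algebraMap QQ B (mkQ (X i))} := by
    intro i
    rw [Ideal.map_span, Set.image_singleton]
  have hprime : ∀ i : Fin 2, (Ideal.span {algebraMap QQ B (mkQ (X i))}).IsPrime := by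
    intro i
    rw [← hmapspan]
    exact IsLocalization.isPrime_of_isPrime_disjoint (Submonoid.powers h) B _
      (span_mk_X_isPrime ϖ hϖp i) (hdisj i)
  have hnzd : ∀ i : Fin 2, algebraMap QQ B (mkQ (X i)) ∈ nonZeroDivisors B := fun i =>
    IsLocalization.nonZeroDivisors_le_comap (Submonoid.powers h) B
      (mk_X_mem_nonZeroDivisors ϖ hϖ0 i)
  have hndvd : ∀ i j : Fin 2, i ≠ j →
      ¬ algebraMap QQ B (mkQ (X i)) ∣ algebraMap QQ B (mkQ (X j)) := by
    intro i j hij hd
    have h1 : algebraMap QQ B (mkQ (X j)) ∈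
        Ideal.map (algebraMap QQ B) (Ideal.span {mkQ (X i)}) := by
      rw [hmapspan]
      exact Ideal.mem_span_singleton.mpr hd
    have h2 : mkQ (X j) ∈
        (Ideal.map (algebraMap QQ B) (Ideal.span {mkQ (X i)})).under QQ := h1
    rw [IsLocalization.under_map_of_isPrime_disjoint (Submonoid.powers h) B
      (span_mk_X_isPrime ϖ hϖp i) (hdisj i)] at h2
    exact not_mk_X_dvd ϖ hϖp hij (Ideal.mem_span_singleton.mp h2)
  obtain ⟨ε, hε0, hεker⟩ := exists_ringHom_to_quotient ϖ
  have hεh : IsUnit (ε h) := by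
    rw [isUnit_iff_ne_zero]
    intro h0
    exact hh (hεker h h0)
  let εB : B →+* V ⧸ Ideal.span {ϖ} := IsLocalization.Away.lift h hεh
  have hne : Ideal.span {xB, yB} ≠ (⊤ : Ideal B) := by
    intro htop
    have hle : Ideal.span {xB, yB} ≤ RingHom.ker εB := by
      rw [Ideal.span_le]
      rintro _ (rfl | rfl)
      · rw [SetLike.mem_coe, RingHom.mem_ker, IsLocalization.Away.lift_eq, hε0]
      · rw [SetLike.mem_coe, RingHom.mem_ker, IsLocalization.Away.lift_eq, hε0]
    rw [htop, top_le_iff] at hle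
    exact RingHom.ker_ne_top εB hle
  obtain ⟨δQ, hδQx, hδQy, hδQmem⟩ := exists_derivation ϖ
  obtain ⟨δ, hδ⟩ := exists_derivation_localization (R := V) (A := QQ) (A' := B)
    (Submonoid.powers h) δQ
  have hδx : δ xB = xB := by rw [hδ, hδQx]
  have hδy : δ yB = -yB := by rw [hδ, hδQy, map_neg]
  have hmapmem : ∀ q : QQ, q ∈ Ideal.span {mkQ (X 0), mkQ (X 1)} →
      algebraMap QQ B q ∈ Ideal.span {xB, yB} := by
    intro q hq
    have h1 := Ideal.mem_map_of_mem (algebraMap QQ B) hq
    rw [Ideal.map_span] at h1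
    refine Ideal.span_mono ?_ h1
    rintro _ ⟨a, ha, rfl⟩
    simp only [Set.mem_insert_iff, Set.mem_singleton_iff] at ha ⊢
    rcases ha with rfl | rfl <;> simp
  have hδmem : ∀ b, δ b ∈ Ideal.span {xB, yB} := by
    intro b
    obtain ⟨n, q, hq⟩ := IsLocalization.Away.surj h b
    have h1 := congrArg δ hq
    rw [Derivation.leibniz, ← map_pow, hδ, hδ, smul_eq_mul, smul_eq_mul] at h1
    have hu : IsUnit (algebraMap QQ B (h ^ n)) := by
      rw [map_pow]
      exact (IsLocalization.Away.algebraMap_isUnit h).pow n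
    have h2 : algebraMap QQ B (h ^ n) * δ b ∈ Ideal.span {xB, yB} := by
      have h3 : algebraMap QQ B (h ^ n) * δ b =
          algebraMap QQ B (δQ q) - b * algebraMap QQ B (δQ (h ^ n)) := by
        rw [← h1]
        ring
      rw [h3]
      exact Ideal.sub_mem _ (hmapmem _ (hδQmem _))
        (Ideal.mul_mem_left _ _ (hmapmem _ (hδQmem _)))
    exact (Ideal.unit_mul_mem_iff_mem _ hu).mp h2
  have hΩ : ∀ ω : Ω[B⁄V], ∃ a b : B, ω = a • D V B xB + b • D V B yB := by
    intro ω
    have htop := KaehlerDifferential.span_range_map_derivation_of_isLocalization V QQ B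
      (Submonoid.powers h)
    have hle : (Submodule.span B (Set.range (KaehlerDifferential.map V V QQ B ∘ D V QQ))) ≤
        Submodule.span B {D V B xB, D V B yB} := by
      rw [Submodule.span_le]
      rintro _ ⟨q, rfl⟩
      have hq := D_mem_span ϖ q
      rw [Submodule.mem_span_pair] at hq
      obtain ⟨a, b, hab⟩ := hq
      rw [Function.comp_apply, ← hab, map_add, map_smul, map_smul, map_D, map_D, SetLike.mem_coe]
      have hx1 : D V B xB ∈ (Submodule.span B {D V B xB, D V B yB}).restrictScalars QQ :=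
        Submodule.subset_span (by simp)
      have hy1 : D V B yB ∈ (Submodule.span B {D V B xB, D V B yB}).restrictScalars QQ :=
        Submodule.subset_span (by simp)
      exact Submodule.add_mem ((Submodule.span B {D V B xB, D V B yB}).restrictScalars QQ)
        (Submodule.smul_mem _ a hx1) (Submodule.smul_mem _ b hy1)
    have hω : ω ∈ Submodule.span B {D V B xB, D V B yB} := hle (htop ▸ Submodule.mem_top)
    obtain ⟨a, b, hab⟩ := Submodule.mem_span_pair.mp hω
    exact ⟨a, b, hab.symm⟩
  have hxy : xB * yB = algebraMap V B ϖ := by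
    rw [← map_mul, ← map_mul, IsScalarTower.algebraMap_apply V QQ B]
    congr 1
    change mkQ (X 0 * X 1) = mkQ (C ϖ)
    rw [Ideal.Quotient.mk_eq_mk_iff_sub_mem]
    exact Ideal.mem_span_singleton_self _
  have hcore : (xB ∣ δ f ∧ D V (B ⧸ Ideal.span {xB}) (Ideal.Quotient.mk _ f) = 0) ∨
      (yB ∣ δ f ∧ D V (B ⧸ Ideal.span {yB}) (Ideal.Quotient.mk _ f) = 0) := by
    letI alg : Algebra (Polynomial V) B' := ((algebraMap B B').comp
      (Polynomial.aeval f : Polynomial V →ₐ[V] B).toRingHom).toAlgebra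
    haveI : IsScalarTower V (Polynomial V) B' := IsScalarTower.of_algebraMap_eq fun v => by
      rw [RingHom.algebraMap_toAlgebra]
      simp [IsScalarTower.algebraMap_apply V B B']
    haveI : Algebra.Etale (Polynomial V) B' := hf
    haveI : Algebra.FormallyUnramified (Polynomial V) B' := inferInstance
    have hX : algebraMap (Polynomial V) B' Polynomial.X = algebraMap B B' f := by
      rw [RingHom.algebraMap_toAlgebra]
      simp
    exact core ϖ xB yB hxy (hnzd 0) (hnzd 1) (hprime 0) (hprime 1) (hndvd 0 1 (by decide))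
      (hndvd 1 0 (by decide)) hne δ hδx hδy hδmem hΩ f hX
  refine ⟨hcore.imp (fun h => h.2) (fun h => h.2), fun hchar hqf => ?_⟩
  letI alg : Algebra (Polynomial V) B :=
    (Polynomial.aeval f : Polynomial V →ₐ[V] B).toRingHom.toAlgebra
  haveI : IsScalarTower V (Polynomial V) B := IsScalarTower.of_algebraMap_eq fun v => by
    rw [RingHom.algebraMap_toAlgebra]
    simp
  haveI : Algebra.QuasiFinite (Polynomial V) B := hqf
  have hX : algebraMap (Polynomial V) B Polynomial.X = f := by
    rw [RingHom.algebraMap_toAlgebra]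
    simp
  have hcharB : ∀ i : Fin 2, ∀ n : ℕ, n ≠ 0 → ¬ algebraMap QQ B (mkQ (X i)) ∣ (n : B) := by
    intro i n hn hd
    have hu : IsUnit (n : V) := by
      have hnm : (n : V) ∉ IsLocalRing.maximalIdeal V := by
        rw [← IsLocalRing.residue_eq_zero_iff, map_natCast]
        exact Nat.cast_ne_zero.mpr hn
      exact IsLocalRing.notMem_maximalIdeal.mp hnm
    have hu' : IsUnit ((n : ℕ) : B) := by
      have h1 := hu.map (algebraMap V B)
      rwa [map_natCast] at h1
    have h2 := isUnit_of_dvd_unit hd hu'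
    exact (hprime i).ne_top (Ideal.span_singleton_eq_top.mpr h2)
  rcases hcore with ⟨hd, -⟩ | ⟨hd, -⟩
  · exact false_of_quasiFinite xB yB f (hprime 0) (hndvd 0 1 (by decide)) (hcharB 0) δ
      (by rw [hδx]) (Or.inr hδy) hd hX
  · exact false_of_quasiFinite yB xB f (hprime 1) (hndvd 1 0 (by decide)) (hcharB 1) δ
      (by rw [hδy]; exact (dvd_neg).mpr dvd_rfl) (Or.inl hδx) hd hX

end Main

end Groth.Agent.Lib.Helper96.Node
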