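import Groth.Agent.Lib.Helper96.NormLocal2

/-!
# The `k`-fold graded product `(⋀^n N₁)^{⊗k} → ⋀^{nk} N`
-/

set_option autoImplicit false
open scoped TensorProduct
universe u

namespace Groth.Agent.Lib.Helper96.NormLocal

section gradedProd

variable {A : Type*} [CommRing A]
  {N₀ N₁ N N' : Type*} [AddCommGroup N₀] [Module A N₀] [AddCommGroup N₁] [Module A N₁]
  [AddCommGroup N] [Module A N] [AddCommGroup N'] [Module A N']

theorem ep_map_coe (r : ℕ) (u : N →ₗ[A] N') (z : ⋀[A]^r N) :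
    ((exteriorPower.map r u z : ⋀[A]^r N') : ExteriorAlgebra A N') =
      ExteriorAlgebra.map u (z : ExteriorAlgebra A N) := by
  have : (⋀[A]^r N').subtype ∘ₗ exteriorPower.map r u =
      (ExteriorAlgebra.map u).toLinearMap ∘ₗ (⋀[A]^r N).subtype := by
    apply exteriorPower.linearMap_ext
    ext m
    simp only [LinearMap.compAlternatingMap_apply, LinearMap.comp_apply, Submodule.subtype_apply,
      exteriorPower.map_apply_ιMulti, exteriorPower.ιMulti_apply_coe, AlgHom.toLinearMap_apply,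
      ExteriorAlgebra.map_apply_ιMulti]
  exact LinearMap.congr_fun this z

variable (n k : ℕ)

/-- the `k`-fold product in the exterior algebra -/
noncomputable def prodE (v : Fin k → (N₁ →ₗ[A] N)) :
    MultilinearMap A (fun _ : Fin k => ⋀[A]^n N₁) (ExteriorAlgebra A N) :=
  (MultilinearMap.mkPiAlgebraFin A k (ExteriorAlgebra A N)).compLinearMap
    (fun j => (⋀[A]^n N).subtype ∘ₗ exteriorPower.map n (v j))

theorem prodE_apply (v : Fin k → (N₁ →ₗ[A] N)) (ω : Fin k → ⋀[A]^n N₁) :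
    prodE n k v ω = (List.ofFn fun j =>
      ((exteriorPower.map n (v j) (ω j) : ⋀[A]^n N) : ExteriorAlgebra A N)).prod := rfl

theorem prodE_mem (v : Fin k → (N₁ →ₗ[A] N)) (ω : Fin k → ⋀[A]^n N₁) :
    prodE n k v ω ∈ ⋀[A]^(n * k) N := by
  rw [prodE_apply]
  have h := SetLike.list_prod_ofFn_mem_graded (A := fun i : ℕ => ⋀[A]^i N) (fun _ : Fin k => n)
    (fun j => ((exteriorPower.map n (v j) (ω j) : ⋀[A]^n N) : ExteriorAlgebra A N))
    (fun j => Submodule.coe_mem _)
  rw [List.ofFn_const, List.sum_replicate, smul_eq_mul, mul_comm] at h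
  exact h

/-- the `k`-fold product, landing in the exterior power of degree `n * k` -/
noncomputable def prodP (v : Fin k → (N₁ →ₗ[A] N)) :
    MultilinearMap A (fun _ : Fin k => ⋀[A]^n N₁) (⋀[A]^(n * k) N) :=
  (prodE n k v).codRestrict (⋀[A]^(n * k) N) (prodE_mem n k v)

theorem prodP_coe (v : Fin k → (N₁ →ₗ[A] N)) (ω : Fin k → ⋀[A]^n N₁) :
    ((prodP n k v ω : ⋀[A]^(n * k) N) : ExteriorAlgebra A N) = (List.ofFn fun j =>
      ((exteriorPower.map n (v j) (ω j) : ⋀[A]^n N) : ExteriorAlgebra A N)).prod := rfl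

theorem prodP_post (v : Fin k → (N₁ →ₗ[A] N)) (w : N →ₗ[A] N') (ω : Fin k → ⋀[A]^n N₁) :
    exteriorPower.map (n * k) w (prodP n k v ω) = prodP n k (fun j => w ∘ₗ v j) ω := by
  apply Subtype.ext
  rw [ep_map_coe, prodP_coe, prodP_coe, map_list_prod, List.map_ofFn]
  congr 2
  funext j
  show ExteriorAlgebra.map w _ = _
  rw [← ep_map_coe, ← LinearMap.comp_apply, ← exteriorPower.map_comp]

theorem prodP_pre (v : Fin k → (N₁ →ₗ[A] N)) (a : N₀ →ₗ[A] N₁) (ω : Fin k → ⋀[A]^n N₀) :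
    prodP n k v (fun j => exteriorPower.map n a (ω j)) = prodP n k (fun j => v j ∘ₗ a) ω := by
  apply Subtype.ext
  rw [prodP_coe, prodP_coe]
  congr 2
  funext j
  rw [← LinearMap.comp_apply, ← exteriorPower.map_comp]

end gradedProd

section Jmap

variable {A : Type*} [CommRing A]
  {N₀ N₁ N N' : Type*} [AddCommGroup N₀] [Module A N₀] [AddCommGroup N₁] [Module A N₁]
  [AddCommGroup N] [Module A N] [AddCommGroup N'] [Module A N']

theorem tp_ext {k' : ℕ} {L L' P : Type*} [AddCommGroup L] [Module A L] [AddCommGroup L']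
    [Module A L'] [AddCommGroup P] [Module A P]
    {f g : (TensorPower A k' L) ⊗[A] L' →ₗ[A] P}
    (h : ∀ (ω : Fin k' → L) (ω' : L'),
      f ((PiTensorProduct.tprod A ω) ⊗ₜ[A] ω') = g ((PiTensorProduct.tprod A ω) ⊗ₜ[A] ω')) :
    f = g := by
  apply TensorProduct.ext'
  intro x y
  refine PiTensorProduct.induction_on x ?_ ?_
  · intro r ω
    rw [← TensorProduct.smul_tmul', map_smul, map_smul, h]
  · intro x x' hx hx'
    rw [TensorProduct.add_tmul, map_add, map_add, hx, hx']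

variable (n k' : ℕ)

/-- `ω₁ ⊗ ⋯ ⊗ ω_k ↦ ∏ ⋀^n(v_j) ω_j` -/
noncomputable def Jmap (v : Fin (k' + 1) → (N₁ →ₗ[A] N)) :
    (TensorPower A k' (⋀[A]^n N₁)) ⊗[A] (⋀[A]^n N₁) →ₗ[A] ⋀[A]^(n * (k' + 1)) N :=
  TensorProduct.lift (PiTensorProduct.lift (prodP n (k' + 1) v).curryRight)

theorem Jmap_tprod (v : Fin (k' + 1) → (N₁ →ₗ[A] N)) (ω : Fin k' → ⋀[A]^n N₁)
    (ω' : ⋀[A]^n N₁) :
    Jmap n k' v ((PiTensorProduct.tprod A ω) ⊗ₜ[A] ω') =
      prodP n (k' + 1) v (Fin.snoc (α := fun _ => ⋀[A]^n N₁) ω ω') := by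
  rw [Jmap, TensorProduct.lift.tmul, PiTensorProduct.lift.tprod, MultilinearMap.curryRight_apply]

theorem snoc_map {X Y : Type*} (F : X → Y) (ω : Fin k' → X) (ω' : X) :
    (Fin.snoc (α := fun _ => Y) (fun i => F (ω i)) (F ω') : Fin (k' + 1) → Y) =
      fun j => F ((Fin.snoc (α := fun _ => X) ω ω' : Fin (k' + 1) → X) j) := by
  funext j
  refine Fin.lastCases ?_ (fun i => ?_) j
  · simp
  · simp

theorem Jmap_post (v : Fin (k' + 1) → (N₁ →ₗ[A] N)) (w : N →ₗ[A] N') :
    exteriorPower.map (n * (k' + 1)) w ∘ₗ Jmap n k' v = Jmap n k' (fun j => w ∘ₗ v j) := by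
  apply tp_ext
  intro ω ω'
  rw [LinearMap.comp_apply, Jmap_tprod, Jmap_tprod, prodP_post]

theorem Jmap_pre (v : Fin (k' + 1) → (N₁ →ₗ[A] N)) (a : N₀ →ₗ[A] N₁) :
    Jmap n k' v ∘ₗ TensorProduct.map
      (PiTensorProduct.map (fun _ : Fin k' => exteriorPower.map n a)) (exteriorPower.map n a) =
      Jmap n k' (fun j => v j ∘ₗ a) := by
  apply tp_ext
  intro ω ω'
  rw [LinearMap.comp_apply, TensorProduct.map_tmul, PiTensorProduct.map_tprod, Jmap_tprod,
    Jmap_tprod, snoc_map k' (exteriorPower.map n a) ω ω', prodP_pre]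

end Jmap

section free

variable {A : Type*} [CommRing A]

/-- `(j, a) ↦ n * j + a` -/
def blockEquiv (n k : ℕ) : Fin k × Fin n ≃ Fin (n * k) :=
  finProdFinEquiv.trans (finCongr (mul_comm k n))

theorem blockEquiv_val (n k : ℕ) (j : Fin k) (a : Fin n) :
    ((blockEquiv n k (j, a) : Fin (n * k)) : ℕ) = n * j + a := by
  simp [blockEquiv, add_comm]

/-- the standard basis of `Fin k → Fin n → A`, indexed by `Fin (n * k)` -/
noncomputable def blockBasis (n k : ℕ) : Module.Basis (Fin (n * k)) A (Fin k → Fin n → A) :=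
  ((Pi.basisFun A (Fin k × Fin n)).map (LinearEquiv.curry A A (Fin k) (Fin n))).reindex
    (blockEquiv n k)

theorem blockBasis_apply (n k : ℕ) (j : Fin k) (a : Fin n) :
    blockBasis (A := A) n k (blockEquiv n k (j, a)) = Pi.single j (Pi.single a 1) := by
  classical
  rw [blockBasis, Module.Basis.reindex_apply, Equiv.symm_apply_apply, Module.Basis.map_apply,
    Pi.basisFun_apply]
  funext j' a'
  show (Pi.single (j, a) (1 : A) : Fin k × Fin n → A) (j', a') = _
  by_cases hj : j' = j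
  · subst hj
    by_cases ha : a' = a
    · subst ha; simp
    · simp [ha, Pi.single_apply, Prod.ext_iff]
  · simp [hj, Pi.single_apply, Prod.ext_iff]

variable (n k' : ℕ)

theorem Jmap_free_gen :
    Jmap n k' (fun j => LinearMap.single A (fun _ : Fin (k' + 1) => Fin n → A) j)
      ((PiTensorProduct.tprod A fun _ : Fin k' =>
        exteriorPower.ιMulti A n (Pi.basisFun A (Fin n))) ⊗ₜ[A]
        exteriorPower.ιMulti A n (Pi.basisFun A (Fin n))) =
    exteriorPower.ιMulti A (n * (k' + 1)) (blockBasis (A := A) n (k' + 1)) := by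
  classical
  rw [Jmap_tprod]
  apply Subtype.ext
  rw [prodP_coe, exteriorPower.ιMulti_apply_coe, ExteriorAlgebra.ιMulti_apply, List.ofFn_mul',
    List.prod_flatten, List.map_ofFn]
  congr 2
  funext j
  have hs : (Fin.snoc (α := fun _ => ⋀[A]^n (Fin n → A))
      (fun _ : Fin k' => exteriorPower.ιMulti A n (Pi.basisFun A (Fin n)))
      (exteriorPower.ιMulti A n (Pi.basisFun A (Fin n))) : Fin (k' + 1) → _) j =
      exteriorPower.ιMulti A n (Pi.basisFun A (Fin n)) := by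
    refine Fin.lastCases ?_ (fun i => ?_) j <;> simp
  rw [hs, exteriorPower.map_apply_ιMulti, exteriorPower.ιMulti_apply_coe,
    ExteriorAlgebra.ιMulti_apply]
  simp only [Function.comp_apply]
  congr 2
  funext a
  congr 1
  have hidx : (⟨n * (j : ℕ) + (a : ℕ), by
      have := (blockEquiv n (k' + 1) (j, a)).2
      rwa [blockEquiv_val] at this⟩ : Fin (n * (k' + 1))) = blockEquiv n (k' + 1) (j, a) :=
    Fin.ext (blockEquiv_val n (k' + 1) j a).symm
  rw [hidx, blockBasis_apply]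
  simp [Pi.basisFun_apply]

theorem tprod_cyclic {L : Type*} [AddCommGroup L] [Module A L] (ε : L)
    (hε : ∀ x : L, ∃ a : A, x = a • ε) (t : TensorPower A k' L) :
    ∃ a : A, t = a • PiTensorProduct.tprod A (fun _ : Fin k' => ε) := by
  refine PiTensorProduct.induction_on t ?_ ?_
  · intro r f
    choose c hc using fun i => hε (f i)
    refine ⟨r * ∏ i, c i, ?_⟩
    have : f = fun i => c i • ε := funext hc
    rw [this, MultilinearMap.map_smul_univ, smul_smul]
  · rintro x y ⟨a, rfl⟩ ⟨b, rfl⟩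
    exact ⟨a + b, (add_smul _ _ _).symm⟩

theorem tmul_cyclic {L L' : Type*} [AddCommGroup L] [Module A L] [AddCommGroup L'] [Module A L']
    (ε : L) (hε : ∀ x : L, ∃ a : A, x = a • ε) (ε' : L') (hε' : ∀ x : L', ∃ a : A, x = a • ε')
    (x : (TensorPower A k' L) ⊗[A] L') :
    ∃ a : A, x = a • ((PiTensorProduct.tprod A fun _ : Fin k' => ε) ⊗ₜ[A] ε') := by
  induction x using TensorProduct.induction_on with
  | zero => exact ⟨0, (zero_smul _ _).symm⟩
  | tmul t y =>
    obtain ⟨a, rfl⟩ := tprod_cyclic k' ε hε t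
    obtain ⟨b, rfl⟩ := hε' y
    exact ⟨a * b, by rw [TensorProduct.smul_tmul_smul]⟩
  | add x y hx hy =>
    obtain ⟨a, rfl⟩ := hx
    obtain ⟨b, rfl⟩ := hy
    exact ⟨a + b, (add_smul _ _ _).symm⟩

theorem exists_Jfree_inverse :
    ∃ K : ⋀[A]^(n * (k' + 1)) (Fin (k' + 1) → Fin n → A) →ₗ[A]
        (TensorPower A k' (⋀[A]^n (Fin n → A))) ⊗[A] (⋀[A]^n (Fin n → A)),
      K ∘ₗ Jmap n k' (fun j => LinearMap.single A (fun _ : Fin (k' + 1) => Fin n → A) j) =
        LinearMap.id ∧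
      Jmap n k' (fun j => LinearMap.single A (fun _ : Fin (k' + 1) => Fin n → A) j) ∘ₗ K =
        LinearMap.id := by
  classical
  have hJξ := Jmap_free_gen (A := A) n k'
  have hε : ∀ x : ⋀[A]^n (Fin n → A), ∃ a : A,
      x = a • exteriorPower.ιMulti A n (Pi.basisFun A (Fin n)) :=
    fun x => ⟨_, ep_top_cyclic (Pi.basisFun A (Fin n)) x⟩
  refine ⟨(topCoord (blockBasis (A := A) n (k' + 1))).smulRight
    ((PiTensorProduct.tprod A fun _ : Fin k' =>
        exteriorPower.ιMulti A n (Pi.basisFun A (Fin n))) ⊗ₜ[A]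
        exteriorPower.ιMulti A n (Pi.basisFun A (Fin n))), ?_, ?_⟩
  · refine LinearMap.ext fun x => ?_
    obtain ⟨a, rfl⟩ := tmul_cyclic k' _ hε _ hε x
    simp only [LinearMap.comp_apply, map_smul, LinearMap.smulRight_apply, LinearMap.id_apply]
    rw [hJξ, topCoord_self, one_smul]
  · refine LinearMap.ext fun z => ?_
    simp only [LinearMap.comp_apply, LinearMap.smulRight_apply, map_smul, LinearMap.id_apply]
    rw [hJξ]
    exact (ep_top_cyclic _ z).symm

theorem pi_map_smul_id {L : Type*} [AddCommGroup L] [Module A L] (c : A) :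
    PiTensorProduct.map (fun _ : Fin k' => c • (LinearMap.id : L →ₗ[A] L)) =
      c ^ k' • LinearMap.id := by
  apply PiTensorProduct.ext
  apply MultilinearMap.ext
  intro ω
  simp only [LinearMap.compMultilinearMap_apply, PiTensorProduct.map_tprod, LinearMap.smul_apply,
    LinearMap.id_apply]
  rw [MultilinearMap.map_smul_univ]
  simp [Finset.prod_const]

theorem exists_J_local_inverse {B : Type*} [AddCommGroup B] [Module A B] (g₀ : A)
    (σ : B →ₗ[A] (Fin n → A)) (φ : (Fin n → A) →ₗ[A] B)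
    (hφσ : φ ∘ₗ σ = g₀ • LinearMap.id) (hσφ : σ ∘ₗ φ = g₀ • LinearMap.id) :
    ∃ K : ⋀[A]^(n * (k' + 1)) (Fin (k' + 1) → B) →ₗ[A]
        (TensorPower A k' (⋀[A]^n B)) ⊗[A] (⋀[A]^n B),
      K ∘ₗ Jmap n k' (fun j => LinearMap.single A (fun _ : Fin (k' + 1) => B) j) =
        g₀ ^ (n * (k' + 1)) • LinearMap.id ∧
      Jmap n k' (fun j => LinearMap.single A (fun _ : Fin (k' + 1) => B) j) ∘ₗ K =
        g₀ ^ (n * (k' + 1)) • LinearMap.id := by
  classical
  obtain ⟨K₀, hK1, hK2⟩ := exists_Jfree_inverse (A := A) n k'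
  set JB := Jmap n k' (fun j => LinearMap.single A (fun _ : Fin (k' + 1) => B) j) with hJB
  set JF := Jmap n k' (fun j => LinearMap.single A (fun _ : Fin (k' + 1) => Fin n → A) j)
    with hJF
  set TPσ := TensorProduct.map
    (PiTensorProduct.map (fun _ : Fin k' => exteriorPower.map n σ)) (exteriorPower.map n σ)
    with hTPσ
  set TPφ := TensorProduct.map
    (PiTensorProduct.map (fun _ : Fin k' => exteriorPower.map n φ)) (exteriorPower.map n φ)
    with hTPφ
  have hsσ : ∀ j : Fin (k' + 1), σ.compLeft (Fin (k' + 1)) ∘ₗ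
      LinearMap.single A (fun _ : Fin (k' + 1) => B) j =
      LinearMap.single A (fun _ : Fin (k' + 1) => Fin n → A) j ∘ₗ σ := by
    intro j
    refine LinearMap.ext fun x => ?_
    funext i
    show σ ((Pi.single j x : Fin (k' + 1) → B) i) = (Pi.single j (σ x) : Fin (k' + 1) → _) i
    exact Pi.apply_single (fun _ => σ) (fun _ => map_zero σ) j x i
  have hsφ : ∀ j : Fin (k' + 1), φ.compLeft (Fin (k' + 1)) ∘ₗ
      LinearMap.single A (fun _ : Fin (k' + 1) => Fin n → A) j =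
      LinearMap.single A (fun _ : Fin (k' + 1) => B) j ∘ₗ φ := by
    intro j
    refine LinearMap.ext fun x => ?_
    funext i
    show φ ((Pi.single j x : Fin (k' + 1) → _) i) = (Pi.single j (φ x) : Fin (k' + 1) → B) i
    exact Pi.apply_single (fun _ => φ) (fun _ => map_zero φ) j x i
  have nat1 : exteriorPower.map (n * (k' + 1)) (σ.compLeft (Fin (k' + 1))) ∘ₗ JB = JF ∘ₗ TPσ := by
    rw [hJB, hJF, hTPσ, Jmap_post, Jmap_pre]
    congr 1
    funext j
    exact hsσ j
  have nat2 : exteriorPower.map (n * (k' + 1)) (φ.compLeft (Fin (k' + 1))) ∘ₗ JF = JB ∘ₗ TPφ := by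
    rw [hJB, hJF, hTPφ, Jmap_post, Jmap_pre]
    congr 1
    funext j
    exact hsφ j
  have hφσn : exteriorPower.map n φ ∘ₗ exteriorPower.map n σ = g₀ ^ n • LinearMap.id := by
    rw [← exteriorPower.map_comp, hφσ, ep_map_smul_id]
  have hTP : TPφ ∘ₗ TPσ = g₀ ^ (n * (k' + 1)) • LinearMap.id := by
    rw [hTPφ, hTPσ, ← TensorProduct.map_comp, ← PiTensorProduct.map_comp, hφσn, pi_map_smul_id,
      TensorProduct.map_smul_left, TensorProduct.map_smul_right, TensorProduct.map_id, smul_smul]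
    congr 1
    ring
  have hcomp : φ.compLeft (Fin (k' + 1)) ∘ₗ σ.compLeft (Fin (k' + 1)) = g₀ • LinearMap.id := by
    refine LinearMap.ext fun x => ?_
    funext i
    show φ (σ (x i)) = g₀ • x i
    exact LinearMap.congr_fun hφσ (x i)
  refine ⟨TPφ ∘ₗ K₀ ∘ₗ exteriorPower.map (n * (k' + 1)) (σ.compLeft (Fin (k' + 1))), ?_, ?_⟩
  · calc (TPφ ∘ₗ K₀ ∘ₗ exteriorPower.map (n * (k' + 1)) (σ.compLeft (Fin (k' + 1)))) ∘ₗ JB
        = TPφ ∘ₗ K₀ ∘ₗ (exteriorPower.map (n * (k' + 1)) (σ.compLeft (Fin (k' + 1))) ∘ₗ JB) := by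
          simp only [LinearMap.comp_assoc]
      _ = TPφ ∘ₗ (K₀ ∘ₗ JF) ∘ₗ TPσ := by rw [nat1]; simp only [LinearMap.comp_assoc]
      _ = g₀ ^ (n * (k' + 1)) • LinearMap.id := by rw [hK1, LinearMap.id_comp, hTP]
  · calc JB ∘ₗ (TPφ ∘ₗ K₀ ∘ₗ exteriorPower.map (n * (k' + 1)) (σ.compLeft (Fin (k' + 1))))
        = (JB ∘ₗ TPφ) ∘ₗ K₀ ∘ₗ exteriorPower.map (n * (k' + 1)) (σ.compLeft (Fin (k' + 1))) := by
          simp only [LinearMap.comp_assoc]
      _ = exteriorPower.map (n * (k' + 1)) (φ.compLeft (Fin (k' + 1))) ∘ₗ (JF ∘ₗ K₀) ∘ₗ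
            exteriorPower.map (n * (k' + 1)) (σ.compLeft (Fin (k' + 1))) := by
          rw [← nat2]; simp only [LinearMap.comp_assoc]
      _ = g₀ ^ (n * (k' + 1)) • LinearMap.id := by
          rw [hK2, LinearMap.id_comp, ← exteriorPower.map_comp, hcomp, ep_map_smul_id]

end free

end Groth.Agent.Lib.Helper96.NormLocal
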