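import Mathlib

/-!
# Local tools for norms of invertible modules along a finite locally free algebra

* `exists_local_gen`: a rank one projective module over a finite `A`-algebra `B` is generated,
  over a neighbourhood of the fibre of a prime of `A`, by one element (fraction-free form).
* `exists_local_frame`: a finite projective module of rank `n` at a prime is, up to an element
  outside the prime, a retract of `Fin n → A`.
* `eq_zero_of_local`, `mem_of_local`: local-to-global principles.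
* `ep_map_smul`, `L1`: calculus of exterior powers.
-/

set_option autoImplicit false
open scoped TensorProduct
universe u

namespace Groth.Agent.Lib.Helper96.NormLocal

section semilocal

/-- A finite algebra over a local ring is semilocal. -/
theorem finite_maximalSpectrum_of_finite_local (R : Type*) [CommRing R] [IsLocalRing R]
    (S : Type*) [CommRing S] [Algebra R S] [Module.Finite R S] : Finite (MaximalSpectrum S) := by
  have hfin : ((IsLocalRing.maximalIdeal R).primesOver S).Finite :=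
    Algebra.QuasiFinite.finite_primesOver _
  have : Finite ((IsLocalRing.maximalIdeal R).primesOver S) := hfin.to_subtype
  refine Finite.of_injective (fun m : MaximalSpectrum S =>
    (⟨m.asIdeal, m.isMaximal.isPrime,
      ⟨(IsLocalRing.eq_maximalIdeal
        (Ideal.isMaximal_comap_of_isIntegral_of_isMaximal m.asIdeal)).symm⟩⟩ :
      (IsLocalRing.maximalIdeal R).primesOver S)) ?_
  intro m m' h
  exact MaximalSpectrum.ext (congrArg Subtype.val h)

/-- a finite projective module of constant rank over a semilocal ring is free -/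
theorem basis_of_rankAtStalk_const (R' : Type*) [CommRing R'] [Finite (MaximalSpectrum R')]
    (M' : Type*) [AddCommGroup M'] [Module R' M'] [Module.Finite R' M'] [Module.Projective R' M']
    (d : ℕ) (h : ∀ p : PrimeSpectrum R', Module.rankAtStalk M' p = d) :
    Nonempty (Module.Basis (Fin d) R' M') := by
  refine Module.nonempty_basis_of_flat_of_finrank_eq R' M' d fun P => ?_
  have hPm : P.asIdeal.IsMaximal := P.isMaximal
  let _ : Field (R' ⧸ P.asIdeal) := Ideal.Quotient.field _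
  let κ := P.asIdeal.ResidueField
  have h1 := Module.rankAtStalk_eq (M := M') ⟨P.asIdeal, hPm.isPrime⟩
  rw [h] at h1
  let e : κ ⊗[R' ⧸ P.asIdeal] ((R' ⧸ P.asIdeal) ⊗[R'] M') ≃ₗ[κ] κ ⊗[R'] M' :=
    TensorProduct.AlgebraTensorModule.cancelBaseChange R' (R' ⧸ P.asIdeal) κ κ M'
  rw [← Module.finrank_baseChange (R := κ) (S := R' ⧸ P.asIdeal), e.finrank_eq]
  exact h1.symm

theorem exists_local_gen (A B : Type u) [CommRing A] [CommRing B] [Algebra A B] [Module.Finite A B]
    (M : Type u) [AddCommGroup M] [Module B M] [Module.Finite B M] [Module.Projective B M]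
    (h : ∀ q : PrimeSpectrum B, Module.rankAtStalk M q = 1) (𝔭 : Ideal A) [𝔭.IsPrime] :
    ∃ (f : A) (e : M) (s : M →ₗ[B] B), f ∉ 𝔭 ∧ s e = algebraMap A B f ∧
      ∀ m, s m • e = algebraMap A B f • m := by
  classical
  let S : Submonoid B := Algebra.algebraMapSubmonoid B 𝔭.primeCompl
  let B' := Localization S
  have : Module.Finite (Localization.AtPrime 𝔭) B' :=
    Module.Finite.of_isLocalization A B 𝔭.primeCompl
  have : Finite (MaximalSpectrum B') :=
    finite_maximalSpectrum_of_finite_local (Localization.AtPrime 𝔭) B'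
  have hrk : ∀ p : PrimeSpectrum B', Module.rankAtStalk (B' ⊗[B] M) p = 1 := fun p => by
    rw [Module.rankAtStalk_baseChange]; exact h _
  obtain ⟨b⟩ := basis_of_rankAtStalk_const B' (B' ⊗[B] M) 1 hrk
  let θ : (B' ⊗[B] M) ≃ₗ[B'] B' := b.equivFun ≪≫ₗ LinearEquiv.funUnique (Fin 1) B' B'
  have : Module.FinitePresentation B M := Module.finitePresentation_of_projective B M
  let mk : M →ₗ[B] B' ⊗[B] M := TensorProduct.mk B B' M 1
  let ε : B' ⊗[B] M := θ.symm 1
  obtain ⟨⟨e₁, u₁⟩, hu₁⟩ := IsLocalizedModule.surj S mk ε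
  let σ : M →ₗ[B] B' := (θ.toLinearMap.restrictScalars B) ∘ₗ mk
  obtain ⟨s₁, u, hs₁⟩ :=
    Module.FinitePresentation.exists_lift_of_isLocalizedModule S (Algebra.linearMap B B') σ
  have hs₁' : ∀ m, algebraMap B B' (s₁ m) = algebraMap B B' u * θ (mk m) := by
    intro m
    have := LinearMap.congr_fun hs₁ m
    simpa [σ, Submonoid.smul_def, Algebra.smul_def] using this
  have hθe : θ (mk e₁) = algebraMap B B' u₁ := by
    have h2 : mk e₁ = algebraMap B B' (u₁ : B) • ε := by
      rw [algebraMap_smul]; exact hu₁.symm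
    rw [h2, map_smul]
    simp [ε]
  have h1 : algebraMap B B' (s₁ e₁) = algebraMap B B' (u * u₁) := by
    rw [hs₁', hθe, map_mul]
  obtain ⟨v, hv⟩ := (IsLocalization.eq_iff_exists S B').1 h1
  let s₂ : M →ₗ[B] B := (v : B) • s₁
  let w₂ : B := (v : B) * (u * u₁)
  have hs₂e : s₂ e₁ = w₂ := by simpa [s₂, w₂] using hv
  let g₁ : M →ₗ[B] M := (LinearMap.toSpanSingleton B M e₁) ∘ₗ s₂
  let g₂ : M →ₗ[B] M := w₂ • LinearMap.id
  have hg : mk ∘ₗ g₁ = mk ∘ₗ g₂ := by
    ext m
    apply θ.injective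
    have e1 : mk (g₁ m) = algebraMap B B' (s₂ m) • mk e₁ := by
      rw [algebraMap_smul, ← map_smul]; rfl
    have e2 : mk (g₂ m) = algebraMap B B' w₂ • mk m := by
      rw [algebraMap_smul, ← map_smul]; rfl
    show θ (mk (g₁ m)) = θ (mk (g₂ m))
    rw [e1, e2, map_smul, map_smul, hθe, smul_eq_mul, smul_eq_mul]
    have h3 : algebraMap B B' (s₂ m) = algebraMap B B' v * algebraMap B B' (s₁ m) := by
      simp [s₂]
    rw [h3, hs₁']
    simp only [w₂, map_mul]
    ring
  obtain ⟨v', hv'⟩ := Module.Finite.exists_smul_of_comp_eq_of_isLocalizedModule S mk g₁ g₂ hg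
  have hwS : (v' : B) * w₂ ∈ S := S.mul_mem v'.2 (S.mul_mem v.2 (S.mul_mem u.2 u₁.2))
  obtain ⟨f, hf, hfw⟩ := hwS
  refine ⟨f, e₁, (v' : B) • s₂, hf, ?_, ?_⟩
  · rw [hfw]; simp [hs₂e]
  · intro m
    have h4 : (v' : B) • (s₂ m • e₁) = (v' : B) • (w₂ • m) := LinearMap.congr_fun hv' m
    rw [hfw, LinearMap.smul_apply, smul_eq_mul, mul_smul, h4]
    show (v' : B) • ((v : B) * ((u : B) * (u₁ : B))) • m =
      ((v' : B) * ((v : B) * ((u : B) * (u₁ : B)))) • m
    simp only [mul_smul]

end semilocal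

section frame

theorem exists_local_frame (A B : Type u) [CommRing A] [AddCommGroup B] [Module A B]
    [Module.Finite A B] [Module.Projective A B] (n : ℕ) (𝔭 : Ideal A) [𝔭.IsPrime]
    (hn : Module.finrank (Localization.AtPrime 𝔭) (LocalizedModule 𝔭.primeCompl B) = n) :
    ∃ (g : A) (σ : B →ₗ[A] (Fin n → A)) (φ : (Fin n → A) →ₗ[A] B),
      g ∉ 𝔭 ∧ φ ∘ₗ σ = g • LinearMap.id := by
  classical
  let S := 𝔭.primeCompl
  let A' := Localization.AtPrime 𝔭
  let B' := LocalizedModule S B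
  have : Module.Free A' B' := Module.free_of_flat_of_isLocalRing
  let b : Module.Basis (Fin n) A' B' := Module.finBasisOfFinrankEq A' B' hn
  let θ : B' ≃ₗ[A'] (Fin n → A') := b.equivFun
  let mkB : B →ₗ[A] B' := LocalizedModule.mkLinearMap S B
  let locF : (Fin n → A) →ₗ[A] (Fin n → A') :=
    LinearMap.pi fun i ↦ (Algebra.linearMap A A') ∘ₗ LinearMap.proj i
  have : Module.FinitePresentation A B := Module.finitePresentation_of_projective A B
  let g₀ : B →ₗ[A] (Fin n → A') := (θ.toLinearMap.restrictScalars A) ∘ₗ mkB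
  obtain ⟨σ₀, u, hσ₀⟩ := Module.FinitePresentation.exists_lift_of_isLocalizedModule S locF g₀
  let g₁ : (Fin n → A) →ₗ[A] B' := (θ.symm.toLinearMap.restrictScalars A) ∘ₗ locF
  obtain ⟨φ₀, u', hφ₀⟩ := Module.FinitePresentation.exists_lift_of_isLocalizedModule S mkB g₁
  have hcomp : mkB ∘ₗ (φ₀ ∘ₗ σ₀) = mkB ∘ₗ (((u' : A) * (u : A)) • LinearMap.id) := by
    ext x
    have h1 : mkB (φ₀ (σ₀ x)) = u' • g₁ (σ₀ x) := LinearMap.congr_fun hφ₀ (σ₀ x)
    have h2 : locF (σ₀ x) = u • g₀ x := LinearMap.congr_fun hσ₀ x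
    show mkB (φ₀ (σ₀ x)) = mkB (((u' : A) * (u : A)) • x)
    rw [h1]
    show u' • θ.symm (locF (σ₀ x)) = _
    rw [h2]
    show u' • θ.symm (u • θ (mkB x)) = _
    rw [Submonoid.smul_def, Submonoid.smul_def, ← algebraMap_smul A' (u : A) (θ (mkB x)),
      map_smul, θ.symm_apply_apply, algebraMap_smul, map_smul, mul_smul]
  obtain ⟨v, hv⟩ := Module.Finite.exists_smul_of_comp_eq_of_isLocalizedModule S mkB _ _ hcomp
  refine ⟨(v : A) * ((u' : A) * (u : A)), σ₀, (v : A) • φ₀, ?_, ?_⟩
  · exact S.mul_mem v.2 (S.mul_mem u'.2 u.2)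
  · rw [LinearMap.smul_comp, mul_smul]
    exact hv

theorem ext_cyclic (A : Type u) [CommRing A] (n : ℕ) :
    ∃ ω₀ : ⋀[A]^n (Fin n → A), ∀ ω : ⋀[A]^n (Fin n → A), ∃ a : A, ω = a • ω₀ := by
  classical
  let v : Fin n → (Fin n → A) := fun i => Pi.basisFun A (Fin n) i
  have hv : Submodule.span A (Set.range v) = ⊤ := (Pi.basisFun A (Fin n)).span_eq
  have hspan := exteriorPower.ιMulti_family_span_of_span A (n := n) hv
  let s₀ : Set.powersetCard (Fin n) n := ⟨Finset.univ, by simp [Set.powersetCard.mem_iff]⟩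
  have hs : ∀ s : Set.powersetCard (Fin n) n, s = s₀ := by
    intro s
    apply Subtype.ext
    exact Finset.eq_univ_of_card _ (by simpa using s.2)
  refine ⟨exteriorPower.ιMulti_family A n v s₀, fun ω => ?_⟩
  have hω : ω ∈ Submodule.span A (Set.range (exteriorPower.ιMulti_family A n v)) := by
    rw [hspan]; trivial
  have hrange : Set.range (exteriorPower.ιMulti_family A n v) =
      {exteriorPower.ιMulti_family A n v s₀} := by
    ext x
    constructor
    · rintro ⟨s, rfl⟩; rw [hs s]; rfl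
    · rintro rfl; exact ⟨s₀, rfl⟩
  rw [hrange, Submodule.mem_span_singleton] at hω
  obtain ⟨a, ha⟩ := hω
  exact ⟨a, ha.symm⟩

theorem eq_zero_of_local {A : Type*} [CommRing A] {X : Type*} [AddCommGroup X] [Module A X] (x : X)
    (h : ∀ (𝔭 : Ideal A) [𝔭.IsPrime], ∃ f : A, f ∉ 𝔭 ∧ f • x = 0) : x = 0 := by
  by_contra hx
  let I : Ideal A := LinearMap.ker (LinearMap.toSpanSingleton A X x)
  have hI : I ≠ ⊤ := by
    intro h1
    apply hx
    have h2 : (1 : A) ∈ I := h1 ▸ Submodule.mem_top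
    simpa [I] using h2
  obtain ⟨𝔪, h𝔪, hle⟩ := Ideal.exists_le_maximal I hI
  have := h𝔪.isPrime
  obtain ⟨f, hf, hfx⟩ := h 𝔪
  exact hf (hle (by simpa [I] using hfx))

end frame

theorem mem_of_local {A : Type*} [CommRing A] {X : Type*} [AddCommGroup X] [Module A X]
    (N : Submodule A X) (x : X)
    (h : ∀ (𝔭 : Ideal A) [𝔭.IsPrime], ∃ f : A, f ∉ 𝔭 ∧ f • x ∈ N) : x ∈ N := by
  refine (Submodule.Quotient.mk_eq_zero N).1 ?_
  apply eq_zero_of_local (A := A)
  intro 𝔭 _
  obtain ⟨f, hf, hfx⟩ := h 𝔭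
  refine ⟨f, hf, ?_⟩
  rw [← Submodule.Quotient.mk_smul, Submodule.Quotient.mk_eq_zero]
  exact hfx

theorem eq_of_local' {A : Type*} [CommRing A] {X : Type*} [AddCommGroup X] [Module A X] (x y : X)
    (h : ∀ (𝔭 : Ideal A) [𝔭.IsPrime], ∃ f : A, f ∉ 𝔭 ∧ f • x = f • y) : x = y := by
  rw [← sub_eq_zero]
  refine eq_zero_of_local (A := A) (x - y) ?_
  intro 𝔭 _
  obtain ⟨f, hf, hxy⟩ := h 𝔭
  exact ⟨f, hf, by rw [smul_sub, hxy, sub_self]⟩

theorem nonempty_equiv_of_presentations {A D P Q : Type*} [CommSemiring A]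
    [AddCommMonoid D] [Module A D] [AddCommMonoid P] [Module A P] [AddCommMonoid Q] [Module A Q]
    (Θ : D →ₗ[A] P) (Θ' : D →ₗ[A] Q) (h : Function.Surjective Θ) (h' : Function.Surjective Θ')
    (heq : ∀ d d', Θ d = Θ d' ↔ Θ' d = Θ' d') : Nonempty (Q ≃ₗ[A] P) := by
  have hs : ∀ p, Θ (Function.surjInv h p) = p := Function.surjInv_eq h
  have hs' : ∀ q, Θ' (Function.surjInv h' q) = q := Function.surjInv_eq h'
  refine ⟨{ toFun := fun q => Θ (Function.surjInv h' q)
            invFun := fun p => Θ' (Function.surjInv h p)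
            map_add' := ?_
            map_smul' := ?_
            left_inv := ?_
            right_inv := ?_ }⟩
  · intro q q'
    rw [← map_add]
    apply (heq _ _).2
    rw [map_add, hs', hs', hs']
  · intro a q
    rw [RingHom.id_apply, ← map_smul]
    apply (heq _ _).2
    rw [map_smul, hs', hs']
  · intro q
    have : Θ' (Function.surjInv h (Θ (Function.surjInv h' q))) = Θ' (Function.surjInv h' q) :=
      (heq _ _).1 (hs _)
    show Θ' (Function.surjInv h (Θ (Function.surjInv h' q))) = q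
    rw [this, hs']
  · intro p
    have : Θ (Function.surjInv h' (Θ' (Function.surjInv h p))) = Θ (Function.surjInv h p) :=
      (heq _ _).2 (hs' _)
    show Θ (Function.surjInv h' (Θ' (Function.surjInv h p))) = p
    rw [this, hs]

section calcs
variable {A : Type u} [CommRing A]

theorem ep_map_smul {M N : Type*} [AddCommGroup M] [Module A M] [AddCommGroup N] [Module A N]
    (n : ℕ) (f : A) (u : M →ₗ[A] N) :
    exteriorPower.map n (f • u) = f ^ n • exteriorPower.map n u := by
  apply exteriorPower.linearMap_ext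
  ext m
  have h1 : (⇑(f • u) ∘ m) = fun i => (fun _ : Fin n => f) i • (⇑u ∘ m) i := by
    funext i; simp
  have h2 := (exteriorPower.ιMulti A n (M := N)).map_smul_univ (fun _ => f) (⇑u ∘ m)
  simp only [LinearMap.compAlternatingMap_apply, exteriorPower.map_apply_ιMulti,
    LinearMap.smul_apply]
  rw [h1, h2]
  simp

theorem ep_map_smul_id {M : Type*} [AddCommGroup M] [Module A M]
    (n : ℕ) (f : A) :
    exteriorPower.map n (f • (LinearMap.id : M →ₗ[A] M)) = f ^ n • LinearMap.id := by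
  rw [ep_map_smul, exteriorPower.map_id]

theorem L1 {B : Type*} [AddCommGroup B] [Module A B] (n : ℕ) (g : A)
    (σ : B →ₗ[A] (Fin n → A)) (φ : (Fin n → A) →ₗ[A] B) (hφσ : φ ∘ₗ σ = g • LinearMap.id)
    (T : ⋀[A]^n B →ₗ[A] ⋀[A]^n B) :
    (g ^ n) ^ 3 • T.rTensor (⋀[A]^n B) = (g ^ n) ^ 3 • T.lTensor (⋀[A]^n B) := by
  obtain ⟨ω₀, hω₀⟩ := ext_cyclic A n
  set Φ := exteriorPower.map n φ with hΦ
  set Sg := exteriorPower.map n σ with hSg
  have hPS : ∀ x, Φ (Sg x) = g ^ n • x := by
    intro x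
    have : Φ ∘ₗ Sg = g ^ n • LinearMap.id := by
      rw [hΦ, hSg, ← exteriorPower.map_comp, hφσ, ep_map_smul, exteriorPower.map_id]
    exact LinearMap.congr_fun this x
  let T' : ⋀[A]^n (Fin n → A) →ₗ[A] ⋀[A]^n (Fin n → A) := Sg ∘ₗ T ∘ₗ Φ
  obtain ⟨a, ha⟩ := hω₀ (T' ω₀)
  have hT' : T' = a • LinearMap.id := by
    refine LinearMap.ext fun ω => ?_
    obtain ⟨c, rfl⟩ := hω₀ ω
    rw [map_smul, ha, LinearMap.smul_apply, LinearMap.id_apply, smul_comm]
  have key : T'.rTensor (⋀[A]^n (Fin n → A)) = T'.lTensor (⋀[A]^n (Fin n → A)) := by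
    rw [hT', LinearMap.rTensor_smul, LinearMap.lTensor_smul, LinearMap.rTensor_id,
      LinearMap.lTensor_id]
  have e1 : TensorProduct.map Φ Φ ∘ₗ T'.rTensor _ ∘ₗ TensorProduct.map Sg Sg =
      (g ^ n) ^ 3 • T.rTensor _ := by
    apply TensorProduct.ext'
    intro x y
    simp only [LinearMap.comp_apply, TensorProduct.map_tmul, LinearMap.rTensor_tmul,
      LinearMap.smul_apply, T', hPS, map_smul, TensorProduct.smul_tmul', TensorProduct.tmul_smul,
      smul_smul]
    rw [show g ^ n * (g ^ n * g ^ n) = (g ^ n) ^ 3 by ring]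
  have e2 : TensorProduct.map Φ Φ ∘ₗ T'.lTensor _ ∘ₗ TensorProduct.map Sg Sg =
      (g ^ n) ^ 3 • T.lTensor _ := by
    apply TensorProduct.ext'
    intro x y
    simp only [LinearMap.comp_apply, TensorProduct.map_tmul, LinearMap.lTensor_tmul,
      LinearMap.smul_apply, T', hPS, map_smul, TensorProduct.smul_tmul', TensorProduct.tmul_smul,
      smul_smul]
    rw [show g ^ n * (g ^ n * g ^ n) = (g ^ n) ^ 3 by ring]
  rw [← e1, ← e2, key]

end calcs

end Groth.Agent.Lib.Helper96.NormLocal
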