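import Groth.Agent.Lib.Helper96.NormLocal

/-!
# Two-sided local trivialisations and top exterior powers

* `exists_two_sided_of_localized_equiv`: an isomorphism between localisations of finitely presented
  modules spreads out to a pair of maps which are mutually inverse up to an element of the
  submonoid.
* `exists_local_frame₂`, `exists_local_basis`: applications.
* `topCoord`, `ep_top_cyclic`, `ep_map_top`: the top exterior power of a free module of rank `r`
  is generated by the wedge of a basis, and `⋀^r T = det T`.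
-/

set_option autoImplicit false
open scoped TensorProduct
universe u

namespace Groth.Agent.Lib.Helper96.NormLocal

section twosided

theorem exists_two_sided_of_localized_equiv {R : Type*} [CommRing R] (S : Submonoid R)
    {P Q P' Q' : Type*} [AddCommGroup P] [Module R P] [AddCommGroup Q] [Module R Q]
    [AddCommGroup P'] [Module R P'] [AddCommGroup Q'] [Module R Q']
    (lP : P →ₗ[R] P') (lQ : Q →ₗ[R] Q') [IsLocalizedModule S lP] [IsLocalizedModule S lQ]
    [Module.FinitePresentation R P] [Module.FinitePresentation R Q]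
    (θ : P' ≃ₗ[R] Q') :
    ∃ (c : S) (u : P →ₗ[R] Q) (s : Q →ₗ[R] P),
      s ∘ₗ u = (c : R) • LinearMap.id ∧ u ∘ₗ s = (c : R) • LinearMap.id := by
  obtain ⟨u₀, v, hu₀⟩ :=
    Module.FinitePresentation.exists_lift_of_isLocalizedModule S lQ (θ.toLinearMap ∘ₗ lP)
  obtain ⟨s₀, v', hs₀⟩ :=
    Module.FinitePresentation.exists_lift_of_isLocalizedModule S lP (θ.symm.toLinearMap ∘ₗ lQ)
  have hu : ∀ x, lQ (u₀ x) = (v : R) • θ (lP x) := fun x => LinearMap.congr_fun hu₀ x
  have hs : ∀ y, lP (s₀ y) = (v' : R) • θ.symm (lQ y) := fun y => LinearMap.congr_fun hs₀ y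
  have h1 : lP ∘ₗ (s₀ ∘ₗ u₀) = lP ∘ₗ (((v' : R) * (v : R)) • LinearMap.id) := by
    refine LinearMap.ext fun x => ?_
    show lP (s₀ (u₀ x)) = lP (((v' : R) * (v : R)) • x)
    rw [hs, hu, map_smul, θ.symm_apply_apply, map_smul, mul_smul]
  have h2 : lQ ∘ₗ (u₀ ∘ₗ s₀) = lQ ∘ₗ (((v : R) * (v' : R)) • LinearMap.id) := by
    refine LinearMap.ext fun y => ?_
    show lQ (u₀ (s₀ y)) = lQ (((v : R) * (v' : R)) • y)
    rw [hu, hs, map_smul, θ.apply_symm_apply, map_smul, mul_smul]
  have : Module.Finite R P := inferInstance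
  have : Module.Finite R Q := inferInstance
  obtain ⟨w, hw⟩ := Module.Finite.exists_smul_of_comp_eq_of_isLocalizedModule S lP _ _ h1
  obtain ⟨w', hw'⟩ := Module.Finite.exists_smul_of_comp_eq_of_isLocalizedModule S lQ _ _ h2
  have hw1 : ∀ x, (w : R) • s₀ (u₀ x) = (w : R) • (((v' : R) * (v : R)) • x) :=
    fun x => LinearMap.congr_fun hw x
  have hw2 : ∀ y, (w' : R) • u₀ (s₀ y) = (w' : R) • (((v : R) * (v' : R)) • y) :=
    fun y => LinearMap.congr_fun hw' y
  refine ⟨w * w' * v * v', ((w : R) * (w' : R)) • u₀, s₀, ?_, ?_⟩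
  · refine LinearMap.ext fun x => ?_
    show s₀ ((((w : R) * (w' : R)) • u₀) x) = ((w * w' * v * v' : S) : R) • x
    rw [LinearMap.smul_apply, map_smul, mul_comm (w : R), mul_smul, hw1]
    simp only [Submonoid.coe_mul, smul_smul]
    congr 1
    ring
  · refine LinearMap.ext fun y => ?_
    show (((w : R) * (w' : R)) • u₀) (s₀ y) = ((w * w' * v * v' : S) : R) • y
    rw [LinearMap.smul_apply, mul_smul, hw2]
    simp only [Submonoid.coe_mul, smul_smul]
    congr 1
    ring

theorem exists_local_frame₂ (A B : Type u) [CommRing A] [AddCommGroup B] [Module A B]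
    [Module.Finite A B] [Module.Projective A B] (n : ℕ) (𝔭 : Ideal A) [𝔭.IsPrime]
    (hn : Module.finrank (Localization.AtPrime 𝔭) (LocalizedModule 𝔭.primeCompl B) = n) :
    ∃ (g : A) (σ : B →ₗ[A] (Fin n → A)) (φ : (Fin n → A) →ₗ[A] B),
      g ∉ 𝔭 ∧ φ ∘ₗ σ = g • LinearMap.id ∧ σ ∘ₗ φ = g • LinearMap.id := by
  classical
  let S := 𝔭.primeCompl
  let A' := Localization.AtPrime 𝔭
  let B' := LocalizedModule S B
  have : Module.Free A' B' := Module.free_of_flat_of_isLocalRing
  let b : Module.Basis (Fin n) A' B' := Module.finBasisOfFinrankEq A' B' hn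
  let mkB : B →ₗ[A] B' := LocalizedModule.mkLinearMap S B
  let locF : (Fin n → A) →ₗ[A] (Fin n → A') :=
    LinearMap.pi fun i ↦ (Algebra.linearMap A A') ∘ₗ LinearMap.proj i
  have : Module.FinitePresentation A B := Module.finitePresentation_of_projective A B
  let θ : (Fin n → A') ≃ₗ[A] B' := b.equivFun.symm.restrictScalars A
  obtain ⟨c, u, s, h1, h2⟩ := exists_two_sided_of_localized_equiv S locF mkB θ
  exact ⟨c, s, u, c.2, h2, h1⟩

theorem exists_local_basis (A B : Type u) [CommRing A] [CommRing B] [Algebra A B]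
    [Module.Finite A B]
    (M : Type u) [AddCommGroup M] [Module B M] [Module.Finite B M] [Module.Projective B M]
    (k : ℕ) (h : ∀ q : PrimeSpectrum B, Module.rankAtStalk M q = k) (𝔭 : Ideal A) [𝔭.IsPrime] :
    ∃ (f : A) (u : (Fin k → B) →ₗ[B] M) (s : M →ₗ[B] (Fin k → B)), f ∉ 𝔭 ∧
      s ∘ₗ u = algebraMap A B f • LinearMap.id ∧ u ∘ₗ s = algebraMap A B f • LinearMap.id := by
  classical
  let S : Submonoid B := Algebra.algebraMapSubmonoid B 𝔭.primeCompl
  let B' := Localization S
  have : Module.Finite (Localization.AtPrime 𝔭) B' :=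
    Module.Finite.of_isLocalization A B 𝔭.primeCompl
  have : Finite (MaximalSpectrum B') :=
    finite_maximalSpectrum_of_finite_local (Localization.AtPrime 𝔭) B'
  have hrk : ∀ p : PrimeSpectrum B', Module.rankAtStalk (B' ⊗[B] M) p = k := fun p => by
    rw [Module.rankAtStalk_baseChange]; exact h _
  obtain ⟨b⟩ := basis_of_rankAtStalk_const B' (B' ⊗[B] M) k hrk
  have : Module.FinitePresentation B M := Module.finitePresentation_of_projective B M
  let mk : M →ₗ[B] B' ⊗[B] M := TensorProduct.mk B B' M 1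
  let locF : (Fin k → B) →ₗ[B] (Fin k → B') :=
    LinearMap.pi fun i ↦ (Algebra.linearMap B B') ∘ₗ LinearMap.proj i
  let θ : (Fin k → B') ≃ₗ[B] B' ⊗[B] M := b.equivFun.symm.restrictScalars B
  obtain ⟨c, u, s, h1, h2⟩ := exists_two_sided_of_localized_equiv S locF mk θ
  obtain ⟨f, hf, hfc⟩ := c.2
  refine ⟨f, u, s, hf, ?_, ?_⟩
  · rw [hfc]; exact h1
  · rw [hfc]; exact h2

end twosided

section top

variable {R : Type*} [CommRing R] {P : Type*} [AddCommGroup P] [Module R P] {r : ℕ}

/-- the coordinate of an element of the top exterior power with respect to the wedge of a basis -/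
noncomputable def topCoord (b : Module.Basis (Fin r) R P) : ⋀[R]^r P →ₗ[R] R :=
  exteriorPower.alternatingMapLinearEquiv b.det

theorem topCoord_ιMulti (b : Module.Basis (Fin r) R P) (v : Fin r → P) :
    topCoord b (exteriorPower.ιMulti R r v) = b.det v :=
  exteriorPower.alternatingMapLinearEquiv_apply_ιMulti _ _

theorem topCoord_self (b : Module.Basis (Fin r) R P) :
    topCoord b (exteriorPower.ιMulti R r b) = 1 := by
  rw [topCoord_ιMulti, Module.Basis.det_self]

theorem ep_top_cyclic (b : Module.Basis (Fin r) R P) (z : ⋀[R]^r P) :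
    z = topCoord b z • exteriorPower.ιMulti R r b := by
  classical
  have hspan := exteriorPower.ιMulti_family_span_of_span R (n := r) (v := ⇑b) b.span_eq
  let s₀ : Set.powersetCard (Fin r) r := ⟨Finset.univ, by simp [Set.powersetCard.mem_iff]⟩
  have hs : ∀ s : Set.powersetCard (Fin r) r, s = s₀ := by
    intro s
    apply Subtype.ext
    exact Finset.eq_univ_of_card _ (by simpa using s.2)
  have hcyc : ∀ z : ⋀[R]^r P, ∃ a : R, z = a • exteriorPower.ιMulti_family R r ⇑b s₀ := by
    intro z
    have hz : z ∈ Submodule.span R (Set.range (exteriorPower.ιMulti_family R r ⇑b)) := by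
      rw [hspan]; trivial
    have hrange : Set.range (exteriorPower.ιMulti_family R r ⇑b) =
        {exteriorPower.ιMulti_family R r ⇑b s₀} := by
      ext x
      constructor
      · rintro ⟨s, rfl⟩; rw [hs s]; rfl
      · rintro rfl; exact ⟨s₀, rfl⟩
    rw [hrange, Submodule.mem_span_singleton] at hz
    obtain ⟨a, ha⟩ := hz
    exact ⟨a, ha.symm⟩
  obtain ⟨c, hc⟩ := hcyc (exteriorPower.ιMulti R r b)
  have h1 : c * topCoord b (exteriorPower.ιMulti_family R r ⇑b s₀) = 1 := by
    have h := congrArg (topCoord b) hc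
    rw [topCoord_self, map_smul, smul_eq_mul] at h
    exact h.symm
  obtain ⟨a, ha⟩ := hcyc z
  have h2 : exteriorPower.ιMulti_family R r ⇑b s₀ =
      topCoord b (exteriorPower.ιMulti_family R r ⇑b s₀) • exteriorPower.ιMulti R r b := by
    conv_rhs => rw [hc, smul_smul, mul_comm, h1, one_smul]
  rw [ha, map_smul, smul_eq_mul, mul_smul, ← h2]

theorem ep_map_top (b : Module.Basis (Fin r) R P) (T : P →ₗ[R] P) :
    exteriorPower.map r T = LinearMap.det T • LinearMap.id := by
  classical
  refine LinearMap.ext fun z => ?_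
  have hζ : exteriorPower.map r T (exteriorPower.ιMulti R r b) =
      LinearMap.det T • exteriorPower.ιMulti R r b := by
    rw [exteriorPower.map_apply_ιMulti, ep_top_cyclic b (exteriorPower.ιMulti R r (⇑T ∘ ⇑b)),
      topCoord_ιMulti, Module.Basis.det_comp, Module.Basis.det_self, mul_one]
  rw [ep_top_cyclic b z, map_smul, hζ, LinearMap.smul_apply, LinearMap.id_apply, smul_comm]

end top

end Groth.Agent.Lib.Helper96.NormLocal
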