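import Groth.Agent.Lib.Helper96.NormLocal2

/-!
# `⋀^{nk}_A (g) = ⋀^n_A (det_B g)` for a `B`-linear endomorphism `g` of `B^k`

Fraction-free form, for a ring `B` which is a two-sided retract of `A^n` up to `g₀`
(`φ σ = g₀`, `σ φ = g₀`), via Silvester's theorem `Matrix.det_det` over `A[1/g₀]`.
-/

set_option autoImplicit false
open scoped TensorProduct
universe u

namespace Groth.Agent.Lib.Helper96.NormLocal

section silvester

variable {A B : Type u} [CommRing A] [CommRing B] [Algebra A B] {n : ℕ} (g₀ : A)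
  (σ : B →ₗ[A] (Fin n → A)) (φ : (Fin n → A) →ₗ[A] B)

/-- the matrix of multiplication by `c`, transported to `A^n` -/
noncomputable def rhoMat (c : B) : Matrix (Fin n) (Fin n) A :=
  LinearMap.toMatrix' (σ ∘ₗ LinearMap.mulLeft A c ∘ₗ φ)

variable {g₀ σ φ}

theorem rhoMat_one (hσφ : σ ∘ₗ φ = g₀ • LinearMap.id) : rhoMat σ φ 1 = g₀ • 1 := by
  have : σ ∘ₗ LinearMap.mulLeft A (1 : B) ∘ₗ φ = g₀ • LinearMap.id := by
    rw [← hσφ]
    refine LinearMap.ext fun x => ?_
    simp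
  rw [rhoMat, this, map_smul, LinearMap.toMatrix'_id]

theorem rhoMat_mul (hφσ : φ ∘ₗ σ = g₀ • LinearMap.id) (c c' : B) :
    rhoMat σ φ c * rhoMat σ φ c' = g₀ • rhoMat σ φ (c * c') := by
  have h1 : ∀ y, φ (σ y) = g₀ • y := fun y => LinearMap.congr_fun hφσ y
  have : (σ ∘ₗ LinearMap.mulLeft A c ∘ₗ φ) ∘ₗ (σ ∘ₗ LinearMap.mulLeft A c' ∘ₗ φ) =
      g₀ • (σ ∘ₗ LinearMap.mulLeft A (c * c') ∘ₗ φ) := by
    refine LinearMap.ext fun x => ?_
    show σ (c * φ (σ (c' * φ x))) = g₀ • σ (c * c' * φ x)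
    rw [h1, mul_smul_comm, map_smul, mul_assoc]
  rw [rhoMat, rhoMat, ← LinearMap.toMatrix'_comp, this, map_smul, rhoMat]

theorem rhoMat_add (c c' : B) : rhoMat σ φ (c + c') = rhoMat σ φ c + rhoMat σ φ c' := by
  have : σ ∘ₗ LinearMap.mulLeft A (c + c') ∘ₗ φ =
      σ ∘ₗ LinearMap.mulLeft A c ∘ₗ φ + σ ∘ₗ LinearMap.mulLeft A c' ∘ₗ φ := by
    refine LinearMap.ext fun x => ?_
    show σ ((c + c') * φ x) = σ (c * φ x) + σ (c' * φ x)
    rw [add_mul, map_add]
  rw [rhoMat, this, map_add, rhoMat, rhoMat]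

theorem rhoMat_zero : rhoMat σ φ 0 = 0 := by
  have : σ ∘ₗ LinearMap.mulLeft A (0 : B) ∘ₗ φ = 0 := by
    refine LinearMap.ext fun x => ?_
    show σ (0 * φ x) = 0
    rw [zero_mul, map_zero]
  rw [rhoMat, this, map_zero]

theorem rhoMat_mulVec (c : B) (w : Fin n → A) (a : Fin n) :
    σ (c * φ w) a = ∑ b, rhoMat σ φ c a b * w b := by
  have := congrFun (LinearMap.congr_fun
    (Matrix.toLin'_toMatrix' (σ ∘ₗ LinearMap.mulLeft A c ∘ₗ φ)) w) a
  rw [Matrix.toLin'_apply] at this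
  exact this.symm

/-- the ring homomorphism `B → M_n(A[1/g₀])` -/
noncomputable def rhoHom (hφσ : φ ∘ₗ σ = g₀ • LinearMap.id) (hσφ : σ ∘ₗ φ = g₀ • LinearMap.id) :
    B →+* Matrix (Fin n) (Fin n) (Localization.Away g₀) where
  toFun c := IsLocalization.Away.invSelf (S := Localization.Away g₀) g₀ •
    (rhoMat σ φ c).map (algebraMap A (Localization.Away g₀))
  map_one' := by
    have hγ : algebraMap A (Localization.Away g₀) g₀ *
        IsLocalization.Away.invSelf (S := Localization.Away g₀) g₀ = 1 :=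
      IsLocalization.Away.mul_invSelf g₀
    rw [rhoMat_one hσφ]
    ext i j
    by_cases hij : i = j
    · subst hij
      simp only [Matrix.smul_apply, Matrix.map_apply, Matrix.one_apply_eq, smul_eq_mul, mul_one]
      rw [mul_comm, hγ]
    · simp only [Matrix.smul_apply, Matrix.map_apply, Matrix.one_apply_ne hij, smul_zero,
        map_zero]
  map_mul' c c' := by
    have hγ : algebraMap A (Localization.Away g₀) g₀ *
        IsLocalization.Away.invSelf (S := Localization.Away g₀) g₀ = 1 :=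
      IsLocalization.Away.mul_invSelf g₀
    have hm := rhoMat_mul hφσ c c'
    have hm' : (rhoMat σ φ c).map (algebraMap A (Localization.Away g₀)) *
        (rhoMat σ φ c').map (algebraMap A (Localization.Away g₀)) =
        algebraMap A (Localization.Away g₀) g₀ •
          (rhoMat σ φ (c * c')).map (algebraMap A (Localization.Away g₀)) := by
      rw [← Matrix.map_mul, hm]
      ext i j
      simp [Matrix.map_apply, Matrix.smul_apply]
    rw [Matrix.smul_mul, Matrix.mul_smul, hm', smul_smul, smul_smul]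
    congr 1
    linear_combination (-(IsLocalization.Away.invSelf (S := Localization.Away g₀) g₀)) * hγ
  map_zero' := by
    rw [rhoMat_zero]
    ext i j
    simp
  map_add' c c' := by
    rw [rhoMat_add, Matrix.map_add (hf := fun x y => map_add _ x y), smul_add]

theorem rhoHom_apply (hφσ : φ ∘ₗ σ = g₀ • LinearMap.id) (hσφ : σ ∘ₗ φ = g₀ • LinearMap.id)
    (c : B) : rhoHom hφσ hσφ c = IsLocalization.Away.invSelf (S := Localization.Away g₀) g₀ •
      (rhoMat σ φ c).map (algebraMap A (Localization.Away g₀)) := rfl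

variable {k : ℕ}

/-- the block matrix of `g` -/
noncomputable def blockMat (σ : B →ₗ[A] (Fin n → A)) (φ : (Fin n → A) →ₗ[A] B)
    (g : (Fin k → B) →ₗ[B] (Fin k → B)) : Matrix (Fin k × Fin n) (Fin k × Fin n) A :=
  Matrix.comp (Fin k) (Fin k) (Fin n) (Fin n) A ((LinearMap.toMatrix' g).map (rhoMat σ φ))

theorem silvester_pullback (hφσ : φ ∘ₗ σ = g₀ • LinearMap.id) (hσφ : σ ∘ₗ φ = g₀ • LinearMap.id)
    (g : (Fin k → B) →ₗ[B] (Fin k → B)) :
    ∃ N : ℕ, g₀ ^ N * (g₀ ^ (k * n) * (rhoMat σ φ (LinearMap.det g)).det) =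
      g₀ ^ N * (g₀ ^ n * (blockMat σ φ g).det) := by
  classical
  set A' := Localization.Away g₀ with hA'
  set ι := algebraMap A A' with hι
  set γ : A' := IsLocalization.Away.invSelf (S := Localization.Away g₀) g₀ with hγdef
  have hγ : ι g₀ * γ = 1 := IsLocalization.Away.mul_invSelf g₀
  have key := Matrix.det_det (LinearMap.toMatrix' g) (rhoHom hφσ hσφ)
  rw [LinearMap.det_toMatrix'] at key
  have hL : (rhoHom hφσ hσφ (LinearMap.det g)).det =
      γ ^ n * ι ((rhoMat σ φ (LinearMap.det g)).det) := by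
    rw [rhoHom_apply, Matrix.det_smul, Fintype.card_fin, ← RingHom.mapMatrix_apply,
      ← RingHom.map_det]
  have hR : (Matrix.comp (Fin k) (Fin k) (Fin n) (Fin n) A'
      ((LinearMap.toMatrix' g).map ⇑(rhoHom hφσ hσφ))) = γ • (blockMat σ φ g).map ι := by
    ext ⟨i, a⟩ ⟨j, b⟩
    simp [blockMat, Matrix.comp_apply, Matrix.map_apply, rhoHom_apply, Matrix.smul_apply, hγdef,
      hι]
    rfl
  have hR' : (Matrix.comp (Fin k) (Fin k) (Fin n) (Fin n) A'
      ((LinearMap.toMatrix' g).map ⇑(rhoHom hφσ hσφ))).det =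
      γ ^ (k * n) * ι ((blockMat σ φ g).det) := by
    rw [hR, Matrix.det_smul, Fintype.card_prod, Fintype.card_fin, Fintype.card_fin,
      ← RingHom.mapMatrix_apply, ← RingHom.map_det]
  rw [hL, hR'] at key
  have e1 : ι g₀ ^ n * γ ^ n = 1 := by rw [← mul_pow, hγ, one_pow]
  have e2 : ι g₀ ^ (k * n) * γ ^ (k * n) = 1 := by rw [← mul_pow, hγ, one_pow]
  have hfin : ι (g₀ ^ (k * n) * (rhoMat σ φ (LinearMap.det g)).det) =
      ι (g₀ ^ n * (blockMat σ φ g).det) := by
    rw [map_mul, map_mul, map_pow, map_pow]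
    calc ι g₀ ^ (k * n) * ι ((rhoMat σ φ (LinearMap.det g)).det)
        = ι g₀ ^ (k * n) * ((ι g₀ ^ n * γ ^ n) * ι ((rhoMat σ φ (LinearMap.det g)).det)) := by
          rw [e1, one_mul]
      _ = ι g₀ ^ (k * n) * ι g₀ ^ n * (γ ^ n * ι ((rhoMat σ φ (LinearMap.det g)).det)) := by
          ring
      _ = ι g₀ ^ (k * n) * ι g₀ ^ n * (γ ^ (k * n) * ι ((blockMat σ φ g).det)) := by rw [key]
      _ = ι g₀ ^ n * ((ι g₀ ^ (k * n) * γ ^ (k * n)) * ι ((blockMat σ φ g).det)) := by ring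
      _ = ι g₀ ^ n * ι ((blockMat σ φ g).det) := by rw [e2, one_mul]
  obtain ⟨⟨_, N, rfl⟩, hN⟩ := (IsLocalization.eq_iff_exists (Submonoid.powers g₀) A').1 hfin
  exact ⟨N, hN⟩

end silvester

end Groth.Agent.Lib.Helper96.NormLocal
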