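import Groth.Agent.Lib.Helper96.NormSilvester

/-!
# `⋀^{nk}_A(g)` and `⋀^n_A(det g)` are the same scalar, locally
-/

set_option autoImplicit false
open scoped TensorProduct
universe u

namespace Groth.Agent.Lib.Helper96.NormLocal

section star

variable {A B : Type u} [CommRing A] [CommRing B] [Algebra A B] {n k : ℕ} {g₀ : A}
  {σ : B →ₗ[A] (Fin n → A)} {φ : (Fin n → A) →ₗ[A] B}

/-- `σ` on each coordinate -/
noncomputable def sigHat (σ : B →ₗ[A] (Fin n → A)) (k : ℕ) :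
    (Fin k → B) →ₗ[A] (Fin k × Fin n → A) :=
  LinearMap.pi fun p => (LinearMap.proj p.2 : (Fin n → A) →ₗ[A] A) ∘ₗ σ ∘ₗ
    (LinearMap.proj p.1 : (Fin k → B) →ₗ[A] B)

/-- `φ` on each coordinate -/
noncomputable def phiHat (φ : (Fin n → A) →ₗ[A] B) (k : ℕ) :
    (Fin k × Fin n → A) →ₗ[A] (Fin k → B) :=
  LinearMap.pi fun i => φ ∘ₗ
    (LinearMap.pi fun a => (LinearMap.proj (i, a) : (Fin k × Fin n → A) →ₗ[A] A))

theorem sigHat_apply (x : Fin k → B) (i : Fin k) (a : Fin n) :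
    sigHat σ k x (i, a) = σ (x i) a := rfl

theorem phiHat_apply (y : Fin k × Fin n → A) (i : Fin k) :
    phiHat φ k y i = φ (fun a => y (i, a)) := rfl

theorem phiHat_sigHat (hφσ : φ ∘ₗ σ = g₀ • LinearMap.id) :
    phiHat φ k ∘ₗ sigHat σ k = g₀ • LinearMap.id := by
  refine LinearMap.ext fun x => ?_
  funext i
  show φ (fun a => σ (x i) a) = (g₀ • x) i
  exact LinearMap.congr_fun hφσ (x i)

theorem sigHat_phiHat (hσφ : σ ∘ₗ φ = g₀ • LinearMap.id) :
    sigHat σ k ∘ₗ phiHat φ k = g₀ • LinearMap.id := by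
  refine LinearMap.ext fun y => ?_
  funext ⟨i, a⟩
  show σ (φ (fun a => y (i, a))) a = (g₀ • y) (i, a)
  have := LinearMap.congr_fun hσφ (fun a => y (i, a))
  exact congrFun this a

theorem conj_eq_toLin' (g : (Fin k → B) →ₗ[B] (Fin k → B)) :
    sigHat σ k ∘ₗ g.restrictScalars A ∘ₗ phiHat φ k = Matrix.toLin' (blockMat σ φ g) := by
  refine LinearMap.ext fun y => ?_
  funext ⟨i, a⟩
  have hg : ∀ (z : Fin k → B) (i : Fin k), g z i = ∑ j, LinearMap.toMatrix' g i j * z j := by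
    intro z i
    have := congrFun (LinearMap.congr_fun (Matrix.toLin'_toMatrix' g) z) i
    rw [Matrix.toLin'_apply] at this
    exact this.symm
  show σ (g (phiHat φ k y) i) a = (Matrix.toLin' (blockMat σ φ g) y) (i, a)
  rw [hg, map_sum, Finset.sum_apply, Matrix.toLin'_apply]
  show _ = ∑ p : Fin k × Fin n, blockMat σ φ g (i, a) p * y p
  rw [Fintype.sum_prod_type]
  refine Finset.sum_congr rfl fun j _ => ?_
  rw [phiHat_apply, rhoMat_mulVec]
  rfl

theorem star (hφσ : φ ∘ₗ σ = g₀ • LinearMap.id) (hσφ : σ ∘ₗ φ = g₀ • LinearMap.id)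
    (g : (Fin k → B) →ₗ[B] (Fin k → B)) :
    ∃ (m : ℕ) (a : A),
      g₀ ^ m • exteriorPower.map (n * k) (g.restrictScalars A) = a • LinearMap.id ∧
      g₀ ^ m • exteriorPower.map n (LinearMap.mulLeft A (LinearMap.det g)) =
        a • LinearMap.id := by
  classical
  obtain ⟨N, hN⟩ := silvester_pullback hφσ hσφ g
  have hcard : Fintype.card (Fin k × Fin n) = n * k := by simp [mul_comm]
  let e : Fin k × Fin n ≃ Fin (n * k) := Fintype.equivFinOfCardEq hcard
  let bF : Module.Basis (Fin (n * k)) A (Fin k × Fin n → A) :=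
    (Pi.basisFun A (Fin k × Fin n)).reindex e
  have hTdet : LinearMap.det (sigHat σ k ∘ₗ g.restrictScalars A ∘ₗ phiHat φ k) =
      (blockMat σ φ g).det := by
    rw [conj_eq_toLin', LinearMap.det_toLin']
  have h1 := phiHat_sigHat (k := k) hφσ
  have h1' : ∀ x, phiHat φ k (sigHat σ k x) = g₀ • x := fun x => LinearMap.congr_fun h1 x
  have c1 : phiHat φ k ∘ₗ (sigHat σ k ∘ₗ g.restrictScalars A ∘ₗ phiHat φ k) ∘ₗ sigHat σ k =
      (g₀ ^ 2) • g.restrictScalars A := by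
    refine LinearMap.ext fun x => ?_
    show phiHat φ k (sigHat σ k ((g.restrictScalars A) (phiHat φ k (sigHat σ k x)))) =
      (g₀ ^ 2) • (g.restrictScalars A) x
    rw [h1', h1', map_smul, smul_smul, pow_two]
  have c2 := congrArg (exteriorPower.map (n * k)) c1
  rw [exteriorPower.map_comp, exteriorPower.map_comp,
    ep_map_top bF (sigHat σ k ∘ₗ g.restrictScalars A ∘ₗ phiHat φ k), ep_map_smul, hTdet] at c2
  have c3 : exteriorPower.map (n * k) (phiHat φ k) ∘ₗ exteriorPower.map (n * k) (sigHat σ k) =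
      g₀ ^ (n * k) • LinearMap.id := by
    rw [← exteriorPower.map_comp, h1, ep_map_smul_id]
  have F1 : (g₀ ^ 2) ^ (n * k) • exteriorPower.map (n * k) (g.restrictScalars A) =
      ((blockMat σ φ g).det * g₀ ^ (n * k)) • LinearMap.id := by
    rw [← c2, LinearMap.smul_comp, LinearMap.id_comp, LinearMap.comp_smul, c3, smul_smul]
  have hTc : LinearMap.det (σ ∘ₗ LinearMap.mulLeft A (LinearMap.det g) ∘ₗ φ) =
      (rhoMat σ φ (LinearMap.det g)).det := by
    rw [← LinearMap.det_toMatrix']; rfl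
  have h2' : ∀ x, φ (σ x) = g₀ • x := fun x => LinearMap.congr_fun hφσ x
  have d1 : φ ∘ₗ (σ ∘ₗ LinearMap.mulLeft A (LinearMap.det g) ∘ₗ φ) ∘ₗ σ =
      (g₀ ^ 2) • LinearMap.mulLeft A (LinearMap.det g) := by
    refine LinearMap.ext fun x => ?_
    show φ (σ (LinearMap.det g * φ (σ x))) = (g₀ ^ 2) • (LinearMap.det g * x)
    rw [h2', h2', mul_smul_comm, smul_smul, pow_two]
  have d2 := congrArg (exteriorPower.map n) d1
  rw [exteriorPower.map_comp, exteriorPower.map_comp,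
    ep_map_top (Pi.basisFun A (Fin n)) (σ ∘ₗ LinearMap.mulLeft A (LinearMap.det g) ∘ₗ φ),
    ep_map_smul, hTc] at d2
  have d3 : exteriorPower.map n φ ∘ₗ exteriorPower.map n σ = g₀ ^ n • LinearMap.id := by
    rw [← exteriorPower.map_comp, hφσ, ep_map_smul_id]
  have F2 : (g₀ ^ 2) ^ n • exteriorPower.map n (LinearMap.mulLeft A (LinearMap.det g)) =
      ((rhoMat σ φ (LinearMap.det g)).det * g₀ ^ n) • LinearMap.id := by
    rw [← d2, LinearMap.smul_comp, LinearMap.id_comp, LinearMap.comp_smul, d3, smul_smul]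
  refine ⟨N + 2 * n + 2 * (n * k),
    g₀ ^ N * (g₀ ^ 2) ^ n * ((blockMat σ φ g).det * g₀ ^ (n * k)), ?_, ?_⟩
  · have : g₀ ^ (N + 2 * n + 2 * (n * k)) = (g₀ ^ N * (g₀ ^ 2) ^ n) * (g₀ ^ 2) ^ (n * k) := by
      ring
    rw [this, mul_smul, F1, smul_smul]
  · have : g₀ ^ (N + 2 * n + 2 * (n * k)) = (g₀ ^ N * (g₀ ^ 2) ^ (n * k)) * (g₀ ^ 2) ^ n := by
      ring
    rw [this, mul_smul, F2, smul_smul]
    congr 1
    linear_combination (g₀ ^ (n * k) * g₀ ^ n) * hN

end star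

end Groth.Agent.Lib.Helper96.NormLocal
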