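import Mathlib

/-!
# Localization of a domain away from a prime element (helper96)

`A` a domain, `x : A` prime, `B = A[1/x]`, `u : Bˣ` the unit defined by `x`.  No factoriality is
assumed: `A` is root closed in `B`; if moreover every nonzero element has finite `x`-multiplicity
then reduced fractions exist, and `w ^ k * u ^ n ∈ A`, `k ∤ n` imply `w ^ k * u ^ (n - 1) ∈ A`.
-/

set_option autoImplicit false

namespace Groth.Agent.Lib.Helper96
namespace PrimeAway

universe u

variable {A B : Type u} [CommRing A] [IsDomain A] [CommRing B] [Algebra A B] (x : A)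
  (hx : Prime x) [IsLocalization.Away x B]

include hx in
theorem algebraMap_injective : Function.Injective (algebraMap A B) :=
  IsLocalization.injective B (M := Submonoid.powers x)
    (powers_le_nonZeroDivisors_of_noZeroDivisors hx.ne_zero)

include hx in
theorem mem_range_aux {k : ℕ} (hk : 1 ≤ k) (N : ℕ) :
    ∀ (w : B) (β : A), w ^ k ∈ (algebraMap A B).range →
      w * algebraMap A B (x ^ N) = algebraMap A B β → w ∈ (algebraMap A B).range := by
  have hinj := algebraMap_injective (B := B) x hx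
  induction N with
  | zero =>
    intro w β _ hβ
    rw [pow_zero, map_one, mul_one] at hβ
    exact ⟨β, hβ.symm⟩
  | succ N ih =>
    intro w β hw hβ
    obtain ⟨α, hα⟩ := hw
    have h1 : β ^ k = α * x ^ ((N + 1) * k) := by
      apply hinj
      rw [map_pow, ← hβ, mul_pow, ← hα, ← map_pow, ← map_mul, ← pow_mul]
    have h2 : x ∣ β ^ k := by
      rw [h1]
      apply Dvd.dvd.mul_left
      apply dvd_pow_self
      have : 1 ≤ (N + 1) * k := Nat.mul_pos (Nat.succ_pos N) hk
      omega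
    obtain ⟨β', rfl⟩ := hx.dvd_of_dvd_pow h2
    apply ih w β' ⟨α, hα⟩
    have hunit : IsUnit (algebraMap A B x) := IsLocalization.Away.algebraMap_isUnit (S := B) x
    apply hunit.mul_right_cancel
    rw [mul_assoc, ← map_mul, ← pow_succ, hβ, map_mul, mul_comm]

include hx in
/-- `A` is root closed in `B = A[1/x]`. -/
theorem mem_range_of_pow_mem_range {w : B} {k : ℕ} (hk : 1 ≤ k)
    (h : w ^ k ∈ (algebraMap A B).range) : w ∈ (algebraMap A B).range := by
  obtain ⟨⟨β, ⟨_, ⟨N, rfl⟩⟩⟩, hβ⟩ := IsLocalization.surj (Submonoid.powers x) w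
  exact mem_range_aux x hx hk N w β h hβ

variable (u : Bˣ) (hu : (u : B) = algebraMap A B x)

omit [IsDomain A] [IsLocalization.Away x B] in
include hu in
theorem units_zpow_natCast (t : ℕ) : ((u ^ (t : ℤ) : Bˣ) : B) = algebraMap A B (x ^ t) := by
  rw [zpow_natCast, Units.val_pow_eq_pow_val, hu, map_pow]

omit [IsDomain A] [IsLocalization.Away x B] in
include hu in
theorem units_zpow_of_nonneg {t : ℤ} (ht : 0 ≤ t) :
    ((u ^ t : Bˣ) : B) = algebraMap A B (x ^ t.toNat) := by
  obtain ⟨k, rfl⟩ := Int.eq_ofNat_of_zero_le ht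
  rw [units_zpow_natCast x u hu, Int.toNat_natCast]

include hx hu in
/-- Reduced fractions, assuming finite `x`-multiplicities. -/
theorem exists_reduced (hfin : ∀ a : A, a ≠ 0 → FiniteMultiplicity x a) {w : B} (hw : w ≠ 0) :
    ∃ (β : A) (e : ℤ), ¬ x ∣ β ∧ w = algebraMap A B β * ((u ^ e : Bˣ) : B) := by
  have hinj := algebraMap_injective (B := B) x hx
  obtain ⟨⟨β₀, ⟨_, ⟨N, rfl⟩⟩⟩, hβ⟩ := IsLocalization.surj (Submonoid.powers x) w
  simp only at hβ
  have hβ₀ : β₀ ≠ 0 := by
    rintro rfl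
    rw [map_zero] at hβ
    have hunit : IsUnit (algebraMap A B (x ^ N)) := by
      rw [map_pow]
      exact (IsLocalization.Away.algebraMap_isUnit (S := B) x).pow N
    exact hw (hunit.mul_left_eq_zero.mp hβ)
  obtain ⟨β, hβ1, hβ2⟩ := (hfin β₀ hβ₀).exists_eq_pow_mul_and_not_dvd
  set v := multiplicity x β₀ with hv
  refine ⟨β, (v : ℤ) - (N : ℤ), hβ2, ?_⟩
  rw [zpow_sub, Units.val_mul, ← mul_assoc, Units.eq_mul_inv_iff_mul_eq,
    units_zpow_natCast x u hu, units_zpow_natCast x u hu, hβ, hβ1, map_mul, mul_comm]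

include hx hu in
/-- If `w ^ k * u ^ n` lies in `A` and `k ∤ n`, then `w ^ k * u ^ (n - 1)` lies in `A`. -/
theorem pow_mul_zpow_pred_mem_range (hfin : ∀ a : A, a ≠ 0 → FiniteMultiplicity x a)
    {w : B} {k : ℕ} (hk : k ≠ 0) {n : ℤ} (hkn : ¬ ((k : ℤ) ∣ n))
    (h : w ^ k * ((u ^ n : Bˣ) : B) ∈ (algebraMap A B).range) :
    w ^ k * ((u ^ (n - 1) : Bˣ) : B) ∈ (algebraMap A B).range := by
  by_cases hw : w = 0
  · subst hw
    rw [zero_pow hk, zero_mul]
    exact Subring.zero_mem _
  obtain ⟨β, e, hβ, rfl⟩ := exists_reduced x hx u hu hfin hw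
  have hinj := algebraMap_injective (B := B) x hx
  set t : ℤ := k * e + n with ht
  have hrew : ∀ s : ℤ, (algebraMap A B β * ((u ^ e : Bˣ) : B)) ^ k * ((u ^ s : Bˣ) : B) =
      algebraMap A B (β ^ k) * ((u ^ ((k : ℤ) * e + s) : Bˣ) : B) := by
    intro s
    rw [mul_pow, map_pow, mul_assoc, ← Units.val_pow_eq_pow_val, ← Units.val_mul, ← zpow_natCast,
      ← zpow_mul, ← zpow_add, mul_comm e]
  rw [hrew] at h ⊢
  have ht0 : t ≠ 0 := by
    intro h0
    apply hkn
    exact ⟨-e, by rw [ht] at h0; linarith⟩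
  rcases lt_or_gt_of_ne ht0 with hneg | hpos
  · exfalso
    obtain ⟨α, hα⟩ := h
    apply hβ
    have h1 : algebraMap A B (β ^ k) = algebraMap A B (α * x ^ (-t).toNat) := by
      rw [map_mul, ← units_zpow_of_nonneg x u hu (by omega : (0 : ℤ) ≤ -t), hα, mul_assoc,
        ← Units.val_mul, ← zpow_add, ← ht, add_neg_cancel, zpow_zero, Units.val_one, mul_one]
    have h2 := hinj h1
    have h3 : x ∣ β ^ k := by
      rw [h2]
      apply Dvd.dvd.mul_left
      apply dvd_pow_self
      omega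
    exact hx.dvd_of_dvd_pow h3
  · have h1 : (k : ℤ) * e + (n - 1) = t - 1 := by rw [ht]; ring
    rw [h1, units_zpow_of_nonneg x u hu (by omega : (0 : ℤ) ≤ t - 1), ← map_mul]
    exact ⟨_, rfl⟩

end PrimeAway
end Groth.Agent.Lib.Helper96
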