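import Mathlib

/-!
# A finite type algebra as the degree-zero part of a localisation of a standard graded algebra

For an `R`-algebra `R'` generated by a finite set `s'`, we build the graded `R`-subalgebra `S` of
`(R × R')[X]` generated by the degree-one elements `(0, y) X`, `y ∈ s' ∪ {1}`.  Its degree `0` part
is `R`, its degree `d ≥ 1` part is `{(0, y) X ^ d}` with `y` in the `R`-span of products of at most
`d` generators, and `S_(f) ≅ R'` for `f = (0, 1) X`.
-/

set_option autoImplicit false

open Polynomial

namespace Groth.Agent.Lib.Helper96.ReesAway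

universe u

variable (R R' : Type u) [CommRing R] [CommRing R'] [Algebra R R']

/-- The generating set. -/
noncomputable def gens (s' : Set R') : Set (R × R')[X] :=
  (fun y : R' => monomial 1 ((0 : R), y)) '' (insert 1 s')

/-- The graded subalgebra. -/
noncomputable def sub (s' : Set R') : Subalgebra R (R × R')[X] := Algebra.adjoin R (gens R R' s')

variable {R R'}

theorem fGen_mem (s' : Set R') : monomial 1 ((0 : R), (1 : R')) ∈ sub R R' s' :=
  Algebra.subset_adjoin ⟨1, Set.mem_insert _ _, rfl⟩

/-- The degree zero coefficient of an element of `S` comes from `R`. -/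
theorem coeff_zero_mem (s' : Set R') {x : (R × R')[X]} (hx : x ∈ sub R R' s') :
    ∃ r : R, x.coeff 0 = algebraMap R (R × R') r := by
  induction hx using Algebra.adjoin_induction with
  | mem x hx =>
    obtain ⟨y, _, rfl⟩ := hx
    exact ⟨0, by rw [coeff_monomial, if_neg one_ne_zero, map_zero]⟩
  | algebraMap r =>
    refine ⟨r, ?_⟩
    rw [Polynomial.algebraMap_apply, coeff_C_zero]
  | add x y _ _ hx hy =>
    obtain ⟨r, hr⟩ := hx
    obtain ⟨r', hr'⟩ := hy
    exact ⟨r + r', by rw [coeff_add, hr, hr', map_add]⟩
  | mul x y _ _ hx hy =>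
    obtain ⟨r, hr⟩ := hx
    obtain ⟨r', hr'⟩ := hy
    exact ⟨r * r', by rw [mul_coeff_zero, hr, hr', map_mul]⟩

/-- `S` is a homogeneous subalgebra. -/
theorem monomial_coeff_mem (s' : Set R') {x : (R × R')[X]} (hx : x ∈ sub R R' s') (d : ℕ) :
    monomial d (x.coeff d) ∈ sub R R' s' := by
  induction hx using Algebra.adjoin_induction generalizing d with
  | mem x hx =>
    obtain ⟨y, hy, rfl⟩ := hx
    rw [coeff_monomial]
    split_ifs with h
    · subst h
      exact Algebra.subset_adjoin ⟨y, hy, rfl⟩
    · rw [map_zero]; exact zero_mem _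
  | algebraMap r =>
    rw [Polynomial.algebraMap_apply, coeff_C]
    split_ifs with h
    · subst h
      rw [monomial_zero_left, ← Polynomial.algebraMap_apply]
      exact Subalgebra.algebraMap_mem _ r
    · rw [map_zero]; exact zero_mem _
  | add x y _ _ hx hy =>
    rw [coeff_add, map_add]
    exact add_mem (hx d) (hy d)
  | mul x y _ _ hx hy =>
    rw [coeff_mul, map_sum]
    refine Subalgebra.sum_mem _ fun p hp => ?_
    have hpd : p.1 + p.2 = d := Finset.HasAntidiagonal.mem_antidiagonal.mp hp
    rw [← hpd, ← monomial_mul_monomial]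
    exact mul_mem (hx p.1) (hy p.2)

/-- Every element of `adjoin R s'` appears as a coefficient in some degree. -/
theorem exists_monomial_mem (s' : Set R') {y : R'} (hy : y ∈ Algebra.adjoin R s') :
    ∃ k : ℕ, monomial k ((0 : R), y) ∈ sub R R' s' := by
  have hraise : ∀ (k j : ℕ) (y : R'), monomial k ((0 : R), y) ∈ sub R R' s' →
      monomial (k + j) ((0 : R), y) ∈ sub R R' s' := by
    intro k j y hk
    induction j with
    | zero => simpa using hk
    | succ j ih =>
      have := mul_mem ih (fGen_mem (R := R) s')
      rw [monomial_mul_monomial] at this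
      have h2 : ((0 : R), y) * ((0 : R), (1 : R')) = ((0 : R), y) := by
        ext <;> simp
      rw [h2] at this
      exact this
  induction hy using Algebra.adjoin_induction with
  | mem y hy => exact ⟨1, Algebra.subset_adjoin ⟨y, Set.mem_insert_of_mem _ hy, rfl⟩⟩
  | algebraMap r =>
    refine ⟨1, ?_⟩
    have h1 := Subalgebra.smul_mem _ (fGen_mem (R := R) (R' := R') s') r
    rw [smul_monomial] at h1
    have h2 : r • ((0 : R), (1 : R')) = ((0 : R), algebraMap R R' r) := by
      ext
      · simp
      · simp [Algebra.smul_def]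
    rw [h2] at h1
    exact h1
  | add y z _ _ hy hz =>
    obtain ⟨k, hk⟩ := hy
    obtain ⟨l, hl⟩ := hz
    refine ⟨k + l, ?_⟩
    have h1 := hraise k l y hk
    have h2 := hraise l k z hl
    rw [add_comm l k] at h2
    have := add_mem h1 h2
    rw [← map_add] at this
    have h3 : ((0 : R), y) + ((0 : R), z) = ((0 : R), y + z) := by
      ext <;> simp
    rw [h3] at this
    exact this
  | mul y z _ _ hy hz =>
    obtain ⟨k, hk⟩ := hy
    obtain ⟨l, hl⟩ := hz
    refine ⟨k + l, ?_⟩
    have := mul_mem hk hl
    rw [monomial_mul_monomial] at this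
    have h3 : ((0 : R), y) * ((0 : R), z) = ((0 : R), y * z) := by
      ext <;> simp
    rw [h3] at this
    exact this

section SubT

variable (R R') in
/-- The underlying type of the graded subalgebra, as a commutative `R`-algebra in its own right. -/
def SubT (s' : Set R') : Type u := ↥(sub R R' s')

variable (s' : Set R')

noncomputable instance SubT.commRing : CommRing (SubT R R' s') :=
  inferInstanceAs (CommRing ↥(sub R R' s'))

noncomputable instance SubT.algebra : Algebra R (SubT R R' s') :=
  inferInstanceAs (Algebra R ↥(sub R R' s'))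

/-- The inclusion of `S` into the polynomial ring. -/
noncomputable def val : SubT R R' s' →ₐ[R] (R × R')[X] := (sub R R' s').val

theorem val_injective : Function.Injective (val (R := R) s') := Subtype.val_injective

theorem val_mem (x : SubT R R' s') : val s' x ∈ sub R R' s' :=
  Subtype.property (p := fun p => p ∈ sub R R' s') x

/-- Constructor for elements of `S`. -/
def mk (p : (R × R')[X]) (hp : p ∈ sub R R' s') : SubT R R' s' := ⟨p, hp⟩

theorem val_mk (p : (R × R')[X]) (hp : p ∈ sub R R' s') : val s' (mk s' p hp) = p := rfl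

end SubT

section Grading

variable (s' : Set R')

/-- The grading of `S` by degree. -/
noncomputable def grading (d : ℕ) : Submodule R (SubT R R' s') :=
  (LinearMap.range ((monomial d : (R × R') →ₗ[R × R'] (R × R')[X]).restrictScalars R)).comap
    (val s').toLinearMap

theorem mem_grading_iff {d : ℕ} {x : SubT R R' s'} :
    x ∈ grading s' d ↔ ∃ c, monomial d c = val s' x := Iff.rfl

instance gradedMonoid : SetLike.GradedMonoid (grading (R := R) s') where
  one_mem := (mem_grading_iff s').mpr ⟨1, by simp⟩
  mul_mem := by
    rintro i j x y hx hy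
    obtain ⟨a, ha⟩ := (mem_grading_iff s').mp hx
    obtain ⟨b, hb⟩ := (mem_grading_iff s').mp hy
    refine (mem_grading_iff s').mpr ⟨a * b, ?_⟩
    rw [← monomial_mul_monomial, ha, hb, map_mul]

theorem coeff_coe_eq (z : DirectSum ℕ fun d => grading (R := R) s' d) (d : ℕ) :
    (val s' (DirectSum.coeAddMonoidHom (grading (R := R) s') z)).coeff d =
      (val s' (z d : SubT R R' s')).coeff d := by
  induction z using DirectSum.induction_on with
  | zero => simp
  | of i x =>
    rw [DirectSum.coeAddMonoidHom_of]
    by_cases h : i = d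
    · subst h
      rw [DirectSum.of_eq_same]
    · rw [DirectSum.of_eq_of_ne _ _ _ (Ne.symm h)]
      obtain ⟨c, hc⟩ := (mem_grading_iff s').mp x.2
      rw [← hc, coeff_monomial, if_neg h]
      simp
  | add x y hx hy =>
    rw [map_add, map_add, DirectSum.add_apply, Submodule.coe_add, map_add, coeff_add, hx, hy,
      coeff_add]

theorem isInternal : DirectSum.IsInternal (grading (R := R) s') := by
  classical
  constructor
  · intro z w hzw
    refine DFinsupp.ext fun d => Subtype.ext (val_injective s' ?_)
    have h1 := coeff_coe_eq s' z d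
    have h2 := coeff_coe_eq s' w d
    rw [hzw, h2] at h1
    obtain ⟨c, hc⟩ := (mem_grading_iff s').mp (z d).2
    obtain ⟨c', hc'⟩ := (mem_grading_iff s').mp (w d).2
    rw [← hc, ← hc', coeff_monomial, coeff_monomial, if_pos rfl, if_pos rfl] at h1
    rw [← hc, ← hc', h1]
  · intro x
    refine ⟨∑ d ∈ (val s' x).support, DirectSum.of (fun d => grading (R := R) s' d) d
      ⟨mk s' (monomial d ((val s' x).coeff d)) (monomial_coeff_mem s' (val_mem s' x) d),
        (mem_grading_iff s').mpr ⟨_, rfl⟩⟩, ?_⟩
    apply val_injective s'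
    rw [map_sum]
    simp only [DirectSum.coeAddMonoidHom_of]
    rw [map_sum]
    simp only [val_mk]
    exact (val s' x).sum_monomial_eq

noncomputable instance gradedAlgebra : GradedAlgebra (grading (R := R) s') :=
  DirectSum.IsInternal.gradedAlgebra (isInternal s')

end Grading

section Away

variable (s' : Set R')

/-- Evaluation at `X = 1` followed by the second projection. -/
noncomputable def rhoT : (R × R')[X] →ₐ[R] R' :=
  (AlgHom.snd R R R').comp ((Polynomial.aeval (1 : R × R')).restrictScalars R)

theorem rhoT_monomial (d : ℕ) (c : R × R') : rhoT (monomial d c) = c.2 := by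
  simp [rhoT]

/-- The restriction of `rhoT` to `S`. -/
noncomputable def rho : SubT R R' s' →ₐ[R] R' := rhoT.comp (val s')

theorem rho_apply (x : SubT R R' s') : rho s' x = rhoT (val s' x) := rfl

/-- The degree one element `f = (0, 1) X`. -/
noncomputable def fElt : SubT R R' s' := mk s' (monomial 1 ((0 : R), (1 : R'))) (fGen_mem s')

theorem val_fElt : val s' (fElt (R := R) s') = monomial 1 ((0 : R), (1 : R')) := rfl

theorem fElt_mem : fElt (R := R) s' ∈ grading (R := R) s' 1 :=
  (mem_grading_iff s').mpr ⟨_, rfl⟩

theorem rho_fElt : rho s' (fElt (R := R) s') = 1 := rhoT_monomial _ _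

/-- The ring map from the degree zero part of `S_f` to `R'`. -/
noncomputable def e0 :
    HomogeneousLocalization.Away (grading (R := R) s') (fElt (R := R) s') →+* R' :=
  (IsLocalization.Away.lift (S := Localization.Away (fElt (R := R) s')) (fElt (R := R) s')
    (g := (rho s').toRingHom) (by
      show IsUnit (rho s' (fElt (R := R) s'))
      rw [rho_fElt]; exact isUnit_one)).comp
    (algebraMap _ (Localization.Away (fElt (R := R) s')))

theorem e0_mk (n : ℕ) (x : SubT R R' s') (hx : x ∈ grading (R := R) s' (n • 1)) :
    e0 s' (HomogeneousLocalization.Away.mk _ (fElt_mem s') n x hx) = rho s' x := by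
  simp only [e0, RingHom.comp_apply, HomogeneousLocalization.algebraMap_apply,
    HomogeneousLocalization.Away.val_mk]
  rw [Localization.mk_eq_mk', IsLocalization.Away.lift, IsLocalization.lift_mk'_spec]
  simp [rho_fElt]

theorem e0_injective : Function.Injective (e0 (R := R) s') := by
  rw [injective_iff_map_eq_zero]
  intro z hz
  obtain ⟨n, a, ha, rfl⟩ := HomogeneousLocalization.Away.mk_surjective _ (fElt_mem s') z
  rw [e0_mk] at hz
  apply HomogeneousLocalization.val_injective
  rw [HomogeneousLocalization.Away.val_mk, HomogeneousLocalization.val_zero,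
    Localization.mk_eq_mk', IsLocalization.mk'_eq_zero_iff]
  refine ⟨⟨fElt s', 1, pow_one _⟩, ?_⟩
  obtain ⟨c, hc⟩ := (mem_grading_iff s').mp ha
  have hc2 : c.2 = 0 := by
    rw [rho_apply, ← hc, rhoT_monomial] at hz
    exact hz
  show fElt s' * a = 0
  apply val_injective s'
  rw [map_mul, map_zero, val_fElt, ← hc, monomial_mul_monomial]
  have h2 : ((0 : R), (1 : R')) * c = 0 := by
    ext
    · simp
    · simp [hc2]
  rw [h2, map_zero]

theorem e0_surjective (hs' : Algebra.adjoin R s' = ⊤) : Function.Surjective (e0 (R := R) s') := by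
  intro (y : R')
  have hy : y ∈ Algebra.adjoin R s' := by rw [hs']; trivial
  obtain ⟨k, hk⟩ := exists_monomial_mem (R := R) s' hy
  refine ⟨HomogeneousLocalization.Away.mk _ (fElt_mem s') k (mk s' _ hk)
    ((mem_grading_iff s').mpr ⟨((0 : R), y), by simp [val_mk]⟩), ?_⟩
  rw [e0_mk]
  exact rhoT_monomial _ _

theorem algebraMap_injective : Function.Injective (algebraMap R (SubT R R' s')) := by
  intro r r' h
  have h1 := congrArg (val s') h
  rw [AlgHom.commutes, AlgHom.commutes, Polynomial.algebraMap_apply,
    Polynomial.algebraMap_apply] at h1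
  have h2 := Polynomial.C_injective h1
  exact congrArg Prod.fst h2

theorem mem_range_of_mem_grading_zero {x : SubT R R' s'} (hx : x ∈ grading (R := R) s' 0) :
    x ∈ Set.range (algebraMap R (SubT R R' s')) := by
  obtain ⟨c, hc⟩ := (mem_grading_iff s').mp hx
  obtain ⟨r, hr⟩ := coeff_zero_mem s' (val_mem s' x)
  rw [← hc, coeff_monomial, if_pos rfl] at hr
  refine ⟨r, val_injective s' ?_⟩
  rw [AlgHom.commutes, ← hc, hr, Polynomial.algebraMap_apply, monomial_zero_left]

/-- The generators, as a subset of `S`. -/
noncomputable def gensS : Set (SubT R R' s') := val s' ⁻¹' gens R R' s'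

theorem gensS_finite (hfin : s'.Finite) : (gensS (R := R) s').Finite :=
  Set.Finite.preimage (val_injective s').injOn ((hfin.insert 1).image _)

theorem gensS_subset : gensS (R := R) s' ⊆ (grading (R := R) s' 1 : Set (SubT R R' s')) := by
  rintro x ⟨y, _, hy⟩
  exact (mem_grading_iff s').mpr ⟨_, hy⟩

theorem adjoin_gensS : Algebra.adjoin R (gensS (R := R) s') = ⊤ :=
  Algebra.adjoin_adjoin_coe_preimage

theorem algebraMap_mem_grading (r : R) :
    algebraMap R (SubT R R' s') r ∈ grading (R := R) s' (0 • 1) :=
  (mem_grading_iff s').mpr ⟨algebraMap R (R × R') r, by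
    rw [AlgHom.commutes, Polynomial.algebraMap_apply, zero_smul, monomial_zero_left]⟩

theorem e0_algebraMap (r : R) :
    e0 s' (HomogeneousLocalization.Away.mk _ (fElt_mem s') 0 (algebraMap R (SubT R R' s') r)
      (algebraMap_mem_grading s' r)) = algebraMap R R' r := by
  rw [e0_mk]
  exact AlgHom.commutes (rho (R := R) s') r

theorem val_mk_algebraMap (r : R) :
    (HomogeneousLocalization.Away.mk _ (fElt_mem s') 0 (algebraMap R (SubT R R' s') r)
      (algebraMap_mem_grading s' r)).val =
      algebraMap (SubT R R' s') (Localization.Away (fElt (R := R) s'))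
        (algebraMap R (SubT R R' s') r) := by
  rw [HomogeneousLocalization.Away.val_mk, Localization.mk_eq_mk',
    IsLocalization.mk'_eq_iff_eq_mul]
  simp

end Away

end Groth.Agent.Lib.Helper96.ReesAway
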