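import Mathlib

/-!
# Semilinear endomorphisms of finite-dimensional vector spaces (helper96)

`T : V →ₛₗ[σ] V` with `σ : k →+* k` a ring endomorphism of a field.
-/

set_option autoImplicit false

namespace Groth.Agent.Lib.Helper96
namespace SigmaLin

universe u v

section General

variable {k : Type u} [Field k] {σ : k →+* k} {V : Type v} [AddCommGroup V] [Module k V]

/-- The span of the image of the `n`-th iterate. -/
def W (T : V →ₛₗ[σ] V) (n : ℕ) : Submodule k V := Submodule.span k (Set.range ((⇑T)^[n]))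

/-- The span of the image of a submodule. -/
def imgSpan (T : V →ₛₗ[σ] V) (U : Submodule k V) : Submodule k V := Submodule.span k (T '' U)

theorem iterate_zero_apply (T : V →ₛₗ[σ] V) (n : ℕ) : (⇑T)^[n] 0 = 0 := by
  induction n with
  | zero => rfl
  | succ n ih => rw [Function.iterate_succ_apply', ih, map_zero]

theorem iterate_add (T : V →ₛₗ[σ] V) (n : ℕ) (a b : V) :
    (⇑T)^[n] (a + b) = (⇑T)^[n] a + (⇑T)^[n] b := by
  induction n with
  | zero => rfl
  | succ n ih => rw [Function.iterate_succ_apply', ih, map_add, ← Function.iterate_succ_apply' (⇑T),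
      ← Function.iterate_succ_apply' (⇑T)]

theorem iterate_neg (T : V →ₛₗ[σ] V) (n : ℕ) (a : V) :
    (⇑T)^[n] (-a) = -(⇑T)^[n] a := by
  induction n with
  | zero => rfl
  | succ n ih => rw [Function.iterate_succ_apply', ih, map_neg, ← Function.iterate_succ_apply' (⇑T)]

theorem iterate_sub (T : V →ₛₗ[σ] V) (n : ℕ) (a b : V) :
    (⇑T)^[n] (a - b) = (⇑T)^[n] a - (⇑T)^[n] b := by
  rw [sub_eq_add_neg, iterate_add, iterate_neg, ← sub_eq_add_neg]

theorem iterate_smul (T : V →ₛₗ[σ] V) (n : ℕ) (c : k) (a : V) :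
    (⇑T)^[n] (c • a) = (⇑σ)^[n] c • (⇑T)^[n] a := by
  induction n with
  | zero => rfl
  | succ n ih =>
    rw [Function.iterate_succ_apply', ih, LinearMap.map_smulₛₗ, ← Function.iterate_succ_apply' (⇑T),
      ← Function.iterate_succ_apply' (⇑σ)]

theorem map_mem_imgSpan (T : V →ₛₗ[σ] V) {U : Submodule k V} {u : V} (hu : u ∈ U) :
    T u ∈ imgSpan T U := Submodule.subset_span ⟨u, hu, rfl⟩

theorem imgSpan_mono (T : V →ₛₗ[σ] V) {U U' : Submodule k V} (h : U ≤ U') :
    imgSpan T U ≤ imgSpan T U' :=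
  Submodule.span_mono (Set.image_mono h)

/-- `T` maps `span s` into `span (T '' s)`. -/
theorem map_mem_span_image (T : V →ₛₗ[σ] V) {s : Set V} {x : V} (hx : x ∈ Submodule.span k s) :
    T x ∈ Submodule.span k (T '' s) := by
  induction hx using Submodule.span_induction with
  | mem x hx => exact Submodule.subset_span ⟨x, hx, rfl⟩
  | zero => rw [map_zero]; exact Submodule.zero_mem _
  | add x y _ _ hx hy => rw [map_add]; exact Submodule.add_mem _ hx hy
  | smul c x _ hx => rw [LinearMap.map_smulₛₗ]; exact Submodule.smul_mem _ _ hx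

theorem imgSpan_span (T : V →ₛₗ[σ] V) (s : Set V) :
    imgSpan T (Submodule.span k s) = Submodule.span k (T '' s) := by
  apply le_antisymm
  · refine Submodule.span_le.mpr ?_
    rintro _ ⟨x, hx, rfl⟩
    exact map_mem_span_image T hx
  · exact Submodule.span_mono (Set.image_mono Submodule.subset_span)

theorem W_zero (T : V →ₛₗ[σ] V) : W T 0 = ⊤ := by
  simp [W]

theorem W_succ (T : V →ₛₗ[σ] V) (n : ℕ) : W T (n + 1) = imgSpan T (W T n) := by
  rw [W, W, imgSpan_span, Function.iterate_succ', Set.range_comp]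

theorem W_succ_le (T : V →ₛₗ[σ] V) (n : ℕ) : W T (n + 1) ≤ W T n := by
  refine Submodule.span_mono ?_
  rintro _ ⟨x, rfl⟩
  exact ⟨T x, by rw [Function.iterate_succ_apply]⟩

theorem W_antitone (T : V →ₛₗ[σ] V) : Antitone (W T) :=
  antitone_nat_of_succ_le (W_succ_le T)

/-- The eventual image. -/
def Winf (T : V →ₛₗ[σ] V) : Submodule k V := ⨅ n, W T n

theorem Winf_le (T : V →ₛₗ[σ] V) (n : ℕ) : Winf T ≤ W T n := iInf_le _ n

theorem exists_W_stable [FiniteDimensional k V] (T : V →ₛₗ[σ] V) :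
    ∃ N, ∀ m, N ≤ m → W T m = W T N := by
  obtain ⟨N, hN⟩ := IsArtinian.monotone_stabilizes
    (⟨fun n => OrderDual.toDual (W T n), fun a b h => W_antitone T h⟩ : ℕ →o (Submodule k V)ᵒᵈ)
  exact ⟨N, fun m hm => (OrderDual.toDual.injective (hN m hm)).symm⟩

theorem exists_Winf_eq [FiniteDimensional k V] (T : V →ₛₗ[σ] V) :
    ∃ N, ∀ m, N ≤ m → W T m = Winf T := by
  obtain ⟨N, hN⟩ := exists_W_stable T
  have h : W T N = Winf T := by
    apply le_antisymm
    · refine le_iInf fun n => ?_
      rcases le_total N n with h | h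
      · rw [hN n h]
      · exact W_antitone T h
    · exact Winf_le T N
  exact ⟨N, fun m hm => (hN m hm).trans h⟩

theorem imgSpan_Winf [FiniteDimensional k V] (T : V →ₛₗ[σ] V) : imgSpan T (Winf T) = Winf T := by
  obtain ⟨N, hN⟩ := exists_Winf_eq T
  rw [← hN N le_rfl, ← W_succ, hN N le_rfl, hN (N + 1) (Nat.le_succ N)]

theorem mapsTo_Winf [FiniteDimensional k V] (T : V →ₛₗ[σ] V) :
    Set.MapsTo T (Winf T : Set V) (Winf T : Set V) := by
  intro v hv
  have := map_mem_imgSpan T hv
  rwa [imgSpan_Winf] at this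

/-- If the image of a finite-dimensional subspace `U` spans `U`, then `T` kills no nonzero
vector of `U`. -/
theorem eq_zero_of_map_eq_zero_of_imgSpan_eq (T : V →ₛₗ[σ] V) (U : Submodule k V)
    [FiniteDimensional k U] (h : imgSpan T U = U) {u : V} (hu : u ∈ U) (hTu : T u = 0) : u = 0 := by
  classical
  set d := Module.finrank k U
  let b : Module.Basis (Fin d) k U := Module.finBasis k U
  let w : Fin d → V := fun i => T (b i : V)
  have hspan : Submodule.span k (Set.range w) = U := by
    apply le_antisymm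
    · rw [Submodule.span_le]
      rintro _ ⟨i, rfl⟩
      have : T (b i : V) ∈ imgSpan T U := map_mem_imgSpan T (b i).2
      rwa [h] at this
    · conv_lhs => rw [← h]
      refine Submodule.span_le.mpr ?_
      rintro _ ⟨x, hx, rfl⟩
      have hx' : x = ∑ i, (b.repr ⟨x, hx⟩ i) • (b i : V) := by
        have := congrArg (Subtype.val) (b.sum_repr ⟨x, hx⟩)
        rw [Submodule.coe_sum] at this
        exact this.symm
      rw [hx', map_sum]
      refine Submodule.sum_mem _ fun i _ => ?_
      rw [LinearMap.map_smulₛₗ]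
      exact Submodule.smul_mem _ _ (Submodule.subset_span ⟨i, rfl⟩)
  have hli : LinearIndependent k w := by
    rw [linearIndependent_iff_card_eq_finrank_span, Set.finrank, hspan]
    simp [d]
  have hu' : u = ∑ i, (b.repr ⟨u, hu⟩ i) • (b i : V) := by
    have := congrArg (Subtype.val) (b.sum_repr ⟨u, hu⟩)
    rw [Submodule.coe_sum] at this
    exact this.symm
  have hT : ∑ i, σ (b.repr ⟨u, hu⟩ i) • w i = 0 := by
    have h1 : T (∑ i, (b.repr ⟨u, hu⟩ i) • (b i : V)) = 0 := by rw [← hu', hTu]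
    rw [map_sum] at h1
    rw [← h1]
    refine Finset.sum_congr rfl fun i _ => ?_
    rw [LinearMap.map_smulₛₗ]
  have hc : ∀ i, b.repr ⟨u, hu⟩ i = 0 := by
    intro i
    have := Fintype.linearIndependent_iff.mp hli _ hT i
    exact (map_eq_zero σ).mp this
  rw [hu']
  exact Finset.sum_eq_zero fun i _ => by rw [hc i, zero_smul]

theorem eq_zero_of_map_eq_zero_of_mem_Winf [FiniteDimensional k V] (T : V →ₛₗ[σ] V) {u : V}
    (hu : u ∈ Winf T) (hTu : T u = 0) : u = 0 :=
  eq_zero_of_map_eq_zero_of_imgSpan_eq T (Winf T) (imgSpan_Winf T) hu hTu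

theorem injOn_Winf [FiniteDimensional k V] (T : V →ₛₗ[σ] V) : Set.InjOn T (Winf T : Set V) := by
  intro a ha b hb hab
  have : a - b = 0 := eq_zero_of_map_eq_zero_of_mem_Winf T (Submodule.sub_mem _ ha hb)
    (by rw [map_sub, hab, sub_self])
  exact sub_eq_zero.mp this

theorem eq_zero_of_iterate_eq_zero_of_mem_Winf [FiniteDimensional k V] (T : V →ₛₗ[σ] V) (n : ℕ)
    {u : V} (hu : u ∈ Winf T) (hTu : (⇑T)^[n] u = 0) : u = 0 := by
  induction n generalizing u with
  | zero => exact hTu
  | succ n ih =>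
    rw [Function.iterate_succ_apply] at hTu
    exact eq_zero_of_map_eq_zero_of_mem_Winf T hu (ih (mapsTo_Winf T hu) hTu)

end General


section Kernels

variable {k : Type u} [Field k] {σ : k →+* k} {V : Type v} [AddCommGroup V] [Module k V]

/-- The kernel of the `n`-th iterate, as a subspace. -/
def kerIter (T : V →ₛₗ[σ] V) (n : ℕ) : Submodule k V where
  carrier := {v | (⇑T)^[n] v = 0}
  add_mem' := by
    intro a b ha hb
    simp only [Set.mem_ofPred_eq] at ha hb ⊢
    rw [iterate_add, ha, hb, add_zero]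
  zero_mem' := iterate_zero_apply T n
  smul_mem' := by
    intro c a ha
    simp only [Set.mem_ofPred_eq] at ha ⊢
    rw [iterate_smul, ha, smul_zero]

theorem mem_kerIter (T : V →ₛₗ[σ] V) (n : ℕ) (v : V) : v ∈ kerIter T n ↔ (⇑T)^[n] v = 0 := Iff.rfl

theorem kerIter_mono (T : V →ₛₗ[σ] V) : Monotone (kerIter T) := by
  refine monotone_nat_of_le_succ fun n v hv => ?_
  rw [mem_kerIter] at hv ⊢
  rw [Function.iterate_succ_apply', hv, map_zero]

/-- The generalized kernel. -/
def kerInf (T : V →ₛₗ[σ] V) : Submodule k V := ⨆ n, kerIter T n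

theorem exists_kerIter_eq [FiniteDimensional k V] (T : V →ₛₗ[σ] V) :
    ∃ N, ∀ m, N ≤ m → kerIter T m = kerInf T := by
  obtain ⟨N, hN⟩ := monotone_stabilizes_iff_noetherian.mpr (inferInstance : IsNoetherian k V)
    ⟨kerIter T, kerIter_mono T⟩
  have hN' : ∀ m, N ≤ m → kerIter T N = kerIter T m := hN
  have h : kerIter T N = kerInf T := by
    apply le_antisymm
    · exact le_iSup (kerIter T) N
    · refine iSup_le fun n => ?_
      rcases le_total N n with h | h
      · rw [← hN' n h]
      · exact kerIter_mono T h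
  exact ⟨N, fun m hm => (hN' m hm).symm.trans h⟩

theorem mem_kerInf_iff [FiniteDimensional k V] (T : V →ₛₗ[σ] V) (v : V) :
    v ∈ kerInf T ↔ ∃ n, (⇑T)^[n] v = 0 := by
  constructor
  · intro hv
    obtain ⟨N, hN⟩ := exists_kerIter_eq T
    rw [← hN N le_rfl] at hv
    exact ⟨N, hv⟩
  · rintro ⟨n, hn⟩
    exact (le_iSup (kerIter T) n) hn

theorem disjoint_kerInf_Winf [FiniteDimensional k V] (T : V →ₛₗ[σ] V) :
    Disjoint (kerInf T) (Winf T) := by
  rw [Submodule.disjoint_def]
  intro v hv hv'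
  obtain ⟨n, hn⟩ := (mem_kerInf_iff T v).mp hv
  exact eq_zero_of_iterate_eq_zero_of_mem_Winf T n hv' hn

end Kernels

section Surjective

variable {k : Type u} [Field k] {σ : k →+* k} {V : Type v} [AddCommGroup V] [Module k V]

/-- When `σ` is surjective, the image of a subspace is already a subspace. -/
theorem coe_imgSpan_of_surjective (hσ : Function.Surjective σ) (T : V →ₛₗ[σ] V)
    (U : Submodule k V) : (imgSpan T U : Set V) = T '' U := by
  apply Set.Subset.antisymm
  · intro x hx
    change x ∈ Submodule.span k (T '' U) at hx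
    induction hx using Submodule.span_induction with
    | mem x hx => exact hx
    | zero => exact ⟨0, U.zero_mem, map_zero T⟩
    | add x y _ _ hx hy =>
      obtain ⟨a, ha, rfl⟩ := hx
      obtain ⟨b, hb, rfl⟩ := hy
      exact ⟨a + b, U.add_mem ha hb, map_add T a b⟩
    | smul c x _ hx =>
      obtain ⟨a, ha, rfl⟩ := hx
      obtain ⟨c', rfl⟩ := hσ c
      exact ⟨c' • a, U.smul_mem c' ha, LinearMap.map_smulₛₗ T c' a⟩
  · exact Submodule.subset_span

theorem coe_W_of_surjective (hσ : Function.Surjective σ) (T : V →ₛₗ[σ] V) (n : ℕ) :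
    (W T n : Set V) = Set.range ((⇑T)^[n]) := by
  induction n with
  | zero => rw [W_zero]; simp
  | succ n ih =>
    rw [W_succ, coe_imgSpan_of_surjective hσ, ih, Function.iterate_succ', Set.range_comp]

theorem surjOn_Winf [FiniteDimensional k V] (hσ : Function.Surjective σ) (T : V →ₛₗ[σ] V) :
    Set.SurjOn T (Winf T : Set V) (Winf T : Set V) := by
  intro v hv
  have : v ∈ (imgSpan T (Winf T) : Set V) := by rw [imgSpan_Winf]; exact hv
  rwa [coe_imgSpan_of_surjective hσ] at this

theorem bijOn_Winf [FiniteDimensional k V] (hσ : Function.Surjective σ) (T : V →ₛₗ[σ] V) :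
    Set.BijOn T (Winf T : Set V) (Winf T : Set V) :=
  ⟨mapsTo_Winf T, injOn_Winf T, surjOn_Winf hσ T⟩

theorem codisjoint_kerInf_Winf [FiniteDimensional k V] (hσ : Function.Surjective σ)
    (T : V →ₛₗ[σ] V) : Codisjoint (kerInf T) (Winf T) := by
  rw [codisjoint_iff, eq_top_iff]
  intro v _
  obtain ⟨N₁, hN₁⟩ := exists_kerIter_eq T
  obtain ⟨N₂, hN₂⟩ := exists_Winf_eq T
  set N := max N₁ N₂
  have h1 : (⇑T)^[N] v ∈ (W T (N + N) : Set V) := by
    have : (⇑T)^[N] v ∈ W T N := Submodule.subset_span ⟨v, rfl⟩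
    rw [hN₂ N (le_max_right _ _)] at this
    rw [hN₂ (N + N) (le_trans (le_max_right _ _) (Nat.le_add_right _ _))]
    exact this
  rw [coe_W_of_surjective hσ] at h1
  obtain ⟨u, hu⟩ := h1
  rw [Function.iterate_add_apply] at hu
  have h2 : v - (⇑T)^[N] u ∈ kerInf T := by
    rw [← hN₁ N (le_max_left _ _), mem_kerIter, iterate_sub, hu, sub_self]
  have h3 : (⇑T)^[N] u ∈ Winf T := by
    rw [← hN₂ N (le_max_right _ _)]
    exact Submodule.subset_span ⟨u, rfl⟩
  have : v = (v - (⇑T)^[N] u) + (⇑T)^[N] u := by abel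
  rw [this]
  exact Submodule.add_mem_sup h2 h3

theorem isCompl_kerInf_Winf [FiniteDimensional k V] (hσ : Function.Surjective σ)
    (T : V →ₛₗ[σ] V) : IsCompl (kerInf T) (Winf T) :=
  ⟨disjoint_kerInf_Winf T, codisjoint_kerInf_Winf hσ T⟩

end Surjective

end SigmaLin
end Groth.Agent.Lib.Helper96
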