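import Groth.Agent.Lib.Helper96.SigmaLinFix

/-!
# Bases of fixed vectors for semilinear endomorphisms (helper96)
-/

set_option autoImplicit false

namespace Groth.Agent.Lib.Helper96
namespace SigmaLin

universe u v

section Basis

variable {k : Type u} [Field k] {σ : k →+* k} {V : Type v} [AddCommGroup V] [Module k V]

/-- The set of fixed vectors. -/
def fixedSet (T : V →ₛₗ[σ] V) : Set V := {v | T v = v}

/-- The span of the fixed vectors. -/
def fixedSpan (T : V →ₛₗ[σ] V) : Submodule k V := Submodule.span k (fixedSet T)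

theorem exists_sub_map_eq_smul_of_mem_fixedSpan (T : V →ₛₗ[σ] V) (h3 : Hyp3 σ) {u : V}
    (hu : u ∈ fixedSpan T) : ∀ c : k, ∃ w ∈ fixedSpan T, w - T w = c • u := by
  induction hu using Submodule.span_induction with
  | mem u hu =>
    intro c
    obtain ⟨y, hy⟩ := h3 (-c)
    refine ⟨(-y) • u, Submodule.smul_mem _ _ (Submodule.subset_span hu), ?_⟩
    have hu' : T u = u := hu
    rw [LinearMap.map_smulₛₗ, hu', ← sub_smul]
    congr 1
    rw [map_neg]
    linear_combination hy
  | zero =>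
    intro c
    exact ⟨0, Submodule.zero_mem _, by simp⟩
  | add x y _ _ hx hy =>
    intro c
    obtain ⟨w1, hw1, h1⟩ := hx c
    obtain ⟨w2, hw2, h2⟩ := hy c
    refine ⟨w1 + w2, Submodule.add_mem _ hw1 hw2, ?_⟩
    rw [map_add, smul_add, ← h1, ← h2]
    abel
  | smul c' x _ hx =>
    intro c
    obtain ⟨w, hw, h⟩ := hx (c * c')
    exact ⟨w, hw, by rw [h, mul_smul]⟩

theorem exists_sub_map_eq_of_mem_fixedSpan (T : V →ₛₗ[σ] V) (h3 : Hyp3 σ) {u : V}
    (hu : u ∈ fixedSpan T) : ∃ w ∈ fixedSpan T, w - T w = u := by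
  obtain ⟨w, hw, h⟩ := exists_sub_map_eq_smul_of_mem_fixedSpan T h3 hu 1
  exact ⟨w, hw, by rw [h, one_smul]⟩

theorem fixedSpan_le_comap (T : V →ₛₗ[σ] V) : fixedSpan T ≤ (fixedSpan T).comap T := by
  intro x hx
  rw [Submodule.mem_comap]
  have := map_mem_span_image T hx
  refine Submodule.span_mono ?_ this
  rintro _ ⟨f, hf, rfl⟩
  have hf' : T f = f := hf
  rw [hf']; exact hf

theorem W_eq_top_of_span_range_eq_top (T : V →ₛₗ[σ] V)
    (h1 : Submodule.span k (Set.range ⇑T) = ⊤) (n : ℕ) : W T n = ⊤ := by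
  induction n with
  | zero => exact W_zero T
  | succ n ih =>
    rw [W_succ, ih, imgSpan]
    simpa using h1

theorem Winf_eq_top_of_span_range_eq_top (T : V →ₛₗ[σ] V)
    (h1 : Submodule.span k (Set.range ⇑T) = ⊤) : Winf T = ⊤ := by
  rw [Winf]
  simp [W_eq_top_of_span_range_eq_top T h1]

theorem fixedSpan_eq_top [FiniteDimensional k V] (T : V →ₛₗ[σ] V)
    (h1 : Submodule.span k (Set.range ⇑T) = ⊤) (h2 : Hyp2 σ) (h3 : Hyp3 σ) :
    fixedSpan T = ⊤ := by
  by_contra hne
  set U := fixedSpan T with hU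
  let Tq : (V ⧸ U) →ₛₗ[σ] (V ⧸ U) := U.mapQ U T (fixedSpan_le_comap T)
  have hTq : ∀ x : V, Tq (U.mkQ x) = U.mkQ (T x) := fun x => rfl
  have h1q : Submodule.span k (Set.range ⇑Tq) = ⊤ := by
    rw [eq_top_iff]
    rintro x -
    obtain ⟨x, rfl⟩ := U.mkQ_surjective x
    have hx : x ∈ Submodule.span k (Set.range ⇑T) := by rw [h1]; trivial
    induction hx using Submodule.span_induction with
    | mem x hx =>
      obtain ⟨z, rfl⟩ := hx
      exact Submodule.subset_span ⟨U.mkQ z, hTq z⟩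
    | zero => rw [map_zero]; exact Submodule.zero_mem _
    | add x y _ _ hx hy => rw [map_add]; exact Submodule.add_mem _ hx hy
    | smul c x _ hx => rw [map_smul]; exact Submodule.smul_mem _ _ hx
  have hnt : Nontrivial (V ⧸ U) := Submodule.Quotient.nontrivial_iff.mpr hne
  obtain ⟨ebar, hebar⟩ := exists_ne (0 : V ⧸ U)
  have hiter : ∀ m : ℕ, (⇑Tq)^[m] ebar ≠ 0 := by
    intro m hm
    apply hebar
    refine eq_zero_of_iterate_eq_zero_of_mem_Winf Tq m ?_ hm
    rw [Winf_eq_top_of_span_range_eq_top Tq h1q]; trivial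
  obtain ⟨vbar, -, hvne, hvfix⟩ := exists_fixed_in_orbit Tq h2 ebar hiter
  obtain ⟨v, rfl⟩ := U.mkQ_surjective vbar
  have hmem : T v - v ∈ U := by
    rw [← Submodule.Quotient.mk_eq_zero, Submodule.Quotient.mk_sub]
    have : U.mkQ (T v) = U.mkQ v := by rw [← hTq, hvfix]
    exact sub_eq_zero.mpr this
  obtain ⟨w, hw, hwT⟩ := exists_sub_map_eq_of_mem_fixedSpan T h3 hmem
  have hfix : T (v + w) = v + w := by
    rw [map_add]
    have : T v + T w - (v + w) = 0 := by
      have : T v + T w - (v + w) = (T v - v) - (w - T w) := by abel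
      rw [this, hwT, sub_self]
    exact sub_eq_zero.mp this
  have hvU : v ∈ U := by
    have h : v + w ∈ U := Submodule.subset_span hfix
    have : v = (v + w) - w := by abel
    rw [this]
    exact Submodule.sub_mem _ h hw
  apply hvne
  exact (Submodule.Quotient.mk_eq_zero U).mpr hvU

theorem exists_basis_fixed [FiniteDimensional k V] (T : V →ₛₗ[σ] V)
    (h1 : Submodule.span k (Set.range ⇑T) = ⊤) (h2 : Hyp2 σ) (h3 : Hyp3 σ) :
    ∃ b : Module.Basis (Fin (Module.finrank k V)) k V, ∀ i, T (b i) = b i := by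
  have htop := fixedSpan_eq_top T h1 h2 h3
  obtain ⟨f, hfmem, hfspan, hfli⟩ := Submodule.exists_fun_fin_finrank_span_eq k (fixedSet T)
  have hspan : Submodule.span k (Set.range f) = ⊤ := by
    rw [hfspan]; exact htop
  have hcard : Module.finrank k (Submodule.span k (fixedSet T)) = Module.finrank k V := by
    have : Submodule.span k (fixedSet T) = ⊤ := htop
    rw [this, finrank_top]
  let b0 : Module.Basis (Fin (Module.finrank k (Submodule.span k (fixedSet T)))) k V :=
    Module.Basis.mk hfli (by rw [hspan])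
  refine ⟨b0.reindex (finCongr hcard), fun i => ?_⟩
  rw [Module.Basis.reindex_apply, Module.Basis.mk_apply]
  exact hfmem _

theorem sub_map_surjective [FiniteDimensional k V] (T : V →ₛₗ[σ] V)
    (h1 : Submodule.span k (Set.range ⇑T) = ⊤) (h2 : Hyp2 σ) (h3 : Hyp3 σ) :
    Function.Surjective (fun v : V => v - T v) := by
  intro u
  have hu : u ∈ fixedSpan T := by rw [fixedSpan_eq_top T h1 h2 h3]; trivial
  obtain ⟨w, -, hw⟩ := exists_sub_map_eq_of_mem_fixedSpan T h3 hu
  exact ⟨w, hw⟩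

end Basis

end SigmaLin
end Groth.Agent.Lib.Helper96
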