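import Groth.Agent.Lib.Helper96.SigmaLinLocal

/-!
# Semilinear endomorphisms of finite free modules over a ring complete for a principal maximal
ideal: lifting fixed bases from the residue field (helper96)

* `eq_zero_of_forall_pow_smul`, `exists_limit`: `π`-adic separatedness and completeness of a
  finite free module over a `π`-adically complete ring, in elementary form.
* `sub_map_surjective_of_complete`: if `1 - T` is surjective modulo `π` then it is surjective.
* `exists_basis_fixed_of_complete`: a surjective `σ`-semilinear endomorphism of a finite free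
  module has a basis of fixed vectors (under the hypotheses `Hyp2`, `Hyp3` on the residue field).
-/

set_option autoImplicit false

namespace Groth.Agent.Lib.Helper96
namespace SigmaLin

universe u v

open scoped TensorProduct

section Complete

variable {R : Type u} [CommRing R] {M : Type v} [AddCommGroup M] [Module R M]

theorem mem_span_pow_smul_top_iff (π : R) (m : ℕ) (r : R) :
    r ∈ ((Ideal.span {π}) ^ m • ⊤ : Submodule R R) ↔ ∃ c, r = π ^ m * c := by
  rw [smul_eq_mul, Ideal.mul_top, Ideal.span_singleton_pow, Ideal.mem_span_singleton']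
  constructor
  · rintro ⟨a, ha⟩; exact ⟨a, by rw [← ha, mul_comm]⟩
  · rintro ⟨c, hc⟩; exact ⟨c, by rw [hc, mul_comm]⟩

variable [Module.Free R M] [Module.Finite R M]

omit [Module.Finite R M] in
/-- `π`-adic separatedness of a finite free module. -/
theorem eq_zero_of_forall_pow_smul (π : R) [IsHausdorff (Ideal.span {π}) R] (x : M)
    (h : ∀ m : ℕ, ∃ y : M, x = π ^ m • y) : x = 0 := by
  let c := Module.Free.chooseBasis R M
  apply c.repr.injective
  rw [map_zero]
  ext i
  rw [Finsupp.zero_apply]
  apply IsHausdorff.haus (inferInstance : IsHausdorff (Ideal.span {π}) R)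
  intro m
  rw [SModEq.zero, mem_span_pow_smul_top_iff]
  obtain ⟨y, hy⟩ := h m
  exact ⟨c.repr y i, by rw [hy, map_smul, Finsupp.smul_apply, smul_eq_mul]⟩

/-- `π`-adic completeness of a finite free module. -/
theorem exists_limit (π : R) [IsPrecomplete (Ideal.span {π}) R] (s : ℕ → M)
    (hs : ∀ m, ∃ y, s (m + 1) - s m = π ^ m • y) :
    ∃ z, ∀ m, ∃ y, z - s m = π ^ m • y := by
  classical
  let c := Module.Free.chooseBasis R M
  have hmn : ∀ m n, m ≤ n → ∃ y, s n - s m = π ^ m • y := by
    intro m n hmn
    induction n, hmn using Nat.le_induction with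
    | base => exact ⟨0, by simp⟩
    | succ n hmn ih =>
      obtain ⟨y1, h1⟩ := ih
      obtain ⟨y2, h2⟩ := hs n
      refine ⟨y1 + π ^ (n - m) • y2, ?_⟩
      have h3 : s (n + 1) - s m = (s (n + 1) - s n) + (s n - s m) := by abel
      rw [h3, h1, h2, smul_add, smul_smul, ← pow_add, Nat.add_sub_cancel' hmn, add_comm]
  have hlim : ∀ i, ∃ L : R, ∀ n,
      c.repr (s n) i ≡ L [SMOD ((Ideal.span {π}) ^ n • ⊤ : Submodule R R)] := by
    intro i
    apply IsPrecomplete.prec (inferInstance : IsPrecomplete (Ideal.span {π}) R)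
    intro m n hmn'
    obtain ⟨y, hy⟩ := hmn m n hmn'
    apply SModEq.symm
    rw [SModEq.sub_mem, mem_span_pow_smul_top_iff]
    refine ⟨c.repr y i, ?_⟩
    rw [← Finsupp.sub_apply, ← map_sub, hy, map_smul, Finsupp.smul_apply, smul_eq_mul]
  choose L hL using hlim
  let z : M := ∑ i, L i • c i
  have hz : ∀ i, c.repr z i = L i := by
    intro i
    have := c.repr_sum_self L
    exact congrFun this i
  refine ⟨z, fun m => ?_⟩
  have hcoord : ∀ i, ∃ a, c.repr (z - s m) i = π ^ m * a := by
    intro i
    have h1 := (hL i m).symm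
    rw [SModEq.sub_mem, mem_span_pow_smul_top_iff] at h1
    obtain ⟨a, ha⟩ := h1
    exact ⟨a, by rw [map_sub, Finsupp.sub_apply, hz, ha]⟩
  choose a ha using hcoord
  refine ⟨∑ i, a i • c i, ?_⟩
  apply c.repr.injective
  ext i
  rw [ha, map_smul, Finsupp.smul_apply, smul_eq_mul]
  congr 1
  exact (congrFun (c.repr_sum_self a) i).symm

/-- If `1 - T` is surjective modulo a `σ`-fixed element `π` for which the ring is complete,
it is surjective. -/
theorem sub_map_surjective_of_complete {σ : R →+* R} (T : M →ₛₗ[σ] M) (π : R) (hπ : σ π = π)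
    [IsAdicComplete (Ideal.span {π}) R]
    (hmod : ∀ m : M, ∃ a b : M, m = a - T a + π • b) :
    Function.Surjective (fun m : M => m - T m) := by
  intro y
  choose A B hAB using hmod
  let yseq : ℕ → M := fun j => (B^[j]) y
  let aseq : ℕ → M := fun j => A (yseq j)
  have hy : ∀ j, yseq j = aseq j - T (aseq j) + π • yseq (j + 1) := by
    intro j
    simp only [yseq, aseq, Function.iterate_succ_apply']
    exact hAB _
  let s : ℕ → M := fun m => ∑ j ∈ Finset.range m, π ^ j • aseq j
  have hTπ : ∀ (j : ℕ) (a : M), T (π ^ j • a) = π ^ j • T a := by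
    intro j a
    rw [LinearMap.map_smulₛₗ, map_pow, hπ]
  have hs : ∀ m, y - (s m - T (s m)) = π ^ m • yseq m := by
    intro m
    induction m with
    | zero => simp [s, yseq]
    | succ m ih =>
      have h1 : s (m + 1) = s m + π ^ m • aseq m := Finset.sum_range_succ _ _
      have h2 : y - (s m + π ^ m • aseq m - (T (s m) + π ^ m • T (aseq m))) =
          (y - (s m - T (s m))) - π ^ m • (aseq m - T (aseq m)) := by
        rw [smul_sub]; abel
      rw [h1, map_add, hTπ, h2, ih]
      conv_lhs => rw [hy m]
      rw [pow_succ, mul_smul, ← smul_sub]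
      congr 1
      abel
  obtain ⟨z, hz⟩ := exists_limit π s (fun m => ⟨aseq m, by
    simp only [s]
    rw [Finset.sum_range_succ]
    abel⟩)
  refine ⟨z, ?_⟩
  have h0 : y - (z - T z) = 0 := by
    apply eq_zero_of_forall_pow_smul π
    intro m
    obtain ⟨w, hw⟩ := hz m
    have hz' : z = s m + π ^ m • w := by rw [← hw]; abel
    refine ⟨yseq m - (w - T w), ?_⟩
    rw [smul_sub, ← hs m, smul_sub, ← hTπ]
    conv_lhs => rw [hz', map_add]
    abel
  simp only
  rw [sub_eq_zero] at h0
  exact h0.symm

end Complete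

section Main2

attribute [local instance] Ideal.Quotient.field

variable {R : Type u} [CommRing R] (I : Ideal R) [hI : I.IsMaximal] {σ : R →+* R}
  (σbar : (R ⧸ I) →+* (R ⧸ I))
  (hσbar : ∀ r : R, σbar (Ideal.Quotient.mk _ r) = Ideal.Quotient.mk _ (σ r))
  {M : Type v} [AddCommGroup M] [Module R M] [Module.Finite R M] [Module.Free R M]
  (T : M →ₛₗ[σ] M)

include hσbar in
theorem sub_map_surjective_of_adicComplete (π : R) (hIπ : I = Ideal.span {π}) (hπ : σ π = π)
    [IsAdicComplete (Ideal.span {π}) R]
    (hsurj : Function.Surjective σbar) (h2 : Hyp2 σbar) (h3 : Hyp3 σbar) :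
    Function.Surjective (fun m : M => m - T m) := by
  refine sub_map_surjective_of_complete T π hπ fun m => ?_
  have hs := sub_map_surjective_of_surjective hsurj (quotMap I σbar hσbar T) h2 h3
  obtain ⟨abar, ha⟩ := hs (Submodule.Quotient.mk m)
  obtain ⟨a, rfl⟩ := Submodule.Quotient.mk_surjective _ abar
  simp only [quotMap_mk] at ha
  rw [← Submodule.Quotient.mk_sub, Submodule.Quotient.eq] at ha
  have hmem : m - (a - T a) ∈ (I • ⊤ : Submodule R M) := by
    have := Submodule.neg_mem _ ha
    rwa [neg_sub] at this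
  rw [hIπ, Submodule.ideal_span_singleton_smul, Submodule.mem_smul_pointwise_iff_exists] at hmem
  obtain ⟨b, -, hb⟩ := hmem
  refine ⟨a, b, ?_⟩
  rw [hb]; abel

include hσbar in
/-- A surjective `σ`-semilinear endomorphism of a finite free module over a ring complete for the
principal maximal ideal `(π)`, `σ π = π`, has a basis of fixed vectors. -/
theorem exists_basis_fixed_of_complete (π : R) (hIπ : I = Ideal.span {π}) (hπ : σ π = π)
    [IsAdicComplete (Ideal.span {π}) R] (hT : Function.Surjective T)
    (hsurj : Function.Surjective σbar) (h2 : Hyp2 σbar) (h3 : Hyp3 σbar) :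
    ∃ b : Module.Basis (Fin (Module.finrank R M)) R M, ∀ i, T (b i) = b i := by
  have hs1 := sub_map_surjective_of_adicComplete I σbar hσbar T π hIπ hπ hsurj h2 h3
  set Tbar := quotMap I σbar hσbar T with hTbar
  have hTbar_surj : Function.Surjective Tbar := by
    intro x
    obtain ⟨x, rfl⟩ := Submodule.Quotient.mk_surjective _ x
    obtain ⟨y, rfl⟩ := hT x
    exact ⟨Submodule.Quotient.mk y, rfl⟩
  have h1 : Submodule.span (R ⧸ I) (Set.range ⇑Tbar) = ⊤ := by
    rw [Set.range_eq_univ.mpr hTbar_surj, Submodule.span_univ]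
  obtain ⟨bbar, hbbar⟩ := exists_basis_fixed Tbar h1 h2 h3
  -- lifts
  have hlift : ∀ i, ∃ e : M, Submodule.Quotient.mk e = bbar i ∧ T e = e := by
    intro i
    obtain ⟨x0, hx0⟩ := Submodule.Quotient.mk_surjective _ (bbar i)
    have hfix : Tbar (Submodule.Quotient.mk x0) = Submodule.Quotient.mk x0 := by
      rw [hx0]; exact hbbar i
    rw [hTbar, quotMap_mk, Submodule.Quotient.eq] at hfix
    rw [hIπ, Submodule.ideal_span_singleton_smul, Submodule.mem_smul_pointwise_iff_exists] at hfix
    obtain ⟨u, -, hu⟩ := hfix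
    obtain ⟨t, ht⟩ := hs1 u
    simp only at ht
    refine ⟨x0 + π • t, ?_, ?_⟩
    · rw [← hx0, Submodule.Quotient.eq]
      have : x0 + π • t - x0 = π • t := by abel
      rw [this, hIπ]
      exact Submodule.smul_mem_smul (Ideal.subset_span rfl) Submodule.mem_top
    · have hTπ : T (π • t) = π • T t := by rw [LinearMap.map_smulₛₗ, hπ]
      rw [map_add, hTπ]
      have h4 : T x0 = x0 + π • u := by rw [hu]; abel
      rw [h4, ← ht, smul_sub]
      abel
  choose e he1 he2 using hlift
  -- spanning by Nakayama
  have hjac : I ≤ Ideal.jacobson ⊥ := by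
    rw [hIπ]
    exact IsAdicComplete.le_jacobson_bot _
  have hspan : (⊤ : Submodule R M) ≤ Submodule.span R (Set.range e) := by
    apply Submodule.le_of_le_smul_of_le_jacobson_bot (Module.Finite.fg_top) hjac
    intro x _
    have hx : (Submodule.Quotient.mk x : M ⧸ (I • ⊤ : Submodule R M)) ∈
        Submodule.span (R ⧸ I) (Set.range bbar) := by
      rw [bbar.span_eq]; trivial
    -- write mk x as combination of bbar, lift coefficients
    obtain ⟨cbar, hcbar⟩ := (Submodule.mem_span_range_iff_exists_fun (R ⧸ I)).1 hx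
    choose c hc using fun i => Ideal.Quotient.mk_surjective (cbar i)
    have h5 : (Submodule.Quotient.mk (x - ∑ i, c i • e i) : M ⧸ (I • ⊤ : Submodule R M)) = 0 := by
      rw [Submodule.Quotient.mk_sub, ← hcbar, sub_eq_zero]
      rw [← Submodule.mkQ_apply, map_sum]
      refine Finset.sum_congr rfl fun i _ => ?_
      rw [map_smul, Submodule.mkQ_apply, he1, ← hc i]
      rfl
    rw [Submodule.Quotient.mk_eq_zero] at h5
    have h6 : x = ∑ i, c i • e i + (x - ∑ i, c i • e i) := by abel
    rw [h6]
    refine Submodule.add_mem_sup ?_ h5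
    exact Submodule.sum_mem _ fun i _ => Submodule.smul_mem _ _ (Submodule.subset_span ⟨i, rfl⟩)
  -- ranks
  have hrank : Module.finrank (R ⧸ I) (M ⧸ (I • ⊤ : Submodule R M)) = Module.finrank R M := by
    haveI : Nontrivial R := by
      refine ⟨⟨0, 1, fun h01 => hI.ne_top ?_⟩⟩
      rw [Ideal.eq_top_iff_one, ← h01]
      exact I.zero_mem
    let eq : (R ⧸ I) ⊗[R] M ≃ₗ[R ⧸ I] M ⧸ (I • ⊤ : Submodule R M) :=
      (TensorProduct.quotTensorEquivQuotSMul M I).extendScalarsOfSurjective
        Ideal.Quotient.mk_surjective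
    rw [← eq.finrank_eq, Module.finrank_baseChange]
  have hcard : Fintype.card (Fin (Module.finrank (R ⧸ I) (M ⧸ (I • ⊤ : Submodule R M)))) =
      Module.finrank R M := by
    rw [Fintype.card_fin, hrank]
  let b0 := basisOfTopLeSpanOfCardEqFinrank e hspan hcard
  refine ⟨b0.reindex (finCongr hrank), fun i => ?_⟩
  rw [Module.Basis.reindex_apply, coe_basisOfTopLeSpanOfCardEqFinrank]
  exact he2 _

end Main2

end SigmaLin
end Groth.Agent.Lib.Helper96
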