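import Groth.Agent.Lib.Helper96.SigmaLin

/-!
# Fixed vectors of semilinear endomorphisms (helper96)
-/

set_option autoImplicit false

namespace Groth.Agent.Lib.Helper96
namespace SigmaLin

universe u v

section Fixed

variable {k : Type u} [Field k] {σ : k →+* k} {V : Type v} [AddCommGroup V] [Module k V]

/-- The solvability hypothesis (i) on `σ`. -/
def Hyp2 (σ : k →+* k) : Prop :=
  ∀ (n : ℕ) (b : Fin (n + 1) → k), b ≠ 0 →
      ∃ x : k, x ≠ 0 ∧ x = ∑ i : Fin (n + 1), (⇑σ)^[i.val + 1] x * (⇑σ)^[i.val] (b (Fin.rev i))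

/-- The solvability hypothesis (ii) on `σ`. -/
def Hyp3 (σ : k →+* k) : Prop := ∀ c : k, ∃ y : k, σ y - y + c = 0

/-- Recursive coefficients for the fixed vector. -/
def coeffY (σ : k →+* k) (x : k) (a : ℕ → k) : ℕ → k
  | 0 => σ x * a 0
  | (i + 1) => σ (coeffY σ x a i) + σ x * a (i + 1)

theorem coeffY_eq (σ : k →+* k) (x : k) (a : ℕ → k) (i : ℕ) :
    coeffY σ x a i = ∑ j ∈ Finset.range (i + 1), (⇑σ)^[j + 1] x * (⇑σ)^[j] (a (i - j)) := by
  induction i with
  | zero => simp [coeffY]
  | succ i ih =>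
    rw [coeffY, ih, Finset.sum_range_succ' _ (i + 1), map_sum]
    congr 1
    · refine Finset.sum_congr rfl fun j _ => ?_
      rw [map_mul, ← Function.iterate_succ_apply' (⇑σ), ← Function.iterate_succ_apply' (⇑σ),
        Nat.add_sub_add_right]

theorem exists_fixed_in_orbit [FiniteDimensional k V] (T : V →ₛₗ[σ] V) (h2 : Hyp2 σ)
    (e : V) (he : ∀ m : ℕ, (⇑T)^[m] e ≠ 0) :
    ∃ v ∈ Submodule.span k (Set.range (fun m : ℕ => (⇑T)^[m] e)), v ≠ 0 ∧ T v = v := by
  classical
  set f : ℕ → V := fun m => (⇑T)^[m] e with hf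
  have hfs : ∀ m, f (m + 1) = T (f m) := fun m => Function.iterate_succ_apply' (⇑T) m e
  let U : ℕ → Submodule k V := fun m => Submodule.span k (f '' Set.Iio m)
  have hUmono : Monotone U := fun a b hab =>
    Submodule.span_mono (Set.image_mono (Set.Iio_subset_Iio hab))
  -- some `f m` lies in the span of the previous ones
  have hex : ∃ m, f m ∈ U m := by
    obtain ⟨N, hN⟩ := monotone_stabilizes_iff_noetherian.mpr (inferInstance : IsNoetherian k V)
      ⟨U, hUmono⟩
    refine ⟨N, ?_⟩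
    have h1 : U N = U (N + 1) := hN (N + 1) (Nat.le_succ N)
    rw [h1]
    exact Submodule.subset_span ⟨N, Nat.lt_succ_self N, rfl⟩
  set m0 := Nat.find hex with hm0
  have hm0spec : f m0 ∈ U m0 := Nat.find_spec hex
  have hm0min : ∀ m, m < m0 → f m ∉ U m := fun m hm => Nat.find_min hex hm
  have hm0pos : m0 ≠ 0 := by
    intro h0
    rw [h0] at hm0spec
    have : U 0 = ⊥ := by simp [U]
    rw [this, Submodule.mem_bot] at hm0spec
    exact he 0 hm0spec
  obtain ⟨n, hn⟩ := Nat.exists_eq_succ_of_ne_zero hm0pos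
  rw [hn] at hm0spec
  have hnmin : f n ∉ U n := hm0min n (by omega)
  -- coefficients of the dependence relation
  have himg : f '' Set.Iio (n + 1) = Set.range (fun i : Fin (n + 1) => f i) := by
    ext w
    constructor
    · rintro ⟨i, hi, rfl⟩
      exact ⟨⟨i, hi⟩, rfl⟩
    · rintro ⟨i, rfl⟩
      exact ⟨i, i.2, rfl⟩
  have hmem : f (n + 1) ∈ Submodule.span k (Set.range (fun i : Fin (n + 1) => f i)) := by
    rw [← himg]; exact hm0spec
  obtain ⟨c, hc⟩ := (Submodule.mem_span_range_iff_exists_fun k).mp hmem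
  have hcne : c ≠ 0 := by
    rintro rfl
    simp only [Pi.zero_apply, zero_smul, Finset.sum_const_zero] at hc
    exact he (n + 1) hc.symm
  let a : ℕ → k := fun i => if h : i < n + 1 then c ⟨i, h⟩ else 0
  have ha : ∀ i : Fin (n + 1), a i = c i := fun i => by
    simp only [a]; rw [dif_pos i.2]
  have hfa : f (n + 1) = ∑ i ∈ Finset.range (n + 1), a i • f i := by
    rw [← hc, Finset.sum_range]
    refine Finset.sum_congr rfl fun i _ => ?_
    rw [ha]
  obtain ⟨x, hx0, hx⟩ := h2 n c hcne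
  set y := coeffY σ x a with hy
  have hyn : y n = x := by
    rw [hy, coeffY_eq, Finset.sum_range]
    conv_rhs => rw [hx]
    refine Finset.sum_congr rfl fun i _ => ?_
    congr 2
    have : (n - (i : ℕ)) = ((Fin.rev i : Fin (n + 1)) : ℕ) := by
      rw [Fin.val_rev]; omega
    rw [this, ha]
  refine ⟨∑ i ∈ Finset.range (n + 1), y i • f i, ?_, ?_, ?_⟩
  · exact Submodule.sum_mem _ fun i _ => Submodule.smul_mem _ _ (Submodule.subset_span ⟨i, rfl⟩)
  · intro hv
    rw [Finset.sum_range_succ] at hv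
    have h1 : y n • f n = -∑ i ∈ Finset.range n, y i • f i := eq_neg_of_add_eq_zero_right hv
    have h2' : f n = (y n)⁻¹ • (-∑ i ∈ Finset.range n, y i • f i) := by
      rw [← h1, smul_smul, inv_mul_cancel₀ (by rw [hyn]; exact hx0), one_smul]
    apply hnmin
    rw [h2']
    refine Submodule.smul_mem _ _ (Submodule.neg_mem _ (Submodule.sum_mem _ fun i hi => ?_))
    exact Submodule.smul_mem _ _ (Submodule.subset_span ⟨i, Finset.mem_range.mp hi, rfl⟩)
  · rw [map_sum]
    have h1 : ∀ i ∈ Finset.range (n + 1), T (y i • f i) = σ (y i) • f (i + 1) := by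
      intro i _
      rw [LinearMap.map_smulₛₗ, hfs]
    rw [Finset.sum_congr rfl h1, Finset.sum_range_succ, hfa, Finset.sum_range_succ' _ n,
      Finset.sum_range_succ' (fun i => y i • f i) n]
    have hy0 : y 0 = σ x * a 0 := rfl
    have hys : ∀ i, y (i + 1) = σ (y i) + σ x * a (i + 1) := fun i => rfl
    rw [smul_add, Finset.smul_sum, hyn, hy0]
    simp only [hys, add_smul, Finset.sum_add_distrib, smul_smul]
    abel

end Fixed

end SigmaLin
end Groth.Agent.Lib.Helper96
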