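import Groth.Agent.Lib.Helper96.SigmaLinLocal

/-!
# Finite generation of the fixed points over the fixed subring (helper96)
-/

set_option autoImplicit false

namespace Groth.Agent.Lib.Helper96
namespace SigmaLin

universe u v

section FixedSub

variable {R : Type u} [CommRing R] (σ : R →+* R)

/-- The subring of `σ`-fixed elements. -/
def fixedRing : Subring R := RingHom.eqLocus σ (RingHom.id R)

theorem mem_fixedRing {r : R} : r ∈ fixedRing σ ↔ σ r = r := Iff.rfl

variable {σ} {M : Type v} [AddCommGroup M] [Module R M]

/-- The `T`-fixed elements, as a module over the fixed subring. -/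
def fixedSub (T : M →ₛₗ[σ] M) : Submodule (fixedRing σ) M where
  carrier := {m | T m = m}
  add_mem' := by
    intro a b ha hb
    simp only [Set.mem_ofPred_eq] at ha hb ⊢
    rw [map_add, ha, hb]
  zero_mem' := map_zero T
  smul_mem' := by
    intro c m hm
    simp only [Set.mem_ofPred_eq] at hm ⊢
    rw [Subring.smul_def, LinearMap.map_smulₛₗ, hm, (mem_fixedRing σ).mp c.2]

theorem mem_fixedSub (T : M →ₛₗ[σ] M) (m : M) : m ∈ fixedSub T ↔ T m = m := Iff.rfl

end FixedSub

section FixedBasis

variable {k : Type u} [Field k] {σ : k →+* k} {V : Type v} [AddCommGroup V] [Module k V]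

theorem mem_Winf_of_fixed (T : V →ₛₗ[σ] V) {v : V} (hv : T v = v) : v ∈ Winf T := by
  refine (Submodule.mem_iInf _).mpr fun n => Submodule.subset_span ⟨v, ?_⟩
  induction n with
  | zero => rfl
  | succ n ih => rw [Function.iterate_succ_apply, hv, ih]

/-- Coordinates of a fixed vector in a basis of fixed vectors are fixed. -/
theorem exists_fixed_coeffs [FiniteDimensional k V] (T : V →ₛₗ[σ] V) {d : ℕ}
    (b : Module.Basis (Fin d) k (Winf T)) (hb : ∀ i, T (b i : V) = (b i : V)) {v : V}
    (hv : T v = v) : ∃ c : Fin d → k, (∀ i, σ (c i) = c i) ∧ v = ∑ i, c i • (b i : V) := by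
  have hvW : v ∈ Winf T := mem_Winf_of_fixed T hv
  set c : Fin d → k := fun i => b.repr ⟨v, hvW⟩ i with hc
  have hsum : v = ∑ i, c i • (b i : V) := by
    have := congrArg Subtype.val (b.sum_repr ⟨v, hvW⟩)
    rw [Submodule.coe_sum] at this
    exact this.symm
  refine ⟨c, ?_, hsum⟩
  have hTv : T v = ∑ i, σ (c i) • (b i : V) := by
    conv_lhs => rw [hsum]
    rw [map_sum]
    refine Finset.sum_congr rfl fun i _ => ?_
    rw [LinearMap.map_smulₛₗ, hb]
  have h2 : (∑ i, σ (c i) • b i : Winf T) = ∑ i, c i • b i := by
    apply Subtype.ext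
    rw [Submodule.coe_sum, Submodule.coe_sum]
    simp only [Submodule.coe_smul]
    rw [← hTv, ← hsum, hv]
  intro i
  have h3 : (b.repr (∑ i, σ (c i) • b i) : Fin d → k) = (b.repr (∑ i, c i • b i) : Fin d → k) := by
    rw [h2]
  rw [Module.Basis.repr_sum_self, Module.Basis.repr_sum_self] at h3
  exact congrFun h3 i

end FixedBasis

section Main

attribute [local instance] Ideal.Quotient.field

variable {R : Type u} [CommRing R] (I : Ideal R) [hI : I.IsMaximal] {σ : R →+* R}
  (σbar : (R ⧸ I) →+* (R ⧸ I))
  (hσbar : ∀ r : R, σbar (Ideal.Quotient.mk _ r) = Ideal.Quotient.mk _ (σ r))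

/-- Restriction of `T` to `I • ⊤`. -/
def restrictSmulTop {M : Type v} [AddCommGroup M] [Module R M] (T : M →ₛₗ[σ] M) :
    (I • ⊤ : Submodule R M) →ₛₗ[σ] (I • ⊤ : Submodule R M) :=
  LinearMap.codRestrict _ (T.domRestrict _) (fun c => smul_top_le_comap I σbar hσbar T c.2)

omit hI in
theorem restrictSmulTop_apply {M : Type v} [AddCommGroup M] [Module R M] (T : M →ₛₗ[σ] M)
    (x : (I • ⊤ : Submodule R M)) :
    ((restrictSmulTop I σbar hσbar T x : (I • ⊤ : Submodule R M)) : M) = T (x : M) := rfl

open Pointwise in
include hσbar in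
theorem fixedSub_fg (π : R) (hIπ : I = Ideal.span {π}) (hπ : σ π = π) (n : ℕ) (hn : π ^ n = 0)
    (hsurj : Function.Surjective σbar) (h2 : Hyp2 σbar) (h3 : Hyp3 σbar)
    (hlift : ∀ x : R ⧸ I, σbar x = x → ∃ r : R, σ r = r ∧ Ideal.Quotient.mk I r = x) :
    ∀ (j : ℕ) (M : Type v) [AddCommGroup M] [Module R M] [Module.Finite R M] (T : M →ₛₗ[σ] M),
      (∀ m : M, π ^ j • m = 0) → (fixedSub T).FG := by
  classical
  intro j
  induction j with
  | zero =>
    intro M _ _ _ T h0
    have hsub : ∀ m : M, m = 0 := fun m => by simpa using h0 m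
    refine ⟨∅, ?_⟩
    rw [Finset.coe_empty, Submodule.span_empty, eq_comm, Submodule.eq_bot_iff]
    intro m _
    exact hsub m
  | succ j ih =>
    intro M _ _ _ T hj
    set N : Submodule R M := (I • ⊤ : Submodule R M) with hN
    have hNπ : N = π • (⊤ : Submodule R M) := by
      rw [hN, hIπ, Submodule.ideal_span_singleton_smul]
    set TN := restrictSmulTop I σbar hσbar T with hTN
    -- `N` is finitely generated
    have hNfin : Module.Finite R N := by
      rw [Module.Finite.iff_fg, hNπ]
      exact Submodule.FG.map _ (Module.Finite.fg_top)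
    -- `π ^ j` kills `N`
    have hjN : ∀ x : N, π ^ j • x = 0 := by
      rintro ⟨x, hx⟩
      apply Subtype.ext
      rw [hNπ, Submodule.mem_smul_pointwise_iff_exists] at hx
      obtain ⟨y, -, rfl⟩ := hx
      change π ^ j • π • y = 0
      rw [smul_smul, ← pow_succ]
      exact hj y
    obtain ⟨sN, hsN⟩ := ih N TN hjN
    -- the quotient
    set Tq := quotMap I σbar hσbar T with hTq
    obtain ⟨b, hb⟩ := exists_basis_fixed_Winf Tq h2 h3
    -- `1 - T` is surjective on `N`
    have hsurjN : Function.Surjective (fun x : N => x - TN x) :=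
      sub_map_surjective_of_nilpotent I σbar hσbar TN π hIπ hπ n hn hsurj h2 h3
    -- lifting fixed vectors
    have hliftfix : ∀ vbar : M ⧸ N, Tq vbar = vbar →
        ∃ g : M, T g = g ∧ (Submodule.Quotient.mk g : M ⧸ N) = vbar := by
      intro vbar hv
      obtain ⟨m, rfl⟩ := Submodule.Quotient.mk_surjective _ vbar
      have hmem : T m - m ∈ N := by
        rw [← Submodule.Quotient.eq]
        exact hv
      obtain ⟨w, hw⟩ := hsurjN ⟨T m - m, hmem⟩
      have hw' : (w : M) - T (w : M) = T m - m := by
        have := congrArg Subtype.val hw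
        simpa [hTN, restrictSmulTop_apply] using this
      refine ⟨m + w, ?_, ?_⟩
      · rw [map_add]
        have : T m + T (w : M) - (m + w) = 0 := by
          have e : T m + T (w : M) - (m + w) = (T m - m) - ((w : M) - T (w : M)) := by abel
          rw [e, hw', sub_self]
        exact sub_eq_zero.mp this
      · rw [Submodule.Quotient.mk_add, (Submodule.Quotient.mk_eq_zero N).mpr w.2, add_zero]
    choose g hgfix hgmk using fun i => hliftfix (b i : M ⧸ N) (hb i)
    refine ⟨sN.image (fun x : N => (x : M)) ∪ Finset.univ.image g, ?_⟩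
    apply le_antisymm
    · rw [Submodule.span_le]
      intro x hx
      simp only [Finset.coe_union, Finset.coe_image, Set.mem_union, Set.mem_image,
        Finset.mem_coe, Finset.mem_univ, true_and] at hx
      rcases hx with ⟨y, hy, rfl⟩ | ⟨i, rfl⟩
      · have : y ∈ fixedSub TN := by rw [← hsN]; exact Submodule.subset_span hy
        have h' := congrArg Subtype.val ((mem_fixedSub TN y).mp this)
        rw [hTN, restrictSmulTop_apply] at h'
        exact h'
      · exact hgfix i
    · intro m hm
      have hm' : T m = m := hm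
      have hq : Tq (Submodule.Quotient.mk m) = Submodule.Quotient.mk m := by
        rw [hTq, quotMap_mk, hm']
      obtain ⟨c, hcfix, hcsum⟩ := exists_fixed_coeffs Tq b hb hq
      choose r hrfix hrmk using fun i => hlift (c i) (hcfix i)
      set m' := m - ∑ i, r i • g i with hm'def
      have hTm' : T m' = m' := by
        rw [hm'def, map_sub, map_sum, hm']
        congr 1
        refine Finset.sum_congr rfl fun i _ => ?_
        rw [LinearMap.map_smulₛₗ, hrfix, hgfix]
      have hm'N : m' ∈ N := by
        rw [← Submodule.Quotient.mk_eq_zero N, hm'def, Submodule.Quotient.mk_sub, hcsum]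
        rw [sub_eq_zero]
        have : (Submodule.Quotient.mk (∑ i, r i • g i) : M ⧸ N) =
            ∑ i, (Submodule.Quotient.mk (r i • g i) : M ⧸ N) := map_sum N.mkQ _ _
        rw [this]
        refine Finset.sum_congr rfl fun i _ => ?_
        rw [← hrmk i, ← hgmk i]
        rfl
      have h1 : (⟨m', hm'N⟩ : N) ∈ Submodule.span (fixedRing σ) (sN : Set N) := by
        rw [hsN, mem_fixedSub]
        apply Subtype.ext
        rw [hTN, restrictSmulTop_apply]
        exact hTm'
      have h2' : m' ∈ Submodule.span (fixedRing σ)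
          ((sN.image (fun x : N => (x : M)) ∪ Finset.univ.image g : Finset M) : Set M) := by
        have hmap := Submodule.apply_mem_span_image_of_mem_span
          ((N.subtype).restrictScalars (fixedRing σ)) h1
        refine Submodule.span_mono ?_ hmap
        rintro _ ⟨y, hy, rfl⟩
        simp only [Finset.coe_union, Finset.coe_image, Set.mem_union, Set.mem_image,
          Finset.mem_coe]
        exact Or.inl ⟨y, hy, rfl⟩
      have h3' : ∑ i, r i • g i ∈ Submodule.span (fixedRing σ)
          ((sN.image (fun x : N => (x : M)) ∪ Finset.univ.image g : Finset M) : Set M) := by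
        refine Submodule.sum_mem _ fun i _ => ?_
        have : r i • g i = (⟨r i, (mem_fixedRing σ).mpr (hrfix i)⟩ : fixedRing σ) • g i := rfl
        rw [this]
        refine Submodule.smul_mem _ _ (Submodule.subset_span ?_)
        simp only [Finset.coe_union, Finset.coe_image, Set.mem_union, Set.mem_image,
          Finset.mem_coe, Finset.mem_univ, true_and]
        exact Or.inr ⟨i, rfl⟩
      have : m = m' + ∑ i, r i • g i := by rw [hm'def]; abel
      rw [this]
      exact Submodule.add_mem _ h2' h3'

end Main

end SigmaLin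
end Groth.Agent.Lib.Helper96
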