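import Groth.Agent.Lib.Helper96.SigmaLinDecomp

/-!
# Semilinear endomorphisms of modules over rings with a nilpotent principal maximal ideal
(helper96)
-/

set_option autoImplicit false

namespace Groth.Agent.Lib.Helper96
namespace SigmaLin

universe u v

section Nilpotent

variable {R : Type u} [CommRing R] {σ : R →+* R} {M : Type v} [AddCommGroup M] [Module R M]

/-- If `1 - T` is surjective modulo a `σ`-fixed nilpotent element `π`, it is surjective. -/
theorem sub_map_surjective_of_mod (T : M →ₛₗ[σ] M) (π : R) (hπ : σ π = π) (n : ℕ)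
    (hn : π ^ n = 0) (hmod : ∀ m : M, ∃ a b : M, m = a - T a + π • b) :
    Function.Surjective (fun m : M => m - T m) := by
  have hTπ : ∀ (j : ℕ) (a : M), T (π ^ j • a) = π ^ j • T a := by
    intro j a
    rw [LinearMap.map_smulₛₗ, map_pow, hπ]
  have key : ∀ i : ℕ, i ≤ n → ∀ m : M, ∃ a : M, π ^ (n - i) • m = a - T a := by
    intro i
    induction i with
    | zero =>
      intro _ m
      exact ⟨0, by simp [hn]⟩
    | succ i ih =>
      intro hi m
      obtain ⟨a, b, hab⟩ := hmod m
      obtain ⟨c, hc⟩ := ih (by omega) b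
      refine ⟨π ^ (n - (i + 1)) • a + c, ?_⟩
      have e : n - i = (n - (i + 1)) + 1 := by omega
      rw [map_add, hTπ]
      have h1 : π ^ (n - (i + 1)) • m =
          π ^ (n - (i + 1)) • a - π ^ (n - (i + 1)) • T a + π ^ (n - i) • b := by
        conv_lhs => rw [hab]
        rw [smul_add, smul_sub, smul_smul, e, pow_succ]
      rw [h1, hc]
      abel
  intro m
  obtain ⟨a, ha⟩ := key n le_rfl m
  refine ⟨a, ?_⟩
  simp only
  rw [← ha, Nat.sub_self, pow_zero, one_smul]

end Nilpotent

section Quot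

variable {R : Type u} [CommRing R] (I : Ideal R) {σ : R →+* R}
  (σbar : (R ⧸ I) →+* (R ⧸ I))
  (hσbar : ∀ r : R, σbar (Ideal.Quotient.mk I r) = Ideal.Quotient.mk I (σ r))
  {M : Type v} [AddCommGroup M] [Module R M] (T : M →ₛₗ[σ] M)

include hσbar in
theorem map_mem_of_mem_ideal {r : R} (hr : r ∈ I) : σ r ∈ I := by
  rw [← Ideal.Quotient.eq_zero_iff_mem, ← hσbar, Ideal.Quotient.eq_zero_iff_mem.mpr hr, map_zero]

include hσbar in
theorem smul_top_le_comap : (I • ⊤ : Submodule R M) ≤ (I • ⊤ : Submodule R M).comap T := by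
  intro x hx
  rw [Submodule.mem_comap]
  refine Submodule.smul_induction_on hx ?_ ?_
  · intro r hr m _
    rw [LinearMap.map_smulₛₗ]
    exact Submodule.smul_mem_smul (map_mem_of_mem_ideal I σbar hσbar hr) Submodule.mem_top
  · intro x y hx hy
    rw [map_add]; exact Submodule.add_mem _ hx hy

/-- The induced semilinear map on `M ⧸ I • ⊤`. -/
def quotMap : (M ⧸ (I • ⊤ : Submodule R M)) →ₛₗ[σbar] (M ⧸ (I • ⊤ : Submodule R M)) where
  toFun := (I • ⊤ : Submodule R M).mapQ (I • ⊤ : Submodule R M) T (smul_top_le_comap I σbar hσbar T)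
  map_add' := map_add _
  map_smul' := by
    intro r x
    obtain ⟨r, rfl⟩ := Ideal.Quotient.mk_surjective r
    obtain ⟨x, rfl⟩ := Submodule.Quotient.mk_surjective _ x
    rw [hσbar]
    change (I • ⊤ : Submodule R M).mapQ (I • ⊤ : Submodule R M) T _
      (Submodule.Quotient.mk (r • x)) = _
    rw [Submodule.mapQ_apply, LinearMap.map_smulₛₗ]
    rfl

theorem quotMap_mk (m : M) :
    quotMap I σbar hσbar T (Submodule.Quotient.mk m) = Submodule.Quotient.mk (T m) := rfl

end Quot

section Main

attribute [local instance] Ideal.Quotient.field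

variable {R : Type u} [CommRing R] (I : Ideal R) [hI : I.IsMaximal] {σ : R →+* R}
  (σbar : (R ⧸ I) →+* (R ⧸ I))
  (hσbar : ∀ r : R, σbar (Ideal.Quotient.mk _ r) = Ideal.Quotient.mk _ (σ r))
  {M : Type v} [AddCommGroup M] [Module R M] [Module.Finite R M] (T : M →ₛₗ[σ] M)

include hσbar in
theorem sub_map_surjective_of_nilpotent (π : R) (hIπ : I = Ideal.span {π}) (hπ : σ π = π) (n : ℕ)
    (hn : π ^ n = 0)
    (hsurj : Function.Surjective σbar) (h2 : Hyp2 σbar) (h3 : Hyp3 σbar) :
    Function.Surjective (fun m : M => m - T m) := by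
  refine sub_map_surjective_of_mod T π hπ n hn fun m => ?_
  have hs := sub_map_surjective_of_surjective hsurj (quotMap I σbar hσbar T) h2 h3
  obtain ⟨abar, ha⟩ := hs (Submodule.Quotient.mk m)
  obtain ⟨a, rfl⟩ := Submodule.Quotient.mk_surjective _ abar
  simp only [quotMap_mk] at ha
  rw [← Submodule.Quotient.mk_sub, Submodule.Quotient.eq] at ha
  have hmem : m - (a - T a) ∈ (I • ⊤ : Submodule R M) := by
    have := Submodule.neg_mem _ ha
    rwa [neg_sub] at this
  rw [hIπ, Submodule.ideal_span_singleton_smul, Submodule.mem_smul_pointwise_iff_exists] at hmem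
  obtain ⟨b, -, hb⟩ := hmem
  refine ⟨a, b, ?_⟩
  rw [hb]; abel

end Main

end SigmaLin
end Groth.Agent.Lib.Helper96
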