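import Groth.Agent.Lib.Helper96.SigmaLinFixedFG
import Groth.Agent.Lib.Helper96.SigmaLinFrob
import Groth.Prelude.Def_WittGrp

/-!
# Truncated Witt vectors of an algebraically closed field: application of the
semilinear fixed point results (helper96)
-/

set_option autoImplicit false

namespace Groth.Agent.Lib.Helper96
namespace SigmaLin

universe u v

section Transfer

variable {A B : Type u} [Field A] [Field B] (e : A ≃+* B) (σA : A →+* A) (σB : B →+* B)
  (he : ∀ a, e (σA a) = σB (e a))

include he in
theorem iterate_transfer (i : ℕ) (a : A) : e ((⇑σA)^[i] a) = (⇑σB)^[i] (e a) := by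
  induction i generalizing a with
  | zero => rfl
  | succ i ih => rw [Function.iterate_succ_apply, Function.iterate_succ_apply, ih, he]

include he in
theorem hyp2_transfer (h : Hyp2 σB) : Hyp2 σA := by
  intro n b hb
  have hb' : (fun i => e (b i)) ≠ 0 := by
    intro h0
    apply hb
    funext i
    have := congrFun h0 i
    simpa using this
  obtain ⟨x', hx0, hx⟩ := h n (fun i => e (b i)) hb'
  refine ⟨e.symm x', by simpa using hx0, ?_⟩
  apply e.injective
  rw [map_sum]
  simp only [map_mul, iterate_transfer e σA σB he, RingEquiv.apply_symm_apply]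
  exact hx

include he in
theorem hyp3_transfer (h : Hyp3 σB) : Hyp3 σA := by
  intro c
  obtain ⟨y, hy⟩ := h (e c)
  refine ⟨e.symm y, ?_⟩
  apply e.injective
  rw [map_add, map_sub, he, RingEquiv.apply_symm_apply, map_zero]
  exact hy

include he in
theorem surjective_transfer (h : Function.Surjective σB) : Function.Surjective σA := by
  intro a
  obtain ⟨y, hy⟩ := h (e a)
  refine ⟨e.symm y, ?_⟩
  apply e.injective
  rw [he, RingEquiv.apply_symm_apply, hy]

end Transfer

section FrobHyp2

open Polynomial

variable (p : ℕ) [Fact p.Prime] (k : Type u) [Field k] [CharP k p] [IsAlgClosed k]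

theorem hyp2_frobenius : Hyp2 (frobenius k p) := by
  classical
  intro n b hb
  have hp : p.Prime := Fact.out
  set σ : k →+* k := frobenius k p with hσ
  let c : Fin (n + 1) → k := fun i => (⇑σ)^[i.val] (b (Fin.rev i))
  obtain ⟨j0, hj0⟩ : ∃ j, b j ≠ 0 := by
    by_contra h
    push Not at h
    exact hb (funext h)
  have hc0 : c (Fin.rev j0) ≠ 0 := by
    simp only [c, Fin.rev_rev]
    intro h
    apply hj0
    apply iterate_injective_of_ringHom k σ (Fin.rev j0).val
    rw [h, iterate_map_zero]
  set i0 := Fin.rev j0
  let Q : k[X] := ∑ i : Fin (n + 1), C (c i) * X ^ (p ^ (i.val + 1))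
  let P : k[X] := Q - X
  have hpow_inj : ∀ a b' : ℕ, p ^ a = p ^ b' → a = b' := fun a b' h =>
    Nat.pow_right_injective hp.two_le h
  have hpow_ne_one : ∀ a : ℕ, p ^ (a + 1) ≠ 1 := by
    intro a h
    have h1 : p ^ (a + 1) = p ^ 0 := by rw [h, pow_zero]
    have := hpow_inj _ _ h1
    omega
  have hQ1 : Q.coeff 1 = 0 := by
    simp only [Q, finsetSum_coeff, coeff_C_mul, coeff_X_pow]
    refine Finset.sum_eq_zero fun i _ => ?_
    rw [if_neg, mul_zero]
    intro h
    exact hpow_ne_one _ h.symm
  have hQi0 : Q.coeff (p ^ (i0.val + 1)) = c i0 := by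
    simp only [Q, finsetSum_coeff, coeff_C_mul, coeff_X_pow]
    rw [Finset.sum_eq_single i0]
    · simp
    · intro i _ hi
      rw [if_neg, mul_zero]
      intro h
      have h' := hpow_inj _ _ h
      apply hi
      apply Fin.ext
      omega
    · intro h; exact absurd (Finset.mem_univ _) h
  have hP1 : P.coeff 1 ≠ 0 := by
    simp only [P, coeff_sub, hQ1, coeff_X_one]
    simp
  have hPi0 : P.coeff (p ^ (i0.val + 1)) ≠ 0 := by
    simp only [P, coeff_sub, hQi0, coeff_X]
    rw [if_neg]
    · simpa using hc0
    · intro h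
      exact hpow_ne_one _ h.symm
  have hne : (1 : ℕ) ≠ p ^ (i0.val + 1) := fun h => hpow_ne_one _ h.symm
  obtain ⟨z, hz0, hz⟩ := exists_root_ne_zero_of_two_coeff P hne hP1 hPi0
  have hz' : z = ∑ i : Fin (n + 1), c i * z ^ (p ^ (i.val + 1)) := by
    simp only [P, Q, eval_sub, eval_pow, eval_X, eval_finsetSum, eval_mul, eval_C] at hz
    exact (sub_eq_zero.mp hz).symm
  refine ⟨z, hz0, ?_⟩
  conv_lhs => rw [hz']
  refine Finset.sum_congr rfl fun i _ => ?_
  rw [hσ, iterate_frobenius, mul_comm]

end FrobHyp2


section Witt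

variable (p : ℕ) [hp : Fact p.Prime] (k : Type u) [Field k] [CharP k p] (n : ℕ)

/-- The residue map `W_{n+1}(k) → k`: the zeroth coefficient. -/
noncomputable def wittRes : TruncatedWittVector p (n + 1) k →+* k where
  toFun x := x.coeff 0
  map_one' := by
    rw [← map_one (WittVector.truncate (p := p) (R := k) (n + 1)), WittVector.coeff_truncate]
    exact WittVector.one_coeff_zero p k
  map_zero' := TruncatedWittVector.coeff_zero (p := p) (n + 1) k 0
  map_mul' x y := by
    obtain ⟨X, rfl⟩ := WittVector.truncate_surjective p (n + 1) k x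
    obtain ⟨Y, rfl⟩ := WittVector.truncate_surjective p (n + 1) k y
    rw [← map_mul, WittVector.coeff_truncate, WittVector.coeff_truncate, WittVector.coeff_truncate]
    exact WittVector.mul_coeff_zero X Y
  map_add' x y := by
    obtain ⟨X, rfl⟩ := WittVector.truncate_surjective p (n + 1) k x
    obtain ⟨Y, rfl⟩ := WittVector.truncate_surjective p (n + 1) k y
    rw [← map_add, WittVector.coeff_truncate, WittVector.coeff_truncate, WittVector.coeff_truncate]
    exact WittVector.add_coeff_zero X Y

omit [CharP k p] in
theorem wittRes_apply (x : TruncatedWittVector p (n + 1) k) : wittRes p k n x = x.coeff 0 := rfl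

omit [CharP k p] in
theorem wittRes_truncate (X : WittVector p k) :
    wittRes p k n (WittVector.truncate (n + 1) X) = X.coeff 0 := by
  rw [wittRes_apply, WittVector.coeff_truncate]
  rfl

omit [CharP k p] in
theorem wittRes_surjective : Function.Surjective (wittRes p k n) := by
  intro a
  refine ⟨WittVector.truncate (n + 1) (WittVector.teichmuller p a), ?_⟩
  rw [wittRes_truncate, WittVector.teichmuller_coeff_zero]

omit [CharP k p] in
theorem wittRes_truncMap (f : k →+* k) (x : TruncatedWittVector p (n + 1) k) :
    wittRes p k n (WittGrp.truncMap p (n + 1) f x) = f (wittRes p k n x) := by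
  rw [wittRes_apply, wittRes_apply, WittGrp.coeff_truncMap]

theorem witt_p_pow_eq_zero : ((p : TruncatedWittVector p n k)) ^ n = 0 := by
  have h : ((p : TruncatedWittVector p n k)) ^ n =
      WittVector.truncate n ((p : WittVector p k) ^ n) := by
    rw [map_pow, map_natCast]
  rw [h]
  apply TruncatedWittVector.ext
  intro i
  rw [WittVector.coeff_truncate, TruncatedWittVector.coeff_zero]
  exact WittVector.coeff_p_pow_eq_zero p k (Nat.ne_of_lt i.2)

theorem ker_wittRes [PerfectRing k p] :
    RingHom.ker (wittRes p k n) = Ideal.span {(p : TruncatedWittVector p (n + 1) k)} := by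
  apply le_antisymm
  · intro x hx
    rw [RingHom.mem_ker] at hx
    obtain ⟨X, rfl⟩ := WittVector.truncate_surjective p (n + 1) k x
    rw [wittRes_truncate] at hx
    have h1 : X = WittVector.verschiebung (X.shift 1) := by
      have := WittVector.eq_iterate_verschiebung (x := X) (n := 1) (fun i hi => by
        have : i = 0 := by omega
        rw [this]; exact hx)
      simpa using this
    obtain ⟨Y, hY⟩ := (WittVector.frobenius_bijective p k).2 (X.shift 1)
    have h2 : X = Y * p := by
      rw [h1, ← hY, WittVector.verschiebung_frobenius]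
    rw [h2, map_mul, map_natCast]
    exact Ideal.mul_mem_left _ _ (Ideal.subset_span rfl)
  · rw [Ideal.span_le]
    intro x hx
    rw [Set.mem_singleton_iff] at hx
    rw [hx, SetLike.mem_coe, RingHom.mem_ker, map_natCast]
    exact CharP.cast_eq_zero k p

end Witt


section WittMain

attribute [local instance] Ideal.Quotient.field

variable (p : ℕ) [hp : Fact p.Prime] (k : Type u) [Field k] [CharP k p] [PerfectRing k p]

omit hp [Field k] [CharP k p] [PerfectRing k p] in
theorem witt_zero_subsingleton : Subsingleton (TruncatedWittVector p 0 k) :=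
  ⟨fun _ _ => TruncatedWittVector.ext fun i => i.elim0⟩

/-- The data needed to apply the abstract results to `W_{n+1}(k)`. -/
theorem witt_setup (n : ℕ) (f : k →+* k) (hf : Function.Surjective f) (h2 : Hyp2 f) (h3 : Hyp3 f) :
    ∃ (hI : (Ideal.span {(p : TruncatedWittVector p (n + 1) k)}).IsMaximal)
      (σbar : (TruncatedWittVector p (n + 1) k ⧸ Ideal.span {(p : TruncatedWittVector p (n + 1) k)}) →+*
        (TruncatedWittVector p (n + 1) k ⧸ Ideal.span {(p : TruncatedWittVector p (n + 1) k)})),
      (∀ r, σbar (Ideal.Quotient.mk _ r) = Ideal.Quotient.mk _ (WittGrp.truncMap p (n + 1) f r)) ∧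
      Function.Surjective σbar ∧ Hyp2 σbar ∧ Hyp3 σbar ∧
      (∀ x, σbar x = x → ∃ r, WittGrp.truncMap p (n + 1) f r = r ∧ Ideal.Quotient.mk _ r = x) := by
  set R := TruncatedWittVector p (n + 1) k with hR
  set I : Ideal R := Ideal.span {(p : R)} with hIdef
  set ρ := wittRes p k n with hρ
  have hker : RingHom.ker ρ = I := ker_wittRes p k n
  have hsurjρ : Function.Surjective ρ := wittRes_surjective p k n
  have hI : I.IsMaximal := by
    rw [← hker]
    exact RingHom.ker_isMaximal_of_surjective ρ hsurjρ
  set σ := WittGrp.truncMap p (n + 1) f with hσ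
  have hle : I ≤ I.comap σ := by
    rw [hIdef, Ideal.span_le]
    intro x hx
    rw [Set.mem_singleton_iff] at hx
    rw [hx, SetLike.mem_coe, Ideal.mem_comap, map_natCast]
    exact Ideal.subset_span rfl
  let σbar : (R ⧸ I) →+* (R ⧸ I) := Ideal.quotientMap I σ hle
  have hσbar : ∀ r, σbar (Ideal.Quotient.mk _ r) = Ideal.Quotient.mk _ (σ r) :=
    fun r => Ideal.quotientMap_mk
  let e : (R ⧸ I) ≃+* k :=
    (Ideal.quotEquivOfEq hker.symm).trans (RingHom.quotientKerEquivOfSurjective hsurjρ)
  have he_mk : ∀ r : R, e (Ideal.Quotient.mk _ r) = ρ r := fun r => rfl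
  have he : ∀ a, e (σbar a) = f (e a) := by
    intro a
    obtain ⟨r, rfl⟩ := Ideal.Quotient.mk_surjective a
    rw [hσbar, he_mk, he_mk, hρ, hσ, wittRes_truncMap]
  refine ⟨hI, σbar, hσbar, ?_, ?_, ?_, ?_⟩
  · exact surjective_transfer e σbar f he hf
  · exact hyp2_transfer e σbar f he h2
  · exact hyp3_transfer e σbar f he h3
  · intro x hx
    have ha : f (e x) = e x := by rw [← he, hx]
    refine ⟨WittVector.truncate (n + 1) (WittVector.teichmuller p (e x)), ?_, ?_⟩
    · rw [hσ, WittGrp.truncMap_truncate, WittVector.map_teichmuller, ha]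
    · apply e.injective
      rw [he_mk, hρ, wittRes_truncate, WittVector.teichmuller_coeff_zero]

theorem witt_sub_map_surjective (n : ℕ) (f : k →+* k) (hf : Function.Surjective f) (h2 : Hyp2 f)
    (h3 : Hyp3 f) {M : Type v} [AddCommGroup M] [Module (TruncatedWittVector p n k) M]
    [Module.Finite (TruncatedWittVector p n k) M] (T : M →ₛₗ[WittGrp.truncMap p n f] M) :
    Function.Surjective (fun m : M => m - T m) := by
  cases n with
  | zero =>
    have := witt_zero_subsingleton p k
    have : Subsingleton M := Module.subsingleton (TruncatedWittVector p 0 k) M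
    intro m
    exact ⟨m, Subsingleton.elim _ _⟩
  | succ n =>
    obtain ⟨_, σbar, hσbar, hsurj, h2', h3', -⟩ := witt_setup p k n f hf h2 h3
    exact sub_map_surjective_of_nilpotent _ σbar hσbar T (p : TruncatedWittVector p (n + 1) k) rfl
      (map_natCast _ p) (n + 1) (witt_p_pow_eq_zero p k (n + 1)) hsurj h2' h3'

theorem witt_fixed_finite (n : ℕ) (f : k →+* k) (hf : Function.Surjective f) (h2 : Hyp2 f)
    (h3 : Hyp3 f) (hfin : {a : k | f a = a}.Finite)
    {M : Type v} [AddCommGroup M] [Module (TruncatedWittVector p n k) M]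
    [Module.Finite (TruncatedWittVector p n k) M] (T : M →ₛₗ[WittGrp.truncMap p n f] M) :
    {m : M | T m = m}.Finite := by
  cases n with
  | zero =>
    have := witt_zero_subsingleton p k
    have : Subsingleton M := Module.subsingleton (TruncatedWittVector p 0 k) M
    exact Set.toFinite _
  | succ n =>
    obtain ⟨_, σbar, hσbar, hsurj, h2', h3', hlift⟩ := witt_setup p k n f hf h2 h3
    have hfg := fixedSub_fg _ σbar hσbar (p : TruncatedWittVector p (n + 1) k) rfl
      (map_natCast _ p) (n + 1) (witt_p_pow_eq_zero p k (n + 1)) hsurj h2' h3' hlift (n + 1) M T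
      (fun m => by rw [witt_p_pow_eq_zero p k (n + 1), zero_smul])
    -- the fixed ring is finite
    have hR0 : ((fixedRing (WittGrp.truncMap p (n + 1) f) : Subring _) :
        Set (TruncatedWittVector p (n + 1) k)).Finite := by
      have hpi : {x : Fin (n + 1) → k | ∀ i, x i ∈ {a : k | f a = a}}.Finite :=
        Set.Finite.pi' (fun _ => hfin)
      have hpi' : {x : TruncatedWittVector p (n + 1) k |
          ∀ i, TruncatedWittVector.coeff i x ∈ {a : k | f a = a}}.Finite := hpi
      refine hpi'.subset ?_
      intro x hx i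
      have hx' : WittGrp.truncMap p (n + 1) f x = x := hx
      have h := WittGrp.coeff_truncMap p (n + 1) f x i
      rw [hx'] at h
      exact h.symm
    have : Finite (fixedRing (WittGrp.truncMap p (n + 1) f)) := hR0.to_subtype
    have : Module.Finite (fixedRing (WittGrp.truncMap p (n + 1) f)) (fixedSub T) :=
      Module.Finite.iff_fg.mpr hfg
    have : Finite (fixedSub T) := Module.finite_of_finite (fixedRing (WittGrp.truncMap p (n + 1) f))
    exact Set.toFinite (fixedSub T : Set M)

end WittMain

end SigmaLin
end Groth.Agent.Lib.Helper96
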