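import Mathlib

/-!
# Directional derivatives of forms and tangency conditions

For polynomials in `Fin n` variables over a field: the linear form `L g` of a functional `g`,
the directional-derivative functional `ddl v P : w ↦ ∑ i, (∂_i P)(v) * w i`, product/power rules,
Euler's identity, the symmetry `ddl v P w = ddl w P v` for quadratic forms, and extension lemmas for
functionals.
-/

set_option autoImplicit false
universe u

namespace Helper96.TangentForms

open MvPolynomial

variable {k : Type u} [Field k] {n : ℕ}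

/-- The linear form attached to a functional on `k^n`. -/
noncomputable def L (g : Module.Dual k (Fin n → k)) : MvPolynomial (Fin n) k :=
  ∑ i, C (g (fun j => if i = j then 1 else 0)) * X i

theorem sum_coeff_mul (g : Module.Dual k (Fin n → k)) (v : Fin n → k) :
    ∑ i, g (fun j => if i = j then 1 else 0) * v i = g v := by
  conv_rhs => rw [LinearMap.pi_apply_eq_sum_univ g v]
  apply Finset.sum_congr rfl
  intro i _
  rw [smul_eq_mul, mul_comm]

theorem aeval_L (g : Module.Dual k (Fin n → k)) (v : Fin n → k) : aeval v (L g) = g v := by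
  simp only [L, map_sum, map_mul, aeval_C, aeval_X, Algebra.algebraMap_self, RingHom.id_apply]
  exact sum_coeff_mul g v

theorem pderiv_L (g : Module.Dual k (Fin n → k)) (j : Fin n) :
    pderiv j (L g) = C (g (fun l => if j = l then 1 else 0)) := by
  classical
  simp only [L, map_sum, pderiv_C_mul, pderiv_X]
  rw [Finset.sum_eq_single j]
  · simp
  · intro i _ hij
    simp [Pi.single_apply, hij]
  · intro h
    exact absurd (Finset.mem_univ j) h

theorem isHomogeneous_L (g : Module.Dual k (Fin n → k)) : (L g).IsHomogeneous 1 :=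
  IsHomogeneous.sum _ _ _ (fun i _ => isHomogeneous_C_mul_X _ _)

/-- The directional derivative at `v`, as a functional of the direction. -/
noncomputable def ddl (v : Fin n → k) : MvPolynomial (Fin n) k →ₗ[k] Module.Dual k (Fin n → k) :=
  ∑ i, ((aeval v).toLinearMap ∘ₗ (pderiv i).toLinearMap).smulRight
    (LinearMap.proj i : (Fin n → k) →ₗ[k] k)

theorem ddl_apply (v : Fin n → k) (P : MvPolynomial (Fin n) k) (w : Fin n → k) :
    ddl v P w = ∑ i, aeval v (pderiv i P) * w i := by
  simp [ddl, LinearMap.sum_apply, LinearMap.smulRight_apply]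

theorem ddl_mul (v : Fin n → k) (P Q : MvPolynomial (Fin n) k) (w : Fin n → k) :
    ddl v (P * Q) w = ddl v P w * aeval v Q + aeval v P * ddl v Q w := by
  simp only [ddl_apply, Derivation.leibniz, smul_eq_mul, map_add, map_mul, add_mul,
    Finset.sum_add_distrib, Finset.mul_sum, Finset.sum_mul]
  rw [add_comm]
  congr 1 <;> (apply Finset.sum_congr rfl; intro i _; ring)

theorem ddl_pow (v : Fin n → k) (P : MvPolynomial (Fin n) k) (w : Fin n → k) (e : ℕ) :
    ddl v (P ^ (e + 1)) w = ((e : k) + 1) * (aeval v P) ^ e * ddl v P w := by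
  induction e with
  | zero => simp
  | succ m ih =>
    rw [pow_succ, ddl_mul, ih, map_pow]
    push_cast
    ring

theorem ddl_L (v : Fin n → k) (g : Module.Dual k (Fin n → k)) (w : Fin n → k) :
    ddl v (L g) w = g w := by
  rw [ddl_apply]
  simp only [pderiv_L, aeval_C, Algebra.algebraMap_self, RingHom.id_apply]
  exact sum_coeff_mul g w

theorem ddl_X (v : Fin n → k) (a : Fin n) (w : Fin n → k) : ddl v (X a) w = w a := by
  classical
  rw [ddl_apply]
  simp only [pderiv_X]
  rw [Finset.sum_eq_single a]
  · simp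
  · intro i _ hia
    simp [Pi.single_apply, hia.symm]
  · intro h
    exact absurd (Finset.mem_univ a) h

theorem ddl_euler (v : Fin n → k) (P : MvPolynomial (Fin n) k) (d : ℕ) (hP : P.IsHomogeneous d) :
    ddl v P v = (d : k) * aeval v P := by
  have h2 := congrArg (aeval v) hP.sum_X_mul_pderiv
  simp only [map_sum, map_mul, aeval_X, nsmul_eq_mul, map_natCast] at h2
  rw [ddl_apply, ← h2]
  apply Finset.sum_congr rfl
  intro i _
  ring

/-- The value and the directional derivative of `(L g)^(e+1) * L h`. -/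
theorem aeval_G (v : Fin n → k) (g h : Module.Dual k (Fin n → k)) (e : ℕ) :
    aeval v ((L g) ^ e * L h) = (g v) ^ e * h v := by
  rw [map_mul, map_pow, aeval_L, aeval_L]

theorem ddl_G (v w : Fin n → k) (g h : Module.Dual k (Fin n → k)) (e : ℕ) :
    ddl v ((L g) ^ (e + 1) * L h) w =
      ((e : k) + 1) * (g v) ^ e * g w * h v + (g v) ^ (e + 1) * h w := by
  rw [ddl_mul, ddl_pow, ddl_L, ddl_L, map_pow, aeval_L, aeval_L]

theorem isHomogeneous_G (g h : Module.Dual k (Fin n → k)) (e : ℕ) :
    ((L g) ^ e * L h).IsHomogeneous (e + 1) := by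
  have h1 : ((L g) ^ e).IsHomogeneous (1 * e) := (isHomogeneous_L g).pow e
  rw [one_mul] at h1
  exact h1.mul (isHomogeneous_L h)

/-- Exponent vectors of degree two are sums of two basis vectors. -/
theorem exists_single_add_single {s : Fin n →₀ ℕ} (hs : s.degree = 2) :
    ∃ a b : Fin n, s = Finsupp.single a 1 + Finsupp.single b 1 := by
  classical
  have hs0 : s ≠ 0 := by
    rintro rfl
    simp at hs
  obtain ⟨a, ha⟩ := Finsupp.ne_iff.1 hs0
  simp only [Finsupp.coe_zero, Pi.zero_apply] at ha
  have hle : Finsupp.single a 1 ≤ s := by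
    rw [Finsupp.single_le_iff]
    exact Nat.one_le_iff_ne_zero.2 ha
  set s' := s - Finsupp.single a 1 with hs'
  have hss' : s = s' + Finsupp.single a 1 := (tsub_add_cancel_of_le hle).symm
  have hd' : s'.degree = 1 := by
    have := congrArg Finsupp.degree hss'
    rw [map_add, Finsupp.degree_single, hs] at this
    omega
  have hs'0 : s' ≠ 0 := by
    intro h
    rw [h] at hd'
    simp at hd'
  obtain ⟨b, hb⟩ := Finsupp.ne_iff.1 hs'0
  simp only [Finsupp.coe_zero, Pi.zero_apply] at hb
  have hle' : Finsupp.single b 1 ≤ s' := by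
    rw [Finsupp.single_le_iff]
    exact Nat.one_le_iff_ne_zero.2 hb
  set s'' := s' - Finsupp.single b 1 with hs''
  have hss'' : s' = s'' + Finsupp.single b 1 := (tsub_add_cancel_of_le hle').symm
  have hd'' : s''.degree = 0 := by
    have := congrArg Finsupp.degree hss''
    rw [map_add, Finsupp.degree_single, hd'] at this
    omega
  have : s'' = 0 := (Finsupp.degree_eq_zero_iff _).1 hd''
  refine ⟨a, b, ?_⟩
  rw [hss', hss'', this, zero_add, add_comm]

theorem ddl_symm (v w : Fin n → k) (P : MvPolynomial (Fin n) k) (hP : P.IsHomogeneous 2) :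
    ddl v P w = ddl w P v := by
  have key : ∀ s : Fin n →₀ ℕ, s.degree = 2 →
      ddl v (monomial s (1 : k)) w = ddl w (monomial s (1 : k)) v := by
    intro s hs
    obtain ⟨a, b, rfl⟩ := exists_single_add_single hs
    have : (monomial (Finsupp.single a 1 + Finsupp.single b 1) (1 : k) :
        MvPolynomial (Fin n) k) = X a * X b := by
      rw [X, X, monomial_mul, one_mul]
    rw [this, ddl_mul, ddl_mul, ddl_X, ddl_X, ddl_X, ddl_X, aeval_X, aeval_X, aeval_X, aeval_X]
    ring
  have hmem : P ∈ homogeneousSubmodule (Fin n) k 2 := hP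
  rw [homogeneousSubmodule_eq_finsupp_supported, AddMonoidAlgebra.supported_eq_span_single] at hmem
  clear hP
  induction hmem using Submodule.span_induction with
  | mem x hx =>
    obtain ⟨s, hs, rfl⟩ := hx
    exact key s hs
  | zero => simp
  | add x y _ _ hx hy => simp only [map_add, LinearMap.add_apply, hx, hy]
  | smul c x _ hx => simp only [map_smul, LinearMap.smul_apply, hx]

/-- Extending a functional from a subspace. -/
theorem exists_extend (W : Submodule k (Fin n → k)) (f : Module.Dual k W) :
    ∃ g : Module.Dual k (Fin n → k), ∀ w : W, g w = f w := by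
  obtain ⟨g, hg⟩ := LinearMap.exists_extend f
  exact ⟨g, fun w => LinearMap.congr_fun hg w⟩

/-- Extending a functional from a subspace with value zero at a vector outside it. -/
theorem exists_extend_zero (W : Submodule k (Fin n → k)) (f : Module.Dual k W) (u : Fin n → k)
    (hu : u ∉ W) :
    ∃ g : Module.Dual k (Fin n → k), (∀ w : W, g w = f w) ∧ g u = 0 := by
  obtain ⟨g₀, hg₀⟩ := exists_extend W f
  obtain ⟨h, hhu, hhW⟩ := Submodule.exists_dual_map_eq_bot_of_notMem hu inferInstance
  have hW0 : ∀ w : W, h w = 0 := by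
    intro w
    have : h w ∈ W.map h := Submodule.mem_map_of_mem w.2
    rw [hhW] at this
    exact (Submodule.mem_bot k).1 this
  refine ⟨g₀ - (g₀ u / h u) • h, ?_, ?_⟩
  · intro w
    simp [hg₀ w, hW0 w]
  · simp only [LinearMap.sub_apply, LinearMap.smul_apply, smul_eq_mul]
    field_simp
    ring

/-- Dual vectors for a linearly independent pair. -/
theorem exists_dual_pair (v₁ v₂ : Fin n → k) (hv : LinearIndependent k ![v₁, v₂]) :
    ∃ α β : Module.Dual k (Fin n → k), α v₁ = 1 ∧ α v₂ = 0 ∧ β v₁ = 0 ∧ β v₂ = 1 := by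
  have h0 := hv.repr_eq_single 0 ⟨v₁, Submodule.subset_span ⟨0, rfl⟩⟩ rfl
  have h1 := hv.repr_eq_single 1 ⟨v₂, Submodule.subset_span ⟨1, rfl⟩⟩ rfl
  obtain ⟨α, hα⟩ := LinearMap.exists_extend ((Finsupp.lapply (0 : Fin 2)) ∘ₗ hv.repr)
  obtain ⟨β, hβ⟩ := LinearMap.exists_extend ((Finsupp.lapply (1 : Fin 2)) ∘ₗ hv.repr)
  refine ⟨α, β, ?_, ?_, ?_, ?_⟩
  · have := LinearMap.congr_fun hα ⟨v₁, Submodule.subset_span ⟨0, rfl⟩⟩
    simpa [h0] using this
  · have := LinearMap.congr_fun hα ⟨v₂, Submodule.subset_span ⟨1, rfl⟩⟩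
    simpa [h1] using this
  · have := LinearMap.congr_fun hβ ⟨v₁, Submodule.subset_span ⟨0, rfl⟩⟩
    simpa [h0] using this
  · have := LinearMap.congr_fun hβ ⟨v₂, Submodule.subset_span ⟨1, rfl⟩⟩
    simpa [h1] using this

end Helper96.TangentForms
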