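import Mathlib

/-!
# Localization of a UFD away from a product of primes (helper96)
-/

set_option autoImplicit false

namespace Groth.Agent.Lib.Helper96
namespace UFDAway

universe u

/-- If `x` is prime and `x ^ (N * k + 1) ∣ β ^ k` then `x ^ (N + 1) ∣ β`. -/
theorem pow_succ_dvd_of_pow_dvd_pow {A : Type u} [CommRing A] [IsDomain A] {x β : A}
    (hx : Prime x) {N k : ℕ} (h : x ^ (N * k + 1) ∣ β ^ k) : x ^ (N + 1) ∣ β := by
  rw [pow_dvd_iff_le_emultiplicity] at h ⊢
  rw [emultiplicity_pow hx] at h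
  by_cases hfin : emultiplicity x β = ⊤
  · rw [hfin]; exact le_top
  · obtain ⟨v, hv⟩ := ENat.ne_top_iff_exists.mp hfin
    rw [← hv] at h ⊢
    have h3 : N * k + 1 ≤ k * v := by exact_mod_cast h
    have h4 : N + 1 ≤ v := by
      by_contra hlt
      have : v ≤ N := by omega
      have : k * v ≤ k * N := Nat.mul_le_mul_left k this
      nlinarith
    exact_mod_cast h4

/-- If `x` is prime, `k ≥ 1` and `x ^ (N * k) ∣ β ^ k` then `x ^ N ∣ β`. -/
theorem pow_dvd_of_pow_dvd_pow {A : Type u} [CommRing A] [IsDomain A] {x β : A}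
    (hx : Prime x) {N k : ℕ} (hk : 1 ≤ k) (h : x ^ (N * k) ∣ β ^ k) : x ^ N ∣ β := by
  rw [pow_dvd_iff_le_emultiplicity] at h ⊢
  rw [emultiplicity_pow hx] at h
  by_cases hfin : emultiplicity x β = ⊤
  · rw [hfin]; exact le_top
  · obtain ⟨v, hv⟩ := ENat.ne_top_iff_exists.mp hfin
    rw [← hv] at h ⊢
    have h3 : N * k ≤ k * v := by exact_mod_cast h
    have h4 : N ≤ v := by
      by_contra hlt
      have : v + 1 ≤ N := by omega
      have : k * (v + 1) ≤ k * N := Nat.mul_le_mul_left k this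
      nlinarith
    exact_mod_cast h4

section

variable {A B : Type u} [CommRing A] [IsDomain A] [UniqueFactorizationMonoid A]
  [CommRing B] [Algebra A B] {r : ℕ} (x : Fin r → A)
  (hx : ∀ i, Prime (x i)) (hxa : ∀ i j, Associated (x i) (x j) → i = j)
  [IsLocalization.Away (∏ i, x i) B]

omit [UniqueFactorizationMonoid A] in
include hx in
theorem prod_ne_zero : (∏ i, x i) ≠ 0 :=
  Finset.prod_ne_zero_iff.mpr fun i _ => (hx i).ne_zero

omit [UniqueFactorizationMonoid A] in
include hx in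
theorem algebraMap_injective : Function.Injective (algebraMap A B) :=
  IsLocalization.injective B (M := Submonoid.powers (∏ i, x i))
    (powers_le_nonZeroDivisors_of_noZeroDivisors (prod_ne_zero x hx))

include hx hxa in
/-- Pairwise non-associate primes: if every `x i ^ N` divides `β` then so does `(∏ x i) ^ N`. -/
theorem prod_pow_dvd {β : A} {N : ℕ} (h : ∀ i, x i ^ N ∣ β) : (∏ i, x i) ^ N ∣ β := by
  rw [← Finset.prod_pow]
  refine Finset.prod_dvd_of_isRelPrime ?_ (fun i _ => h i)
  intro i _ i' _ hii'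
  change IsRelPrime (x i ^ N) (x i' ^ N)
  apply IsRelPrime.pow
  rw [(hx i).irreducible.isRelPrime_iff_not_dvd]
  intro hd
  exact hii' (hxa i i' ((hx i).associated_of_dvd (hx i') hd))

include hx hxa in
/-- `A` is "root closed" in `B = A[1/π]`. -/
theorem mem_range_of_pow_mem_range {w : B} {k : ℕ} (hk : 1 ≤ k)
    (h : w ^ k ∈ (algebraMap A B).range) : w ∈ (algebraMap A B).range := by
  set π : A := ∏ i, x i with hπ
  obtain ⟨α, hα⟩ := h
  obtain ⟨⟨β, ⟨_, ⟨N, rfl⟩⟩⟩, hβ⟩ := IsLocalization.surj (Submonoid.powers π) w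
  simp only at hβ
  have hinj := algebraMap_injective (B := B) x hx
  have hβk : β ^ k = α * π ^ (N * k) := by
    apply hinj
    rw [map_pow, ← hβ, mul_pow, ← hα, ← map_pow, ← map_mul, ← pow_mul]
  have hdiv : ∀ i, x i ^ N ∣ β := by
    intro i
    apply pow_dvd_of_pow_dvd_pow (hx i) hk
    rw [hβk]
    exact (pow_dvd_pow_of_dvd (Finset.dvd_prod_of_mem x (Finset.mem_univ i)) _).trans
      (dvd_mul_left _ _)
  obtain ⟨b, hb⟩ := prod_pow_dvd x hx hxa hdiv
  refine ⟨b, ?_⟩
  have hunit : IsUnit (algebraMap A B (π ^ N)) := by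
    rw [map_pow]
    exact (IsLocalization.Away.algebraMap_isUnit (S := B) π).pow N
  apply hunit.mul_right_cancel
  rw [hβ, hb, ← map_mul, mul_comm]

end

end UFDAway
end Groth.Agent.Lib.Helper96
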