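import Groth.Agent.Lib.Helper96.UFDAway

/-!
# Localization of a UFD away from a product of primes: roots with small remainders (helper96)

`mem_range_of_pow_mul_prod_pow_mem_range`: in `B = A[1/∏ x i]`, if
`w ^ p * ∏ x i ^ (ρ i) ∈ A` with all `ρ i < p` then `w ∈ A`.
-/

set_option autoImplicit false

namespace Groth.Agent.Lib.Helper96
namespace UFDAway

universe u

/-- If `x` is prime, `ρ < p` and `x ^ (N * p) ∣ β ^ p * x ^ ρ` then `x ^ N ∣ β`. -/
theorem pow_dvd_of_pow_dvd_pow_mul_pow {A : Type u} [CommRing A] [IsDomain A] {x β : A}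
    (hx : Prime x) {N p ρ : ℕ} (hρ : ρ < p) (h : x ^ (N * p) ∣ β ^ p * x ^ ρ) : x ^ N ∣ β := by
  rcases Nat.eq_zero_or_pos N with rfl | hN
  · simp
  obtain ⟨N', rfl⟩ : ∃ N', N = N' + 1 := ⟨N - 1, by omega⟩
  apply pow_succ_dvd_of_pow_dvd_pow hx (k := p)
  have h1 : (N' + 1) * p = (N' * p + 1) + (p - 1 - ρ) + ρ := by
    have : (N' + 1) * p = N' * p + p := by ring
    omega
  rw [h1, pow_add] at h
  have h2 := (mul_dvd_mul_iff_right (pow_ne_zero ρ hx.ne_zero)).1 h
  exact dvd_trans (pow_dvd_pow x (Nat.le_add_right _ _)) h2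

section

variable {A B : Type u} [CommRing A] [IsDomain A] [UniqueFactorizationMonoid A]
  [CommRing B] [Algebra A B] {r : ℕ} (x : Fin r → A)
  (hx : ∀ i, Prime (x i)) (hxa : ∀ i j, Associated (x i) (x j) → i = j)
  [IsLocalization.Away (∏ i, x i) B]

include hx hxa in
theorem mem_range_of_pow_mul_prod_pow_mem_range {w : B} {p : ℕ} (ρ : Fin r → ℕ)
    (hρ : ∀ i, ρ i < p)
    (h : w ^ p * algebraMap A B (∏ i, x i ^ ρ i) ∈ (algebraMap A B).range) :
    w ∈ (algebraMap A B).range := by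
  classical
  set π : A := ∏ i, x i with hπ
  obtain ⟨α, hα⟩ := h
  obtain ⟨⟨β, ⟨_, ⟨N, rfl⟩⟩⟩, hβ⟩ := IsLocalization.surj (Submonoid.powers π) w
  simp only at hβ
  have hinj := algebraMap_injective (B := B) x hx
  have hβk : β ^ p * (∏ i, x i ^ ρ i) = α * π ^ (N * p) := by
    apply hinj
    have e1 : algebraMap A B (π ^ (N * p)) = (algebraMap A B (π ^ N)) ^ p := by
      rw [pow_mul, map_pow]
    rw [map_mul, map_mul, map_pow, ← hβ, hα, e1]
    ring
  have hdiv : ∀ i, x i ^ N ∣ β := by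
    intro i
    apply pow_dvd_of_pow_dvd_pow_mul_pow (hx i) (hρ i)
    have h1 : x i ^ (N * p) ∣ β ^ p * (∏ j, x j ^ ρ j) := by
      rw [hβk]
      exact (pow_dvd_pow_of_dvd (Finset.dvd_prod_of_mem x (Finset.mem_univ i)) _).trans
        (dvd_mul_left _ _)
    rw [← Finset.mul_prod_erase Finset.univ (fun j => x j ^ ρ j) (Finset.mem_univ i),
      ← mul_assoc] at h1
    refine (hx i).pow_dvd_of_dvd_mul_right _ ?_ h1
    intro hd
    obtain ⟨j, hj, hdj⟩ := (hx i).exists_mem_finset_dvd hd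
    have hne : j ≠ i := Finset.ne_of_mem_erase hj
    have hd' : x i ∣ x j := (hx i).dvd_of_dvd_pow hdj
    exact hne (hxa i j ((hx i).associated_of_dvd (hx j) hd')).symm
  obtain ⟨b, hb⟩ := prod_pow_dvd x hx hxa hdiv
  refine ⟨b, ?_⟩
  have hunit : IsUnit (algebraMap A B (π ^ N)) := by
    rw [map_pow]
    exact (IsLocalization.Away.algebraMap_isUnit (S := B) π).pow N
  apply hunit.mul_right_cancel
  rw [hβ, hb, ← map_mul, mul_comm]

end

end UFDAway
end Groth.Agent.Lib.Helper96
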