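import Mathlib

/-!
# Reduced fractions in `A[1/x]` for a prime `x` of a UFD `A` (helper96)

`u : Bˣ` is the unit of `B = A[1/x]` defined by `x`.  Every nonzero `w : B` is `β * u ^ e` with
`x ∤ β`; consequently if `w ^ k * u ^ n ∈ A` and `k ∤ n` then already `w ^ k * u ^ (n - 1) ∈ A`.
-/

set_option autoImplicit false

namespace Groth.Agent.Lib.Helper96
namespace UFDAwayVal

universe u

variable {A B : Type u} [CommRing A] [CommRing B] [Algebra A B] (x : A) (u : Bˣ)
  (hu : (u : B) = algebraMap A B x)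

include hu in
theorem units_zpow_natCast (t : ℕ) : ((u ^ (t : ℤ) : Bˣ) : B) = algebraMap A B (x ^ t) := by
  rw [zpow_natCast, Units.val_pow_eq_pow_val, hu, map_pow]

include hu in
theorem units_zpow_of_nonneg {t : ℤ} (ht : 0 ≤ t) :
    ((u ^ t : Bˣ) : B) = algebraMap A B (x ^ t.toNat) := by
  obtain ⟨k, rfl⟩ := Int.eq_ofNat_of_zero_le ht
  rw [units_zpow_natCast x u hu, Int.toNat_natCast]

include hu in
theorem selfZPow_eq [IsLocalization.Away x B] (n : ℤ) :
    selfZPow x B n = ((u ^ n : Bˣ) : B) := by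
  rcases le_or_gt 0 n with hn | hn
  · obtain ⟨k, rfl⟩ := Int.eq_ofNat_of_zero_le hn
    rw [selfZPow_natCast, zpow_natCast, Units.val_pow_eq_pow_val, hu]
  · obtain ⟨k, rfl⟩ : ∃ k : ℕ, n = -(k : ℤ) := ⟨n.natAbs, by omega⟩
    have h1 := selfZPow_mul_neg x B (k : ℤ)
    rw [selfZPow_natCast] at h1
    rw [zpow_neg, zpow_natCast]
    symm
    apply Units.inv_eq_of_mul_eq_one_right
    rw [Units.val_pow_eq_pow_val, hu]
    exact h1

include hu in
/-- Reduced fractions: every nonzero element of `A[1/x]` is `β * u ^ e` with `x ∤ β`. -/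
theorem exists_reduced [IsDomain A] [WfDvdMonoid A] [IsLocalization.Away x B]
    (hx : Irreducible x) {w : B} (hw : w ≠ 0) :
    ∃ (β : A) (e : ℤ), ¬ x ∣ β ∧ w = algebraMap A B β * ((u ^ e : Bˣ) : B) := by
  obtain ⟨β, e, hβ, h⟩ := exists_reduced_fraction' x B hw hx
  refine ⟨β, e, hβ, ?_⟩
  rw [← h, selfZPow_eq x u hu, mul_comm]

include hu in
/-- If `w ^ k * u ^ n` lies in `A` and `k ∤ n`, then `w ^ k * u ^ (n - 1)` lies in `A`. -/
theorem pow_mul_zpow_pred_mem_range [IsDomain A] [WfDvdMonoid A] [IsLocalization.Away x B]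
    (hx : Prime x) {w : B} {k : ℕ} (hk : k ≠ 0) {n : ℤ} (hkn : ¬ ((k : ℤ) ∣ n))
    (h : w ^ k * ((u ^ n : Bˣ) : B) ∈ (algebraMap A B).range) :
    w ^ k * ((u ^ (n - 1) : Bˣ) : B) ∈ (algebraMap A B).range := by
  by_cases hw : w = 0
  · subst hw
    rw [zero_pow hk, zero_mul]
    exact Subring.zero_mem _
  obtain ⟨β, e, hβ, rfl⟩ := exists_reduced x u hu hx.irreducible hw
  have hinj : Function.Injective (algebraMap A B) :=
    IsLocalization.injective B (M := Submonoid.powers x)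
      (powers_le_nonZeroDivisors_of_noZeroDivisors hx.ne_zero)
  set t : ℤ := k * e + n with ht
  have hrew : ∀ s : ℤ, (algebraMap A B β * ((u ^ e : Bˣ) : B)) ^ k * ((u ^ s : Bˣ) : B) =
      algebraMap A B (β ^ k) * ((u ^ ((k : ℤ) * e + s) : Bˣ) : B) := by
    intro s
    rw [mul_pow, map_pow, mul_assoc, ← Units.val_pow_eq_pow_val, ← Units.val_mul, ← zpow_natCast,
      ← zpow_mul, ← zpow_add, mul_comm e]
  rw [hrew] at h ⊢
  have ht0 : t ≠ 0 := by
    intro h0
    apply hkn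
    exact ⟨-e, by rw [ht] at h0; linarith⟩
  rcases lt_or_gt_of_ne ht0 with hneg | hpos
  · exfalso
    obtain ⟨α, hα⟩ := h
    apply hβ
    have h1 : algebraMap A B (β ^ k) = algebraMap A B (α * x ^ (-t).toNat) := by
      rw [map_mul, ← units_zpow_of_nonneg x u hu (by omega : (0 : ℤ) ≤ -t), hα, mul_assoc,
        ← Units.val_mul, ← zpow_add, ← ht, add_neg_cancel, zpow_zero, Units.val_one, mul_one]
    have h2 := hinj h1
    have h3 : x ∣ β ^ k := by
      rw [h2]
      apply Dvd.dvd.mul_left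
      apply dvd_pow_self
      omega
    exact hx.dvd_of_dvd_pow h3
  · have h1 : (k : ℤ) * e + (n - 1) = t - 1 := by rw [ht]; ring
    rw [h1, units_zpow_of_nonneg x u hu (by omega : (0 : ℤ) ≤ t - 1), ← map_mul]
    exact ⟨_, rfl⟩

end UFDAwayVal
end Groth.Agent.Lib.Helper96
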