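import Mathlib

/-!
# Elements of `R ⊗[k] A` with a unit coefficient (helper96)

`k` an algebraically closed field, `A` a `k`-algebra which is a domain, `b` a `k`-basis of `A`.
For every `k`-algebra `R` and every `f : R ⊗[k] A` one of whose coefficients (with respect to the
`R`-basis `1 ⊗ b i`) is a unit of `R`:
* `claimG`: `f * h ∈ I^e → h ∈ I^e` for every ideal `I` of `R` (`I^e` the extended ideal);
* `mem_nonZeroDivisors_of_isUnit_repr`: `f` is a non-zero-divisor;
* `flat_quotient`: `(R ⊗[k] A) ⧸ (f)` is flat over `R`.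
-/

set_option autoImplicit false
set_option linter.style.haveILetI false
universe u
open TensorProduct

namespace Groth.Agent.Lib.Helper96.UnitContent

section toolkit

variable {k : Type u} [Field k] {A : Type u} [CommRing A] [Algebra k A]
variable {ι : Type u} (b : Module.Basis ι k A)

/-- the `R`-basis `1 ⊗ b i` of `R ⊗[k] A`. -/
noncomputable abbrev tb (R : Type u) [CommRing R] [Algebra k R] : Module.Basis ι R (R ⊗[k] A) :=
  Algebra.TensorProduct.basis R b

lemma repr_tmul (R : Type u) [CommRing R] [Algebra k R] (r : R) (a : A) (i : ι) :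
    (tb b R).repr (r ⊗ₜ[k] a) i = r * algebraMap k R (b.repr a i) := by
  rw [Algebra.TensorProduct.basis_repr_tmul, Finsupp.smul_apply, Finsupp.mapRange_apply,
    smul_eq_mul]

lemma repr_map {R R' : Type u} [CommRing R] [Algebra k R] [CommRing R'] [Algebra k R']
    (φ : R →ₐ[k] R') (x : R ⊗[k] A) (i : ι) :
    (tb b R').repr (Algebra.TensorProduct.map φ (AlgHom.id k A) x) i = φ ((tb b R).repr x i) := by
  induction x using TensorProduct.induction_on with
  | zero => simp
  | tmul r a =>
    rw [Algebra.TensorProduct.map_tmul, repr_tmul, repr_tmul, map_mul, AlgHom.commutes]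
    rfl
  | add x y hx hy =>
    rw [map_add, map_add, Finsupp.add_apply, hx, hy, map_add, Finsupp.add_apply, map_add]

lemma repr_mul_left (R : Type u) [CommRing R] [Algebra k R] (c : R) (x : R ⊗[k] A) (i : ι) :
    (tb b R).repr (algebraMap R (R ⊗[k] A) c * x) i = c * (tb b R).repr x i := by
  rw [← Algebra.smul_def, map_smul, Finsupp.smul_apply, smul_eq_mul]

lemma sum_repr (R : Type u) [CommRing R] [Algebra k R] (x : R ⊗[k] A) :
    (∑ i ∈ ((tb b R).repr x).support, ((tb b R).repr x i) ⊗ₜ[k] (b i)) = x := by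
  conv_rhs => rw [← (tb b R).linearCombination_repr x, Finsupp.linearCombination_apply]
  rw [Finsupp.sum]
  refine Finset.sum_congr rfl fun i _ => ?_
  rw [Algebra.TensorProduct.basis_repr_symm_apply']

lemma mem_map_iff (R : Type u) [CommRing R] [Algebra k R] (I : Ideal R) (x : R ⊗[k] A) :
    x ∈ I.map (algebraMap R (R ⊗[k] A)) ↔ ∀ i, (tb b R).repr x i ∈ I := by
  have key : x ∈ I.map (algebraMap R (R ⊗[k] A)) ↔
      x ∈ I • (⊤ : Submodule R (R ⊗[k] A)) := by
    rw [Ideal.smul_top_eq_map]
    rfl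
  rw [key]
  constructor
  · intro hx
    refine Submodule.smul_induction_on hx ?_ ?_
    · intro r hr n _ i
      rw [map_smul, Finsupp.smul_apply, smul_eq_mul]
      exact I.mul_mem_right _ hr
    · intro x y hx hy i
      rw [map_add, Finsupp.add_apply]
      exact I.add_mem (hx i) (hy i)
  · intro h
    rw [← (tb b R).linearCombination_repr x, Finsupp.linearCombination_apply, Finsupp.sum]
    exact Submodule.sum_mem _ fun i _ => Submodule.smul_mem_smul (h i) Submodule.mem_top

lemma repr_lid (y : k ⊗[k] A) (i : ι) :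
    b.repr (Algebra.TensorProduct.lid k A y) i = (tb b k).repr y i := by
  induction y using TensorProduct.induction_on with
  | zero => simp
  | tmul c a =>
    rw [repr_tmul, Algebra.TensorProduct.lid_tmul, map_smul, Finsupp.smul_apply, smul_eq_mul]
    rfl
  | add x y hx hy =>
    rw [map_add, map_add, Finsupp.add_apply, hx, hy, map_add, Finsupp.add_apply]

include b in
lemma map_val_injective {R : Type u} [CommRing R] [Algebra k R] (C : Subalgebra k R) :
    Function.Injective (Algebra.TensorProduct.map C.val (AlgHom.id k A)) := by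
  intro x y hxy
  apply (tb b C).repr.injective
  ext i
  have h1 := congrArg (fun z => (tb b R).repr z i) hxy
  simp only [repr_map] at h1
  exact h1

lemma exists_lift {R : Type u} [CommRing R] [Algebra k R] (C : Subalgebra k R) (x : R ⊗[k] A)
    (hx : ∀ i, (tb b R).repr x i ∈ C) :
    ∃ x' : C ⊗[k] A, Algebra.TensorProduct.map C.val (AlgHom.id k A) x' = x := by
  refine ⟨∑ i ∈ ((tb b R).repr x).support, (⟨(tb b R).repr x i, hx i⟩ : C) ⊗ₜ[k] (b i), ?_⟩
  rw [map_sum]
  conv_rhs => rw [← sum_repr b R x]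
  refine Finset.sum_congr rfl fun i _ => ?_
  rw [Algebra.TensorProduct.map_tmul]
  rfl

end toolkit

section points

variable {k : Type u} [Field k] [IsAlgClosed k]

/-- `k`-points of a finitely generated algebra over an algebraically closed field separate a
prime ideal from an element outside it. -/
lemma exists_algHom_of_notMem (R₀ : Type u) [CommRing R₀] [Algebra k R₀] [Algebra.FiniteType k R₀]
    (I : Ideal R₀) [hI : I.IsPrime] (c : R₀) (hc : c ∉ I) :
    ∃ φ : R₀ →ₐ[k] k, (∀ x ∈ I, φ x = 0) ∧ φ c ≠ 0 := by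
  haveI : IsJacobsonRing R₀ := isJacobsonRing_of_finiteType (A := k) (B := R₀)
  have hJ : I.jacobson = I := IsJacobsonRing.out inferInstance hI.isRadical
  have hc' : c ∉ I.jacobson := by rwa [hJ]
  rw [Ideal.jacobson, Ideal.mem_sInf] at hc'
  push Not at hc'
  obtain ⟨m, ⟨hIm, hmax⟩, hcm⟩ := hc'
  haveI := hmax
  letI : Field (R₀ ⧸ m) := Ideal.Quotient.field m
  haveI : Algebra.FiniteType k (R₀ ⧸ m) :=
    Algebra.FiniteType.of_surjective (Ideal.Quotient.mkₐ k m) (Ideal.Quotient.mkₐ_surjective k m)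
  haveI : Module.Finite k (R₀ ⧸ m) := finite_of_finite_type_of_isJacobsonRing k (R₀ ⧸ m)
  have hbij : Function.Bijective (algebraMap k (R₀ ⧸ m)) :=
    IsAlgClosed.algebraMap_bijective_of_isIntegral
  let e : k ≃ₐ[k] (R₀ ⧸ m) := AlgEquiv.ofBijective (Algebra.ofId k (R₀ ⧸ m)) hbij
  refine ⟨(e.symm : (R₀ ⧸ m) →ₐ[k] k).comp (Ideal.Quotient.mkₐ k m), ?_, ?_⟩
  · intro x hx
    have h0 : Ideal.Quotient.mk m x = 0 := Ideal.Quotient.eq_zero_iff_mem.mpr (hIm hx)
    show e.symm (Ideal.Quotient.mk m x) = 0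
    rw [h0, map_zero]
  · intro h0
    apply hcm
    rw [← Ideal.Quotient.eq_zero_iff_mem]
    have h1 : e.symm (Ideal.Quotient.mk m c) = 0 := h0
    exact (EmbeddingLike.map_eq_zero_iff (f := e.symm)).mp h1

end points

section claims

variable {k : Type u} [Field k] [IsAlgClosed k] {A : Type u} [CommRing A] [Algebra k A]
  [IsDomain A]
variable {ι : Type u} (b : Module.Basis ι k A)

/-- the Noetherian (finitely generated) case, by Noetherian induction on the ideal. -/
theorem claimN (R₀ : Type u) [CommRing R₀] [Algebra k R₀] [Algebra.FiniteType k R₀]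
    (f : R₀ ⊗[k] A) (i₀ : ι) (hu : IsUnit ((tb b R₀).repr f i₀)) :
    ∀ I : Ideal R₀, ∀ h : R₀ ⊗[k] A, f * h ∈ I.map (algebraMap R₀ (R₀ ⊗[k] A)) →
      h ∈ I.map (algebraMap R₀ (R₀ ⊗[k] A)) := by
  haveI : IsNoetherianRing R₀ := Algebra.FiniteType.isNoetherianRing k R₀
  intro I
  refine IsNoetherian.induction (P := fun I : Ideal R₀ => ∀ h : R₀ ⊗[k] A,
    f * h ∈ I.map (algebraMap R₀ (R₀ ⊗[k] A)) → h ∈ I.map (algebraMap R₀ (R₀ ⊗[k] A))) ?_ I
  intro (I : Ideal R₀) IH h hfh
  by_cases hI : I = ⊤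
  · subst hI
    rw [Ideal.map_top]
    exact Submodule.mem_top
  by_cases hp : I.IsPrime
  · -- prime case: specialise to a `k`-point
    by_contra hh
    rw [mem_map_iff b] at hh
    push Not at hh
    obtain ⟨j₀, hj₀⟩ := hh
    have hfi : (tb b R₀).repr f i₀ ∉ I := fun hmem => hI (I.eq_top_of_isUnit_mem hmem hu)
    have hc : (tb b R₀).repr f i₀ * (tb b R₀).repr h j₀ ∉ I := fun hmem =>
      (hp.mem_or_mem hmem).elim hfi hj₀
    obtain ⟨φ, hφI, hφc⟩ := exists_algHom_of_notMem (k := k) R₀ I _ hc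
    let Φ : R₀ ⊗[k] A →ₐ[k] A :=
      (Algebra.TensorProduct.lid k A : k ⊗[k] A →ₐ[k] A).comp
        (Algebra.TensorProduct.map φ (AlgHom.id k A))
    have hΦ : ∀ (x : R₀ ⊗[k] A) (i : ι), b.repr (Φ x) i = φ ((tb b R₀).repr x i) := by
      intro x i
      show b.repr (Algebra.TensorProduct.lid k A (Algebra.TensorProduct.map φ (AlgHom.id k A) x)) i
        = _
      rw [repr_lid, repr_map]
    have h0 : Φ (f * h) = 0 := by
      apply b.repr.injective
      ext i
      rw [hΦ, map_zero, Finsupp.zero_apply]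
      exact hφI _ ((mem_map_iff b R₀ I _).mp hfh i)
    rw [map_mul, mul_eq_zero] at h0
    rw [map_mul] at hφc
    rcases h0 with h0 | h0
    · have := hΦ f i₀
      rw [h0, map_zero, Finsupp.zero_apply] at this
      exact hφc (by rw [← this, zero_mul])
    · have := hΦ h j₀
      rw [h0, map_zero, Finsupp.zero_apply] at this
      exact hφc (by rw [← this, mul_zero])
  · -- non-prime case
    rcases Ideal.not_isPrime_iff.mp hp with hI' | ⟨a, ha, a', ha', haa'⟩
    · exact absurd hI' hI
    let I₁ : Ideal R₀ := I ⊔ Ideal.span {a}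
    have hI₁ : I < I₁ := by
      refine SetLike.lt_iff_le_and_exists.mpr ⟨le_sup_left, a, ?_, ha⟩
      exact Ideal.mem_sup_right (Ideal.mem_span_singleton_self a)
    let I₂ : Ideal R₀ :=
      { carrier := {y | a * y ∈ I}
        add_mem' := by
          intro x y hx hy
          show a * (x + y) ∈ I
          rw [mul_add]
          exact I.add_mem hx hy
        zero_mem' := by
          show a * 0 ∈ I
          rw [mul_zero]
          exact I.zero_mem
        smul_mem' := by
          intro c x hx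
          show a * (c • x) ∈ I
          rw [smul_eq_mul, mul_left_comm]
          exact I.mul_mem_left c hx }
    have hI₂ : I < I₂ := by
      refine SetLike.lt_iff_le_and_exists.mpr ⟨fun x hx => I.mul_mem_left a hx, a', haa', ha'⟩
    have h2 := IH I₁ hI₁ h (Ideal.map_mono le_sup_left hfh)
    rw [Ideal.map_sup, Ideal.map_span, Set.image_singleton] at h2
    obtain ⟨h₁, hh₁, y, hy, rfl⟩ := Submodule.mem_sup.mp h2
    obtain ⟨h₂, rfl⟩ := Ideal.mem_span_singleton'.mp hy
    have h3 : algebraMap R₀ (R₀ ⊗[k] A) a * (f * h₂) ∈ I.map (algebraMap R₀ (R₀ ⊗[k] A)) := by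
      have : algebraMap R₀ (R₀ ⊗[k] A) a * (f * h₂) =
          f * (h₁ + h₂ * algebraMap R₀ (R₀ ⊗[k] A) a) - f * h₁ := by ring
      rw [this]
      exact Ideal.sub_mem _ hfh (Ideal.mul_mem_left _ _ hh₁)
    have h4 : f * h₂ ∈ I₂.map (algebraMap R₀ (R₀ ⊗[k] A)) := by
      rw [mem_map_iff b]
      intro i
      have := (mem_map_iff b R₀ I _).mp h3 i
      rw [repr_mul_left] at this
      exact this
    have h5 := (mem_map_iff b R₀ I₂ _).mp (IH I₂ hI₂ h₂ h4)
    refine Ideal.add_mem _ hh₁ ?_
    rw [mul_comm, mem_map_iff b]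
    intro i
    rw [repr_mul_left]
    exact h5 i

/-- the general case, by descent to a finitely generated subalgebra. -/
theorem claimG (R : Type u) [CommRing R] [Algebra k R]
    (f : R ⊗[k] A) (i₀ : ι) (hu : IsUnit ((tb b R).repr f i₀)) (I : Ideal R) (h : R ⊗[k] A)
    (hfh : f * h ∈ I.map (algebraMap R (R ⊗[k] A))) :
    h ∈ I.map (algebraMap R (R ⊗[k] A)) := by
  classical
  obtain ⟨v, hv⟩ := hu.exists_right_inv
  let F : Finset R := insert v ((((tb b R).repr f).support.image fun i => (tb b R).repr f i) ∪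
    (((tb b R).repr h).support.image fun i => (tb b R).repr h i))
  let C : Subalgebra k R := Algebra.adjoin k (F : Set R)
  haveI : Algebra.FiniteType k C := (Subalgebra.fg_iff_finiteType C).mp ⟨F, rfl⟩
  have hvC : v ∈ C := Algebra.subset_adjoin (Finset.mem_coe.mpr (Finset.mem_insert_self _ _))
  have hfC : ∀ i, (tb b R).repr f i ∈ C := by
    intro i
    by_cases hi : i ∈ ((tb b R).repr f).support
    · refine Algebra.subset_adjoin (Finset.mem_coe.mpr (Finset.mem_insert_of_mem
        (Finset.mem_union_left _ (Finset.mem_image_of_mem _ hi))))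
    · rw [Finsupp.notMem_support_iff.mp hi]
      exact C.zero_mem
  have hhC : ∀ i, (tb b R).repr h i ∈ C := by
    intro i
    by_cases hi : i ∈ ((tb b R).repr h).support
    · refine Algebra.subset_adjoin (Finset.mem_coe.mpr (Finset.mem_insert_of_mem
        (Finset.mem_union_right _ (Finset.mem_image_of_mem _ hi))))
    · rw [Finsupp.notMem_support_iff.mp hi]
      exact C.zero_mem
  obtain ⟨f', hf'⟩ := exists_lift b C f hfC
  obtain ⟨h', hh'⟩ := exists_lift b C h hhC
  have hval : ∀ (x : C ⊗[k] A) (i : ι), (((tb b C).repr x i : C) : R) =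
      (tb b R).repr (Algebra.TensorProduct.map C.val (AlgHom.id k A) x) i := by
    intro x i
    rw [repr_map]
    rfl
  have hu' : IsUnit ((tb b C).repr f' i₀) := by
    refine IsUnit.of_mul_eq_one (⟨v, hvC⟩ : C) ?_
    apply Subtype.ext
    show (((tb b C).repr f' i₀ : C) : R) * v = 1
    rw [hval, hf', hv]
  let I₀ : Ideal C := I.comap (algebraMap C R)
  have h1 : f' * h' ∈ I₀.map (algebraMap C (C ⊗[k] A)) := by
    rw [mem_map_iff b]
    intro i
    show (((tb b C).repr (f' * h') i : C) : R) ∈ I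
    rw [hval, map_mul, hf', hh']
    exact (mem_map_iff b R I _).mp hfh i
  have h2 := (mem_map_iff b C I₀ _).mp (claimN b C f' i₀ hu' I₀ h' h1)
  rw [mem_map_iff b]
  intro i
  have h3 : (((tb b C).repr h' i : C) : R) ∈ I := h2 i
  rw [hval, hh'] at h3
  exact h3

theorem mem_nonZeroDivisors_of_isUnit_repr (R : Type u) [CommRing R] [Algebra k R]
    (f : R ⊗[k] A) (i₀ : ι) (hu : IsUnit ((tb b R).repr f i₀)) :
    f ∈ nonZeroDivisors (R ⊗[k] A) := by
  rw [mem_nonZeroDivisors_iff_right]
  intro z hz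
  have h1 := claimG b R f i₀ hu ⊥ z (by
    rw [Ideal.map_bot, mul_comm, hz]
    exact Submodule.zero_mem _)
  rwa [Ideal.map_bot, Ideal.mem_bot] at h1

theorem flat_quotient (R : Type u) [CommRing R] [Algebra k R]
    (f : R ⊗[k] A) (i₀ : ι) (hu : IsUnit ((tb b R).repr f i₀)) :
    Module.Flat R ((R ⊗[k] A) ⧸ Ideal.span {f}) := by
  classical
  rw [Module.Flat.iff_lift_lsmul_comp_subtype_injective]
  intro I hIfg
  rw [injective_iff_map_eq_zero]
  intro x hx
  let π : (R ⊗[k] A) →ₗ[R] ((R ⊗[k] A) ⧸ Ideal.span {f}) :=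
    (Ideal.Quotient.mkₐ R (Ideal.span {f})).toLinearMap
  have hπ : Function.Surjective π := Ideal.Quotient.mk_surjective
  obtain ⟨x', rfl⟩ := LinearMap.lTensor_surjective I hπ x
  let m : I ⊗[R] (R ⊗[k] A) →ₗ[R] (R ⊗[k] A) :=
    TensorProduct.lift ((LinearMap.lsmul R (R ⊗[k] A)).comp I.subtype)
  have hm : Function.Injective m :=
    (Module.Flat.iff_lift_lsmul_comp_subtype_injective.mp inferInstance) hIfg
  have h1 : ∀ y : I ⊗[R] (R ⊗[k] A),
      TensorProduct.lift ((LinearMap.lsmul R ((R ⊗[k] A) ⧸ Ideal.span {f})).comp I.subtype)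
        (LinearMap.lTensor I π y) = π (m y) := by
    intro y
    induction y using TensorProduct.induction_on with
    | zero => simp
    | tmul a s =>
      rw [LinearMap.lTensor_tmul, TensorProduct.lift.tmul, TensorProduct.lift.tmul]
      simp only [LinearMap.comp_apply, LinearMap.lsmul_apply, Submodule.subtype_apply]
      rw [map_smul]
    | add y z hy hz => rw [map_add, map_add, hy, hz, map_add, map_add]
  have h2 : m x' ∈ Ideal.span {f} := by
    have : π (m x') = 0 := by rw [← h1, hx]
    exact Ideal.Quotient.eq_zero_iff_mem.mp this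
  obtain ⟨s, hs⟩ := Ideal.mem_span_singleton'.mp h2
  have h3 : ∀ y : I ⊗[R] (R ⊗[k] A), m y ∈ I.map (algebraMap R (R ⊗[k] A)) := by
    intro y
    induction y using TensorProduct.induction_on with
    | zero => rw [map_zero]; exact Submodule.zero_mem _
    | tmul a s =>
      show (a : R) • s ∈ _
      rw [Algebra.smul_def]
      exact Ideal.mul_mem_right _ _ (Ideal.mem_map_of_mem _ a.2)
    | add y z hy hz => rw [map_add]; exact Ideal.add_mem _ hy hz
  have h4 : s ∈ I.map (algebraMap R (R ⊗[k] A)) :=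
    claimG b R f i₀ hu I s (by rw [mul_comm, hs]; exact h3 x')
  obtain ⟨s', hs'⟩ : ∃ s' : I ⊗[R] (R ⊗[k] A), m s' = s := by
    rw [mem_map_iff b] at h4
    refine ⟨∑ i ∈ ((tb b R).repr s).support,
      (⟨(tb b R).repr s i, h4 i⟩ : I) ⊗ₜ[R] ((tb b R) i), ?_⟩
    rw [map_sum]
    conv_rhs => rw [← (tb b R).linearCombination_repr s, Finsupp.linearCombination_apply,
      Finsupp.sum]
    refine Finset.sum_congr rfl fun i _ => ?_
    rfl
  let Fm : (R ⊗[k] A) →ₗ[R] (R ⊗[k] A) := LinearMap.mulLeft R f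
  have h5 : ∀ y : I ⊗[R] (R ⊗[k] A), m (LinearMap.lTensor I Fm y) = f * m y := by
    intro y
    induction y using TensorProduct.induction_on with
    | zero => simp
    | tmul a t =>
      rw [LinearMap.lTensor_tmul]
      show (a : R) • (f * t) = f * ((a : R) • t)
      rw [mul_smul_comm]
    | add y z hy hz => rw [map_add, map_add, hy, hz, map_add, mul_add]
  have h6 : x' = LinearMap.lTensor I Fm s' := hm (by rw [h5, hs', ← hs, mul_comm])
  rw [h6, ← LinearMap.comp_apply, ← LinearMap.lTensor_comp]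
  have h7 : π ∘ₗ Fm = 0 := by
    apply LinearMap.ext
    intro y
    show π (f * y) = 0
    exact Ideal.Quotient.eq_zero_iff_mem.mpr
      (Ideal.mul_mem_right _ _ (Ideal.mem_span_singleton_self f))
  rw [h7, LinearMap.lTensor_zero, LinearMap.zero_apply]

end claims

end Groth.Agent.Lib.Helper96.UnitContent
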