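import Mathlib
import Groth.Agent.Lib.Helper12.NagataFP
import Groth.Agent.Lib.Helper13.GenFibre

/-! Reducedness for flat finite type algebras over valuation rings with reduced fibre (helper96). -/

set_option autoImplicit false
set_option linter.style.haveILetI false

open TensorProduct

namespace Groth.Agent.Lib.Helper96.ValRed

universe u

section Alg

variable {A B : Type u} [CommRing A] [IsDomain A] [ValuationRing A] [CommRing B] [Algebra A B]

/-- In a torsion-free algebra over a domain, `r b` nilpotent with `r ≠ 0` implies `b` nilpotent. -/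
theorem isNilpotent_of_smul [Module.Flat A B] {r : A} (hr : r ≠ 0) {b : B}
    (h : IsNilpotent (algebraMap A B r * b)) : IsNilpotent b := by
  obtain ⟨n, hn⟩ := h
  refine ⟨n, ?_⟩
  rw [mul_pow, ← map_pow, ← Algebra.smul_def] at hn
  have htf : Submodule.torsion A B = ⊥ := Module.Flat.torsion_eq_bot
  by_contra hb
  have hmem : b ^ n ∈ Submodule.torsion A B := by
    rw [Submodule.mem_torsion_iff]
    exact ⟨⟨r ^ n, mem_nonZeroDivisors_of_ne_zero (pow_ne_zero n hr)⟩, hn⟩
  rw [htf, Submodule.mem_bot] at hmem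
  exact hb hmem

/-- Elements of `𝔭B` are of the form `r b` with `r ∈ 𝔭` (valuation ring). -/
theorem exists_eq_mul_of_mem_map (p : Ideal A) {x : B} (hx : x ∈ p.map (algebraMap A B)) :
    ∃ r ∈ p, ∃ b : B, x = algebraMap A B r * b := by
  refine Submodule.span_induction (p := fun x _ => ∃ r ∈ p, ∃ b : B, x = algebraMap A B r * b)
    ?_ ?_ ?_ ?_ hx
  · rintro _ ⟨r, hr, rfl⟩
    exact ⟨r, hr, 1, (mul_one _).symm⟩
  · exact ⟨0, p.zero_mem, 0, by simp⟩
  · rintro x y _ _ ⟨r, hr, b, rfl⟩ ⟨r', hr', b', rfl⟩
    rcases ValuationRing.dvd_total r r' with ⟨c, rfl⟩ | ⟨c, rfl⟩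
    · exact ⟨r, hr, b + algebraMap A B c * b', by rw [map_mul]; ring⟩
    · exact ⟨r', hr', algebraMap A B c * b + b', by rw [map_mul]; ring⟩
  · rintro c x _ ⟨r, hr, b, rfl⟩
    exact ⟨r, hr, c * b, by rw [smul_eq_mul]; ring⟩

variable [Algebra.FiniteType A B] [Module.Flat A B]

variable (A) in
include A in
/-- The nilradical of a flat finite type algebra over a valuation ring is finitely generated. -/
theorem nilradical_fg : (nilradical B).FG := by
  let N : Ideal B := nilradical B
  have htors : Submodule.torsion A (B ⧸ N) = ⊥ := by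
    rw [eq_bot_iff]
    intro x hx
    rw [Submodule.mem_torsion_iff] at hx
    obtain ⟨⟨r, hr⟩, hrx⟩ := hx
    obtain ⟨b, rfl⟩ := Ideal.Quotient.mk_surjective x
    have hr0 : r ≠ 0 := nonZeroDivisors.ne_zero hr
    have h1 : algebraMap A B r * b ∈ N := by
      rw [← Ideal.Quotient.eq_zero_iff_mem, ← Algebra.smul_def, ← hrx]
      rfl
    have h2 : IsNilpotent b := isNilpotent_of_smul hr0 (mem_nilradical.mp h1)
    rw [Submodule.mem_bot, Ideal.Quotient.eq_zero_iff_mem]
    exact mem_nilradical.mpr h2
  haveI : Module.Flat A (B ⧸ N) := Module.Flat.flat_iff_torsion_eq_bot_of_isBezout.mpr htors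
  haveI : Module.FinitePresentation B (B ⧸ N) :=
    Groth.Agent.Lib.Helper12.NagataFP.finitePresentation_of_finiteType (R := A) B (B ⧸ N)
  have hker := Module.FinitePresentation.fg_ker (Submodule.mkQ N) (Submodule.mkQ_surjective N)
  rwa [Submodule.ker_mkQ] at hker

/-- Key local statement: nilpotents die locally at primes over `𝔭` when the fibre over `𝔭` is
reduced. -/
theorem exists_notMem_mul_eq_zero (p : Ideal A) [p.IsPrime] (hred : IsReduced (p.Fiber B))
    (q : Ideal B) [q.IsPrime] (hq : q.comap (algebraMap A B) = p) (a : B) (ha : IsNilpotent a) :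
    ∃ s, s ∉ q ∧ s * a = 0 := by
  let N : Ideal B := nilradical B
  let S := Localization.AtPrime q
  let NS : Ideal S := N.map (algebraMap B S)
  have hNSfg : NS.FG := Ideal.FG.map (nilradical_fg A) _
  have hle : NS ≤ IsLocalRing.maximalIdeal S • NS := by
    rw [Ideal.map_le_iff_le_comap]
    intro a ha
    rw [Ideal.mem_comap]
    have ha' : IsNilpotent a := mem_nilradical.mp ha
    have h1 : ((1 : p.ResidueField) ⊗ₜ[A] a : p.Fiber B) = 0 := by
      have hnil : IsNilpotent ((1 : p.ResidueField) ⊗ₜ[A] a : p.Fiber B) := by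
        obtain ⟨n, hn⟩ := ha'
        refine ⟨n, ?_⟩
        rw [Algebra.TensorProduct.tmul_pow, hn, one_pow, TensorProduct.tmul_zero]
      exact hnil.eq_zero
    obtain ⟨t, htp, ht⟩ := (Groth.Agent.Lib.Helper13.GenFibre.one_tmul_eq_zero_iff p a).mp h1
    obtain ⟨r, hr, b, hb⟩ := exists_eq_mul_of_mem_map p ht
    have htq : algebraMap A B t ∉ q := by
      intro hmem
      apply htp
      rw [← hq]
      exact hmem
    have hrq : algebraMap A B r ∈ q := by
      have : r ∈ q.comap (algebraMap A B) := hq ▸ hr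
      exact this
    have hu : IsUnit (algebraMap B S (algebraMap A B t)) :=
      IsLocalization.map_units S (⟨algebraMap A B t, htq⟩ : q.primeCompl)
    by_cases hr0 : r = 0
    · have h2 : algebraMap B S (algebraMap A B t) * algebraMap B S a = 0 := by
        rw [← map_mul, hb, hr0, map_zero, zero_mul, map_zero]
      have h3 : algebraMap B S a = 0 := (hu.mul_right_eq_zero).mp h2
      rw [h3]
      exact Submodule.zero_mem _
    · have hbN : b ∈ N := by
        apply mem_nilradical.mpr
        apply isNilpotent_of_smul hr0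
        rw [← hb]
        exact mem_nilradical.mp (Ideal.mul_mem_left _ _ (mem_nilradical.mpr ha'))
      have h2 : algebraMap B S (algebraMap A B t) * algebraMap B S a =
          algebraMap B S (algebraMap A B r) * algebraMap B S b := by
        rw [← map_mul, ← map_mul, hb]
      have h3 : algebraMap B S a =
          (hu.unit⁻¹ : Sˣ) * (algebraMap B S (algebraMap A B r) * algebraMap B S b) := by
        rw [← h2, ← mul_assoc, IsUnit.val_inv_mul, one_mul]
      rw [h3]
      apply Ideal.mul_mem_left
      rw [smul_eq_mul]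
      refine Ideal.mul_mem_mul ?_ (Ideal.mem_map_of_mem _ hbN)
      rw [← Localization.AtPrime.map_eq_maximalIdeal]
      exact Ideal.mem_map_of_mem _ hrq
  have hbot : NS = ⊥ := Submodule.eq_bot_of_le_smul_of_le_jacobson_bot
    (IsLocalRing.maximalIdeal S) NS hNSfg hle
    (by rw [IsLocalRing.jacobson_eq_maximalIdeal ⊥ bot_ne_top])
  have ha0 : algebraMap B S a = 0 := by
    have : algebraMap B S a ∈ NS := Ideal.mem_map_of_mem _ (mem_nilradical.mpr ha)
    rwa [hbot, Ideal.mem_bot] at this
  obtain ⟨⟨s, hs⟩, hsa⟩ := (IsLocalization.map_eq_zero_iff q.primeCompl S a).mp ha0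
  exact ⟨s, hs, hsa⟩

end Alg

end Groth.Agent.Lib.Helper96.ValRed
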