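import Mathlib
import Groth.Agent.Lib.Helper96.ValRed
import Groth.Agent.Lib.Helper7.ReducedFibreScheme

/-! Reducedness of total space and fibres for flat universally closed finite type families over a
valuation ring with reduced closed fibre (helper96). -/

set_option autoImplicit false
set_option linter.style.haveILetI false

open CategoryTheory CategoryTheory.Limits AlgebraicGeometry TopologicalSpace

namespace Groth.Agent.Lib.Helper96.ValRedScheme

universe u

/-- A localization at a prime is reduced as soon as nilpotents of the base die locally there. -/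
theorem isReduced_of_atPrime {B S : Type*} [CommRing B] [CommRing S] [Algebra B S]
    (q : Ideal B) [q.IsPrime] [IsLocalization.AtPrime S q]
    (h : ∀ a : B, IsNilpotent a → ∃ s, s ∉ q ∧ s * a = 0) : _root_.IsReduced S := by
  constructor
  intro x hx
  obtain ⟨b, t, rfl⟩ := IsLocalization.exists_mk'_eq q.primeCompl x
  obtain ⟨n, hn⟩ := hx
  have h1 : algebraMap B S (b ^ n) = 0 := by
    have hb : algebraMap B S b = IsLocalization.mk' S b t * algebraMap B S t := by
      rw [IsLocalization.mk'_spec]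
    rw [map_pow, hb, mul_pow, hn, zero_mul]
  rw [IsLocalization.map_eq_zero_iff q.primeCompl S] at h1
  obtain ⟨m, hm⟩ := h1
  have h2 : IsNilpotent ((m : B) * b) := ⟨n + 1, by
    have : ((m : B) * b) ^ (n + 1) = (m : B) ^ n * b * ((m : B) * b ^ n) := by ring
    rw [this, hm, mul_zero]⟩
  obtain ⟨s, hs, hs0⟩ := h _ h2
  rw [IsLocalization.mk'_eq_zero_iff]
  refine ⟨⟨s * m, q.primeCompl.mul_mem hs m.2⟩, ?_⟩
  show s * (m : B) * b = 0
  rw [mul_assoc]
  exact hs0

theorem isReduced_iff_of_isIso {X Y : Scheme.{u}} (φ : X ⟶ Y) [IsIso φ] :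
    AlgebraicGeometry.IsReduced X ↔ AlgebraicGeometry.IsReduced Y :=
  ⟨fun _ => isReduced_of_isOpenImmersion (inv φ), fun _ => isReduced_of_isOpenImmersion φ⟩

/-- Morphisms surjective on stalks induce isomorphisms of residue fields. -/
theorem isIso_residueFieldMap {X Y : Scheme.{u}} (g : X ⟶ Y) [SurjectiveOnStalks g] (x : X) :
    IsIso (g.residueFieldMap x) := by
  rw [ConcreteCategory.isIso_iff_bijective]
  constructor
  · exact (g.residueFieldMap x).hom.injective
  · intro z
    obtain ⟨s, rfl⟩ := X.residue_surjective x z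
    obtain ⟨t, rfl⟩ := g.stalkMap_surjective x s
    refine ⟨Y.residue (g x) t, ?_⟩
    have h := ConcreteCategory.congr_hom (Scheme.residue_residueFieldMap g x) t
    exact h

/-- Fibres of a base change along a morphism surjective on stalks. -/
theorem isReduced_fiber_pullback_iff {X Y Y' : Scheme.{u}} (f : X ⟶ Y) (g : Y' ⟶ Y)
    [SurjectiveOnStalks g] (y : Y') :
    AlgebraicGeometry.IsReduced ((pullback.snd f g).fiber y) ↔
      AlgebraicGeometry.IsReduced (f.fiber (g y)) := by
  have hpb := isPullback_fiberToSpecResidueField_of_isPullback (IsPullback.of_hasPullback f g) y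
  haveI : IsIso (g.residueFieldMap y) := isIso_residueFieldMap g y
  haveI : IsIso (Spec.map (g.residueFieldMap y)) := inferInstance
  have hiso := hpb.isIso_fst_of_isIso
  exact @isReduced_iff_of_isIso _ _ _ hiso

/-- (A): total space reduced. -/
theorem isReduced_of_closedFibre {R : Type u} [CommRing R] [IsDomain R] [ValuationRing R]
    {X : Scheme.{u}} (f : X ⟶ Spec (CommRingCat.of R)) [UniversallyClosed f]
    [LocallyOfFiniteType f] [Flat f]
    (hred : AlgebraicGeometry.IsReduced (f.fiber (IsLocalRing.closedPoint R))) :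
    AlgebraicGeometry.IsReduced X := by
  let Y : Scheme.{u} := Spec (CommRingCat.of R)
  let W : Y.Opens := ⊤
  have hW : IsAffineOpen W := isAffineOpen_top Y
  let eR : Γ(Y, W) ≃+* R := (Scheme.ΓSpecIso (CommRingCat.of R)).commRingCatIsoToRingEquiv
  haveI : IsDomain Γ(Y, W) := MulEquiv.isDomain R eR.toMulEquiv
  haveI : ValuationRing Γ(Y, W) :=
    Function.Surjective.valuationRing (eR.symm : R →+* Γ(Y, W)) eR.symm.surjective
  let c : Y := IsLocalRing.closedPoint R
  let z : Spec Γ(Y, W) := hW.primeIdealOf ⟨c, trivial⟩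
  have hz : hW.fromSpec z = c := hW.fromSpec_primeIdealOf ⟨c, trivial⟩
  have hredz : AlgebraicGeometry.IsReduced (f.fiber (hW.fromSpec z)) := by
    have : ∀ s' : Y, s' = c → AlgebraicGeometry.IsReduced (f.fiber s') := by
      rintro _ rfl
      exact hred
    exact this _ hz
  haveI : ∀ x : X, _root_.IsReduced (X.presheaf.stalk x) := by
    intro x
    have hcl : IsClosed (f '' closure {x}) := f.isClosedMap _ isClosed_closure
    have hmem : c ∈ f '' closure {x} :=
      (IsLocalRing.specializes_closedPoint (f x)).mem_closed hcl ⟨x, subset_closure rfl, rfl⟩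
    obtain ⟨x₀, hx₀, hfx₀⟩ := hmem
    have hspec : x ⤳ x₀ := specializes_iff_mem_closure.mpr hx₀
    obtain ⟨U, hU, hx₀U, -⟩ := exists_isAffineOpen_mem_and_subset (x := x₀) (U := ⊤) trivial
    have hxU : x ∈ U := hspec.mem_open U.2 hx₀U
    have e : U ≤ f ⁻¹ᵁ W := fun _ _ => trivial
    letI : Algebra Γ(Y, W) Γ(X, U) := (f.appLE W U e).hom.toAlgebra
    haveI : Algebra.FiniteType Γ(Y, W) Γ(X, U) :=
      HasRingHomProperty.appLE @LocallyOfFiniteType f inferInstance ⟨W, hW⟩ ⟨U, hU⟩ e
    haveI : Module.Flat Γ(Y, W) Γ(X, U) :=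
      HasRingHomProperty.appLE @Flat f inferInstance ⟨W, hW⟩ ⟨U, hU⟩ e
    have hfib : _root_.IsReduced (z.asIdeal.Fiber Γ(X, U)) := by
      rw [← Groth.Agent.Lib.Helper13.GenFibre.isReduced_chart_iff f hW hU e z]
      exact @isReduced_of_isOpenImmersion _ _
        (Groth.Agent.Lib.Helper13.GenFibre.fiberChart f hW hU e z) _ hredz
    let pt₀ : Spec Γ(X, U) := hU.primeIdealOf ⟨x₀, hx₀U⟩
    let pt : Spec Γ(X, U) := hU.primeIdealOf ⟨x, hxU⟩
    have hpt₀ : hU.fromSpec pt₀ = x₀ := hU.fromSpec_primeIdealOf ⟨x₀, hx₀U⟩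
    have hpt : hU.fromSpec pt = x := hU.fromSpec_primeIdealOf ⟨x, hxU⟩
    have hle : pt.asIdeal ≤ pt₀.asIdeal := by
      have h1 : pt ⤳ pt₀ := by
        rw [← hU.fromSpec.isOpenEmbedding.isInducing.specializes_iff, hpt, hpt₀]
        exact hspec
      exact (PrimeSpectrum.le_iff_specializes pt pt₀).mpr h1
    have hcomap : pt₀.asIdeal.comap (algebraMap Γ(Y, W) Γ(X, U)) = z.asIdeal := by
      have h1 : Spec.map (f.appLE W U e) pt₀ = z := by
        apply hW.fromSpec.isOpenEmbedding.injective
        have h2 := IsAffineOpen.SpecMap_appLE_fromSpec f hW hU e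
        have h3 : hW.fromSpec (Spec.map (f.appLE W U e) pt₀) = f (hU.fromSpec pt₀) := by
          rw [← Scheme.Hom.comp_apply, h2, Scheme.Hom.comp_apply]
        rw [h3, hpt₀, hfx₀, hz]
      rw [← h1]
      rfl
    letI : Algebra Γ(X, U) (X.presheaf.stalk x) :=
      TopCat.Presheaf.algebra_section_stalk X.presheaf ⟨x, hxU⟩
    haveI : IsLocalization.AtPrime (X.presheaf.stalk x) pt.asIdeal :=
      hU.isLocalization_stalk ⟨x, hxU⟩
    refine isReduced_of_atPrime (B := Γ(X, U)) pt.asIdeal ?_
    intro a ha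
    obtain ⟨s, hs, hsa⟩ := Groth.Agent.Lib.Helper96.ValRed.exists_notMem_mul_eq_zero
      (A := Γ(Y, W)) (B := Γ(X, U)) z.asIdeal hfib pt₀.asIdeal hcomap a ha
    exact ⟨s, fun h => hs (hle h), hsa⟩
  exact isReduced_of_isReduced_stalk X

/-- (B): all fibres reduced. -/
theorem isReduced_fiber_of_closedFibre {R : Type u} [CommRing R] [IsDomain R] [ValuationRing R]
    {X : Scheme.{u}} (f : X ⟶ Spec (CommRingCat.of R)) [UniversallyClosed f]
    [LocallyOfFiniteType f] [Flat f]
    (hred : AlgebraicGeometry.IsReduced (f.fiber (IsLocalRing.closedPoint R)))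
    (s : Spec (CommRingCat.of R)) : AlgebraicGeometry.IsReduced (f.fiber s) := by
  let p : Ideal R := s.asIdeal
  haveI : p.IsPrime := s.isPrime
  haveI : IsDomain (R ⧸ p) := Ideal.Quotient.isDomain p
  haveI : ValuationRing (R ⧸ p) :=
    Function.Surjective.valuationRing (Ideal.Quotient.mk p) Ideal.Quotient.mk_surjective
  let g : Spec (CommRingCat.of (R ⧸ p)) ⟶ Spec (CommRingCat.of R) :=
    Spec.map (CommRingCat.ofHom (Ideal.Quotient.mk p))
  haveI : IsClosedImmersion g :=
    IsClosedImmersion.spec_of_surjective _ Ideal.Quotient.mk_surjective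
  let η' : Spec (CommRingCat.of (R ⧸ p)) := ⟨⊥, Ideal.isPrime_bot⟩
  have hc : g (IsLocalRing.closedPoint (R ⧸ p)) = IsLocalRing.closedPoint R := by
    apply PrimeSpectrum.ext
    show Ideal.comap (Ideal.Quotient.mk p) (IsLocalRing.maximalIdeal (R ⧸ p)) =
      IsLocalRing.maximalIdeal R
    exact IsLocalRing.eq_maximalIdeal
      (Ideal.comap_isMaximal_of_surjective _ Ideal.Quotient.mk_surjective)
  have hη : g η' = s := by
    apply PrimeSpectrum.ext
    show Ideal.comap (Ideal.Quotient.mk p) ⊥ = s.asIdeal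
    rw [← RingHom.ker_eq_comap_bot, Ideal.mk_ker]
  have hred' : AlgebraicGeometry.IsReduced
      ((pullback.snd f g).fiber (IsLocalRing.closedPoint (R ⧸ p))) := by
    refine (isReduced_fiber_pullback_iff f g _).mpr ?_
    have : ∀ s' : Spec (CommRingCat.of R), s' = IsLocalRing.closedPoint R →
        AlgebraicGeometry.IsReduced (f.fiber s') := by
      rintro _ rfl
      exact hred
    exact this _ hc
  haveI : AlgebraicGeometry.IsReduced (pullback f g) :=
    isReduced_of_closedFibre (pullback.snd f g) hred'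
  have h1 : AlgebraicGeometry.IsReduced ((pullback.snd f g).fiber η') := by
    apply Groth.Agent.Lib.Helper7.isReduced_fiber_of_forall_specializes
    intro x hx
    have hle : (x : PrimeSpectrum (R ⧸ p)).asIdeal ≤ (⊥ : Ideal (R ⧸ p)) :=
      (PrimeSpectrum.le_iff_specializes (R := R ⧸ p) x η').mpr hx
    apply PrimeSpectrum.ext
    exact le_bot_iff.mp hle
  replace h1 := (isReduced_fiber_pullback_iff f g _).mp h1
  have : ∀ s' : Spec (CommRingCat.of R), g η' = s' →
      AlgebraicGeometry.IsReduced (f.fiber s') := by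
    rintro _ rfl
    exact h1
  exact this _ hη

end Groth.Agent.Lib.Helper96.ValRedScheme
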