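import Mathlib
import Groth.Prelude.Def_HopfRep
import Groth.Prelude.Def_GLin

/-!
# Weight decomposition of comodules over a group algebra `k[M]` (helper96)

For a comodule `V` over the group algebra `k[M]` (`M` any commutative group, not necessarily
finite): the weight components `comp m f`, which are eigenvectors (`coact_comp`), vanish for all but
finitely many `m` and sum to `f` (`exists_finset_sum_comp`).  For multiplicative coactions:
`comp_mul_eigen`.
-/

set_option autoImplicit false
set_option linter.unusedSectionVars false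

namespace Groth.Agent.Lib.Helper96
namespace WeightDecomp

universe u v w

open TensorProduct

section Aux

variable {k : Type u} [CommRing k] {M : Type v} [AddCommGroup M]

/-- coefficient functional -/
noncomputable def ev (m : M) : AddMonoidAlgebra k M →ₗ[k] k :=
  (Finsupp.lapply m) ∘ₗ (AddMonoidAlgebra.coeffLinearEquiv k).toLinearMap

theorem ev_apply (m : M) (x : AddMonoidAlgebra k M) : ev m x = x.coeff m := rfl

variable (V : Type w) [AddCommGroup V] [Module k V]

/-- the `m`-component of an element of `V ⊗ k[M]` -/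
noncomputable def proj (m : M) : V ⊗[k] AddMonoidAlgebra k M →ₗ[k] V :=
  (TensorProduct.rid k V).toLinearMap ∘ₗ (LinearMap.lTensor V (ev m))

theorem proj_tmul (m : M) (v : V) (x : AddMonoidAlgebra k M) :
    proj V m (v ⊗ₜ[k] x) = x.coeff m • v := by
  simp [proj, ev_apply]

theorem sum_single_coeff (x : AddMonoidAlgebra k M) (S : Finset M) (hS : x.coeff.support ⊆ S) :
    ∑ m ∈ S, AddMonoidAlgebra.single m (x.coeff m) = x := by
  conv_rhs => rw [← AddMonoidAlgebra.sum_coeff_single x]
  rw [Finsupp.sum]
  symm
  apply Finset.sum_subset hS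
  intro m _ hm
  rw [Finsupp.notMem_support_iff.mp hm]
  exact AddMonoidAlgebra.single_zero m

/-- finite decomposition of a tensor -/
theorem decomp (t : V ⊗[k] AddMonoidAlgebra k M) :
    ∃ S : Finset M, ∀ S' : Finset M, S ⊆ S' →
      t = ∑ m ∈ S', proj V m t ⊗ₜ[k] (AddMonoidAlgebra.single m (1 : k)) := by
  classical
  induction t using TensorProduct.induction_on with
  | zero => exact ⟨∅, fun S' _ => by simp⟩
  | tmul v x =>
    refine ⟨x.coeff.support, fun S' hS' => ?_⟩
    simp only [proj_tmul]
    conv_lhs => rw [← sum_single_coeff x S' hS', TensorProduct.tmul_sum]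
    refine Finset.sum_congr rfl fun m _ => ?_
    rw [TensorProduct.smul_tmul, AddMonoidAlgebra.smul_single, smul_eq_mul, mul_one]
  | add a b ha hb =>
    obtain ⟨Sa, hSa⟩ := ha
    obtain ⟨Sb, hSb⟩ := hb
    refine ⟨Sa ∪ Sb, fun S' hS' => ?_⟩
    conv_lhs => rw [hSa S' (Finset.union_subset_left hS'), hSb S' (Finset.union_subset_right hS')]
    rw [← Finset.sum_add_distrib]
    refine Finset.sum_congr rfl fun m _ => ?_
    rw [map_add, TensorProduct.add_tmul]

end Aux

section Comod

variable {k : Type u} [CommRing k] {M : Type v} [AddCommGroup M]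
  {R : Type w} [AddCommGroup R] [Module k R] [HopfRep.Comod k (AddMonoidAlgebra k M) R]

/-- `id ⊗ (id ⊗ ev m)` followed by `A ⊗ k ≅ A`. -/
noncomputable def Phi (m : M) :
    R ⊗[k] (AddMonoidAlgebra k M ⊗[k] AddMonoidAlgebra k M) →ₗ[k] R ⊗[k] AddMonoidAlgebra k M :=
  LinearMap.lTensor R ((TensorProduct.rid k (AddMonoidAlgebra k M)).toLinearMap ∘ₗ
    (LinearMap.lTensor (AddMonoidAlgebra k M) (ev m)))

theorem Phi_assoc_tmul (m : M) (u : R ⊗[k] AddMonoidAlgebra k M) (x : AddMonoidAlgebra k M) :
    Phi m (TensorProduct.assoc k R (AddMonoidAlgebra k M) (AddMonoidAlgebra k M) (u ⊗ₜ[k] x)) =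
      x.coeff m • u := by
  induction u using TensorProduct.induction_on with
  | zero => simp
  | tmul r y => simp [Phi, ev_apply, TensorProduct.tmul_smul]
  | add a b ha hb => rw [TensorProduct.add_tmul, map_add, map_add, ha, hb, smul_add]

theorem rid_lTensor_ev_comul (m : M) (x : AddMonoidAlgebra k M) :
    (TensorProduct.rid k (AddMonoidAlgebra k M))
      (LinearMap.lTensor (AddMonoidAlgebra k M) (ev m) (Coalgebra.comul (R := k) x)) =
      x.coeff m • AddMonoidAlgebra.single m (1 : k) := by
  classical
  induction x using AddMonoidAlgebra.induction_linear with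
  | zero => simp
  | add a b ha hb =>
    simp only [map_add, ha, hb, AddMonoidAlgebra.coeff_add, Finsupp.add_apply, add_smul]
  | single n a =>
    rw [AddMonoidAlgebra.comul_single, CommSemiring.comul_apply, TensorProduct.map_tmul,
      LinearMap.lTensor_tmul, TensorProduct.rid_tmul, AddMonoidAlgebra.lsingle_apply,
      AddMonoidAlgebra.lsingle_apply, ev_apply, AddMonoidAlgebra.coeff_single]
    by_cases hnm : n = m
    · subst hnm
      rfl
    · rw [Finsupp.single_eq_of_ne (Ne.symm hnm), zero_smul, zero_smul]

theorem Phi_lTensor_comul (m : M) (t : R ⊗[k] AddMonoidAlgebra k M) :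
    Phi m (LinearMap.lTensor R (Coalgebra.comul (R := k) (A := AddMonoidAlgebra k M)) t) =
      proj R m t ⊗ₜ[k] AddMonoidAlgebra.single m (1 : k) := by
  induction t using TensorProduct.induction_on with
  | zero => simp
  | tmul r x =>
    rw [LinearMap.lTensor_tmul, Phi, LinearMap.lTensor_tmul, LinearMap.comp_apply,
      LinearEquiv.coe_coe, rid_lTensor_ev_comul, proj_tmul, TensorProduct.tmul_smul,
      TensorProduct.smul_tmul']
  | add a b ha hb => rw [map_add, map_add, ha, hb, map_add, TensorProduct.add_tmul]

variable (k) in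
/-- the weight `m` component of `f` -/
noncomputable def comp (m : M) (f : R) : R :=
  proj R m (HopfRep.Comod.coact (k := k) (A := AddMonoidAlgebra k M) f)

/-- the components are eigenvectors -/
theorem coact_comp (m : M) (f : R) :
    HopfRep.Comod.coact (k := k) (A := AddMonoidAlgebra k M) (comp k m f) =
      comp k m f ⊗ₜ[k] AddMonoidAlgebra.single m (1 : k) := by
  unfold comp
  set ρ : R →ₗ[k] R ⊗[k] AddMonoidAlgebra k M :=
    HopfRep.Comod.coact (k := k) (A := AddMonoidAlgebra k M) with hρ
  have hco := HopfRep.Comod.coassoc (k := k) (A := AddMonoidAlgebra k M) (V := R)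
  have h1 := congrArg (fun g => Phi m (g f)) hco
  simp only [LinearMap.comp_apply, LinearEquiv.coe_coe] at h1
  rw [← hρ] at h1
  rw [Phi_lTensor_comul] at h1
  rw [← h1]
  have key : ∀ t : R ⊗[k] AddMonoidAlgebra k M,
      ρ (proj R m t) = Phi m (TensorProduct.assoc k R (AddMonoidAlgebra k M) (AddMonoidAlgebra k M)
        (LinearMap.rTensor (AddMonoidAlgebra k M) ρ t)) := by
    intro t
    induction t using TensorProduct.induction_on with
    | zero => simp
    | tmul r x => rw [LinearMap.rTensor_tmul, Phi_assoc_tmul, proj_tmul, map_smul]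
    | add a b ha hb => simp only [map_add, ha, hb]
  exact key (ρ f)

theorem comp_mem_eigenspace (m : M) (f : R) :
    comp k m f ∈ HopfRep.eigenspace k (AddMonoidAlgebra k M) R (AddMonoidAlgebra.single m 1) :=
  coact_comp m f

/-- an element is the finite sum of its components -/
theorem exists_finset_sum_comp (f : R) :
    ∃ S : Finset M, ∀ S' : Finset M, S ⊆ S' → ∑ m ∈ S', comp k m f = f := by
  set ρ : R →ₗ[k] R ⊗[k] AddMonoidAlgebra k M :=
    HopfRep.Comod.coact (k := k) (A := AddMonoidAlgebra k M) with hρ
  obtain ⟨S, hS⟩ := decomp R (ρ f)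
  refine ⟨S, fun S' hS' => ?_⟩
  have hcu := HopfRep.Comod.counit_comp (k := k) (A := AddMonoidAlgebra k M) (V := R)
  have h1 := congrArg (fun g => TensorProduct.rid k R (g f)) hcu
  simp only [LinearMap.comp_apply, LinearMap.flip_apply, TensorProduct.mk_apply,
    TensorProduct.rid_tmul, one_smul] at h1
  rw [← hρ] at h1
  conv_rhs => rw [← h1]
  conv_rhs => rw [hS S' hS']
  rw [map_sum, map_sum]
  refine Finset.sum_congr rfl fun m _ => ?_
  rw [LinearMap.lTensor_tmul, TensorProduct.rid_tmul, AddMonoidAlgebra.counit_single,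
    CommSemiring.counit_apply, one_smul]
  rfl

/-- components of an eigenvector -/
theorem comp_of_mem_eigenspace [DecidableEq M] {w : M} {f : R}
    (hf : f ∈ HopfRep.eigenspace k (AddMonoidAlgebra k M) R (AddMonoidAlgebra.single w 1)) (m : M) :
    comp k m f = if m = w then f else 0 := by
  have hf' : HopfRep.Comod.coact (k := k) (A := AddMonoidAlgebra k M) f =
      f ⊗ₜ[k] AddMonoidAlgebra.single w 1 := hf
  unfold comp
  rw [hf', proj_tmul, AddMonoidAlgebra.coeff_single]
  by_cases h : m = w
  · subst h
    rw [if_pos rfl, Finsupp.single_eq_same, one_smul]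
  · rw [if_neg h, Finsupp.single_eq_of_ne h, zero_smul]

end Comod

section Mul

variable {k : Type u} [CommRing k] {M : Type v} [AddCommGroup M]
  {R : Type w} [CommRing R] [Algebra k R] [HopfRep.Comod k (AddMonoidAlgebra k M) R]
  [GLin.IsCoactAlg k (AddMonoidAlgebra k M) R]

theorem proj_mul_tmul_single (m w : M) (t : R ⊗[k] AddMonoidAlgebra k M) (g : R) :
    proj R m (t * (g ⊗ₜ[k] AddMonoidAlgebra.single w (1 : k))) = proj R (m + -w) t * g := by
  induction t using TensorProduct.induction_on with
  | zero => simp
  | tmul r x =>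
    rw [Algebra.TensorProduct.tmul_mul_tmul, proj_tmul, proj_tmul,
      AddMonoidAlgebra.coeff_mul_single_apply, mul_one, smul_mul_assoc]
  | add a b ha hb => rw [add_mul, map_add, map_add, ha, hb, add_mul]

/-- the component of weight `m` of `r * g` for an eigenvector `g` of weight `w` -/
theorem comp_mul_eigen {w : M} {g : R}
    (hg : g ∈ HopfRep.eigenspace k (AddMonoidAlgebra k M) R (AddMonoidAlgebra.single w 1)) (m : M)
    (r : R) : comp k m (r * g) = comp k (m + -w) r * g := by
  have hg' : HopfRep.Comod.coact (k := k) (A := AddMonoidAlgebra k M) g =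
      g ⊗ₜ[k] AddMonoidAlgebra.single w 1 := hg
  unfold comp
  rw [GLin.IsCoactAlg.coact_mul (k := k), hg', proj_mul_tmul_single]

end Mul

end WeightDecomp
end Groth.Agent.Lib.Helper96
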