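import Mathlib

/-!
# Multiplication of a Witt vector by a Teichmüller representative (helper96)

`(x * teichmuller p c).coeff n = x.coeff n * c ^ p ^ n` over any commutative ring.
-/

set_option autoImplicit false

namespace Groth.Agent.Lib.Helper96
namespace WittTeich

open MvPolynomial WittVector

variable (p : ℕ) {R S : Type*} [hp : Fact p.Prime] [CommRing R] [CommRing S]

/-- The Witt vector with coefficients `x_n * c ^ p ^ n`. -/
def scaleFun (x : WittVector p R) (c : R) : WittVector p R :=
  WittVector.mk p fun n => x.coeff n * c ^ p ^ n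

omit hp in
theorem scaleFun_coeff (x : WittVector p R) (c : R) (n : ℕ) :
    (scaleFun p x c).coeff n = x.coeff n * c ^ p ^ n := rfl

theorem ghostComponent_scaleFun (x : WittVector p R) (c : R) (n : ℕ) :
    ghostComponent n (scaleFun p x c) = ghostComponent n x * c ^ p ^ n := by
  rw [ghostComponent_apply, ghostComponent_apply, aeval_wittPolynomial, aeval_wittPolynomial,
    Finset.sum_mul]
  refine Finset.sum_congr rfl fun i hi => ?_
  have hi' : i ≤ n := Nat.lt_succ_iff.mp (Finset.mem_range.mp hi)
  rw [scaleFun_coeff, mul_pow, ← pow_mul, ← pow_add, Nat.add_sub_cancel' hi']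
  ring

theorem map_scaleFun (f : R →+* S) (x : WittVector p R) (c : R) :
    WittVector.map f (scaleFun p x c) = scaleFun p (WittVector.map f x) (f c) := by
  ext n
  rw [map_coeff, scaleFun_coeff, scaleFun_coeff, map_coeff, map_mul, map_pow]

private theorem scaleFun_aux₁ {σ : Type*} (x : WittVector p (MvPolynomial σ ℚ))
    (c : MvPolynomial σ ℚ) : scaleFun p x c = x * teichmuller p c := by
  apply (ghostMap.bijective_of_invertible p (MvPolynomial σ ℚ)).1
  rw [map_mul]
  ext1 n
  simp only [Pi.mul_apply, ghostMap_apply, ghostComponent_scaleFun, ghostComponent_teichmuller]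

private theorem scaleFun_aux₂ {σ : Type*} (x : WittVector p (MvPolynomial σ ℤ))
    (c : MvPolynomial σ ℤ) : scaleFun p x c = x * teichmuller p c := by
  refine WittVector.map_injective (MvPolynomial.map (Int.castRingHom ℚ))
    (MvPolynomial.map_injective _ Int.cast_injective) ?_
  rw [map_scaleFun, scaleFun_aux₁, map_mul, map_teichmuller]

theorem scaleFun_eq (x : WittVector p R) (c : R) : scaleFun p x c = x * teichmuller p c := by
  obtain ⟨x, rfl⟩ := WittVector.map_surjective (counit R) (counit_surjective R) x
  obtain ⟨c, rfl⟩ := counit_surjective R c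
  rw [← map_scaleFun, scaleFun_aux₂, map_mul, map_teichmuller]

/-- The coefficients of `x * [c]`. -/
theorem mul_teichmuller_coeff (x : WittVector p R) (c : R) (n : ℕ) :
    (x * teichmuller p c).coeff n = x.coeff n * c ^ p ^ n := by
  rw [← scaleFun_eq, scaleFun_coeff]

/-- The coefficients of `[c] * x`. -/
theorem teichmuller_mul_coeff (x : WittVector p R) (c : R) (n : ℕ) :
    (teichmuller p c * x).coeff n = c ^ p ^ n * x.coeff n := by
  rw [mul_comm, mul_teichmuller_coeff, mul_comm]

end WittTeich
end Groth.Agent.Lib.Helper96
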