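import Groth.Agent.Lib.Helper96.UFDAwayRem
import Groth.Agent.Lib.Helper96.WittTeich
import Groth.Prelude.Def_W4c6katofiltaWFil

/-!
# The filtration `WittFil.fil` on truncated Witt vectors (helper96)

For `B = A[1/∏ x i]` over a UFD `A` of characteristic `p`, membership of a truncated Witt vector
`a` in `WittFil.fil p m c` is equivalent to the Witt vector `[c] * F^(m-1)(ã)` (for any lift `ã` of
`a`) having its first `m` coefficients in `A` (`mem_fil_iff`).  Vectors with first `m` coefficients
in `A` are closed under subtraction and multiplication (`Tm_sub`, `Tm_mul`).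
-/

set_option autoImplicit false

namespace Groth.Agent.Lib.Helper96
namespace WittFilLib

universe u

open WittVector

section Tm

variable (p : ℕ) [hp : Fact p.Prime] {A B : Type u} [CommRing A] [CommRing B] [Algebra A B]

/-- Witt vectors over `B` whose first `m` coefficients come from `A`. -/
def Tm (m : ℕ) : Set (WittVector p B) :=
  {y | ∀ j, j < m → y.coeff j ∈ (algebraMap A B).range}

theorem mem_Tm_iff (m : ℕ) (y : WittVector p B) :
    y ∈ Tm p (A := A) m ↔
      ∃ α : WittVector p A, WittVector.truncate m (WittVector.map (algebraMap A B) α) =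
        WittVector.truncate m y := by
  constructor
  · intro hy
    classical
    choose f hf using hy
    refine ⟨WittVector.mk p (fun j => if h : j < m then f j h else 0), ?_⟩
    apply TruncatedWittVector.ext
    intro i
    rw [WittVector.coeff_truncate, WittVector.coeff_truncate, WittVector.map_coeff,
      WittVector.coeff_mk, dif_pos i.2, hf]
  · rintro ⟨α, hα⟩ j hj
    have := congrArg (TruncatedWittVector.coeff ⟨j, hj⟩) hα
    rw [WittVector.coeff_truncate, WittVector.coeff_truncate, WittVector.map_coeff] at this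
    exact ⟨_, this⟩

theorem Tm_sub (m : ℕ) {y y' : WittVector p B} (hy : y ∈ Tm p (A := A) m)
    (hy' : y' ∈ Tm p (A := A) m) : y - y' ∈ Tm p (A := A) m := by
  rw [mem_Tm_iff] at hy hy' ⊢
  obtain ⟨α, hα⟩ := hy
  obtain ⟨β, hβ⟩ := hy'
  exact ⟨α - β, by rw [map_sub, map_sub, map_sub, hα, hβ]⟩

theorem Tm_add (m : ℕ) {y y' : WittVector p B} (hy : y ∈ Tm p (A := A) m)
    (hy' : y' ∈ Tm p (A := A) m) : y + y' ∈ Tm p (A := A) m := by
  rw [mem_Tm_iff] at hy hy' ⊢
  obtain ⟨α, hα⟩ := hy
  obtain ⟨β, hβ⟩ := hy'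
  exact ⟨α + β, by rw [map_add, map_add, map_add, hα, hβ]⟩

theorem Tm_mul (m : ℕ) {y y' : WittVector p B} (hy : y ∈ Tm p (A := A) m)
    (hy' : y' ∈ Tm p (A := A) m) : y * y' ∈ Tm p (A := A) m := by
  rw [mem_Tm_iff] at hy hy' ⊢
  obtain ⟨α, hα⟩ := hy
  obtain ⟨β, hβ⟩ := hy'
  exact ⟨α * β, by rw [map_mul, map_mul, map_mul, hα, hβ]⟩

end Tm

section Psi

variable (p : ℕ) [hp : Fact p.Prime] {B : Type u} [CommRing B] [CharP B p]

/-- `Psi c y = [c] * F^(m-1) y`, with coefficients `c ^ p ^ j * y_j ^ p ^ (m-1)`. -/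
noncomputable def Psi (m : ℕ) (c : B) (y : WittVector p B) : WittVector p B :=
  WittVector.map (iterateFrobenius B p (m - 1)) y * WittVector.teichmuller p c

theorem Psi_coeff (m : ℕ) (c : B) (y : WittVector p B) (j : ℕ) :
    (Psi p m c y).coeff j = (y.coeff j) ^ p ^ (m - 1) * c ^ p ^ j := by
  rw [Psi, WittTeich.mul_teichmuller_coeff, WittVector.map_coeff, iterateFrobenius_def]

theorem Psi_sub (m : ℕ) (c : B) (y y' : WittVector p B) :
    Psi p m c (y - y') = Psi p m c y - Psi p m c y' := by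
  rw [Psi, Psi, Psi, map_sub, sub_mul]

theorem Psi_mul (m : ℕ) (c c' : B) (y y' : WittVector p B) :
    Psi p m (c * c') (y * y') = Psi p m c y * Psi p m c' y' := by
  rw [Psi, Psi, Psi, map_mul, map_mul]
  ring

end Psi

section Fil

variable (p : ℕ) [hp : Fact p.Prime] {A B : Type u} [CommRing A] [IsDomain A]
  [UniqueFactorizationMonoid A] [CommRing B] [Algebra A B] [CharP B p] {r : ℕ} (x : Fin r → A)
  (hx : ∀ i, Prime (x i)) (hxa : ∀ i j, Associated (x i) (x j) → i = j)
  [IsLocalization.Away (∏ i, x i) B]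

include hx hxa in
/-- Membership in `WittFil.fil` via `Psi` and `Tm`. -/
theorem mem_fil_iff (m : ℕ) (c : B) (y : WittVector p B) :
    WittVector.truncate m y ∈ WittFil.fil p m (A := A) c ↔ Psi p m c y ∈ Tm p (A := A) m := by
  have hp1 : 1 ≤ p := hp.out.one_lt.le
  constructor
  · intro h j hj
    have hj' := h ⟨j, hj⟩
    rw [WittVector.coeff_truncate] at hj'
    rw [Psi_coeff]
    have hexp : m - 1 = (m - 1 - j) + j := by omega
    have : y.coeff j ^ p ^ (m - 1) * c ^ p ^ j = (y.coeff j ^ p ^ (m - 1 - j) * c) ^ p ^ j := by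
      rw [mul_pow, ← pow_mul, ← pow_add, ← hexp]
    rw [this]
    exact Subring.pow_mem _ hj' _
  · intro h j
    have hj := h j j.2
    rw [Psi_coeff] at hj
    rw [WittVector.coeff_truncate]
    have hexp : m - 1 = (m - 1 - (j : ℕ)) + j := by have := j.2; omega
    have : y.coeff j ^ p ^ (m - 1) * c ^ p ^ (j : ℕ) =
        (y.coeff j ^ p ^ (m - 1 - (j : ℕ)) * c) ^ p ^ (j : ℕ) := by
      rw [mul_pow, ← pow_mul, ← pow_add, ← hexp]
    rw [this] at hj
    exact UFDAway.mem_range_of_pow_mem_range x hx hxa (Nat.one_le_pow _ _ (by omega)) hj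

end Fil

end WittFilLib
end Groth.Agent.Lib.Helper96
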