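import Groth.Agent.Lib.Helper96.WittFilLib

/-!
# `WittFil.fil` for a root closed base (helper96)

Version of `WittFilLib.mem_fil_iff` assuming only that `A` is root closed in `B`; closure of
`WittFil.fil` under subtraction; coefficients of `WittFil.vShiftTeich`.
-/

set_option autoImplicit false

namespace Groth.Agent.Lib.Helper96
namespace WittFilLib2

universe u

open WittVector WittFilLib

section Fil

variable (p : ℕ) [hp : Fact p.Prime] {A B : Type u} [CommRing A] [CommRing B] [Algebra A B]
  [CharP B p]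
  (hroot : ∀ (w : B) (k : ℕ), 1 ≤ k → w ^ k ∈ (algebraMap A B).range →
    w ∈ (algebraMap A B).range)

include hroot in
/-- Membership in `WittFil.fil` via `Psi` and `Tm`, for `A` root closed in `B`. -/
theorem mem_fil_iff (m : ℕ) (c : B) (y : WittVector p B) :
    WittVector.truncate m y ∈ WittFil.fil p m (A := A) c ↔ Psi p m c y ∈ Tm p (A := A) m := by
  have hp1 : 1 ≤ p := hp.out.one_lt.le
  constructor
  · intro h j hj
    have hj' := h ⟨j, hj⟩
    rw [WittVector.coeff_truncate] at hj'
    rw [Psi_coeff]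
    have hexp : m - 1 = (m - 1 - j) + j := by omega
    have : y.coeff j ^ p ^ (m - 1) * c ^ p ^ j = (y.coeff j ^ p ^ (m - 1 - j) * c) ^ p ^ j := by
      rw [mul_pow, ← pow_mul, ← pow_add, ← hexp]
    rw [this]
    exact Subring.pow_mem _ hj' _
  · intro h j
    have hj := h j j.2
    rw [Psi_coeff] at hj
    rw [WittVector.coeff_truncate]
    have hexp : m - 1 = (m - 1 - (j : ℕ)) + j := by have := j.2; omega
    have : y.coeff j ^ p ^ (m - 1) * c ^ p ^ (j : ℕ) =
        (y.coeff j ^ p ^ (m - 1 - (j : ℕ)) * c) ^ p ^ (j : ℕ) := by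
      rw [mul_pow, ← pow_mul, ← pow_add, ← hexp]
    rw [this] at hj
    exact hroot _ _ (Nat.one_le_pow _ _ (by omega)) hj

include hroot in
/-- `WittFil.fil` is closed under subtraction. -/
theorem fil_sub (m : ℕ) (c : B) {a b : TruncatedWittVector p m B}
    (ha : a ∈ WittFil.fil p m (A := A) c) (hb : b ∈ WittFil.fil p m (A := A) c) :
    a - b ∈ WittFil.fil p m (A := A) c := by
  obtain ⟨ã, rfl⟩ := WittVector.truncate_surjective p m B a
  obtain ⟨b', rfl⟩ := WittVector.truncate_surjective p m B b
  rw [← map_sub, mem_fil_iff p hroot, Psi_sub]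
  rw [mem_fil_iff p hroot] at ha hb
  exact Tm_sub p m ha hb

end Fil

section Shift

variable (p : ℕ) [hp : Fact p.Prime] {S B : Type u} [CommRing S] [CommRing B] [Algebra S B]

theorem vShiftTeich_coeff_of_lt (m s : ℕ) (v : B) (c : WittVector p S) (j : Fin m)
    (hj : (j : ℕ) < s) : TruncatedWittVector.coeff j (WittFil.vShiftTeich p m s v c) = 0 := by
  unfold WittFil.vShiftTeich
  rw [WittVector.coeff_truncate, WittVector.iterate_verschiebung_coeff_eq_zero _ hj]

theorem vShiftTeich_coeff_of_le [CharP B p] (m s : ℕ) (v : B) (c : WittVector p S) (j : Fin m)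
    (hj : s ≤ (j : ℕ)) : TruncatedWittVector.coeff j (WittFil.vShiftTeich p m s v c) =
      algebraMap S B (c.coeff (j - s)) * v ^ p ^ ((j : ℕ) - s) := by
  unfold WittFil.vShiftTeich
  rw [WittVector.coeff_truncate]
  obtain ⟨k, hk⟩ : ∃ k, (j : ℕ) = k + s := ⟨j - s, by omega⟩
  rw [hk, WittVector.iterate_verschiebung_coeff, WittTeich.mul_teichmuller_coeff,
    WittVector.map_coeff, Nat.add_sub_cancel]

end Shift

end WittFilLib2
end Groth.Agent.Lib.Helper96
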